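import Cfsg.Agent.OM.Lie.UL0_m3
import Cfsg.Agent.OM.Cu.Glue_mg_m3
import Cfsg.Agent.Lib.FinFast
import Cfsg.Agent.Lib.Refl
import Cfsg.Agent.LV.Cl.Em
import Cfsg.Agent.BZ.T.Loc
import Cfsg.Agent.H672.Ext
import Cfsg.Agent.H691.Back
import Cfsg.Agent.H588.RIM.Val_m3
import Cfsg.Agent.MK.C.Main_m3
import Cfsg.Agent.MK.T.D_m3
import Cfsg.Agent.DL.Dat.Tor
import Cfsg.Agent.H678.Codeg
import Cfsg.Agent.H689.Rat
import Cfsg.Agent.H946.ExcNum_m3
import Cfsg.Agent.H77.LFMain
import Cfsg.Agent.H402.LwU43_m3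
import Cfsg.Agent.H54.QA.PspTop
import Cfsg.Agent.H356.KillPSp_m3
import Cfsg.Agent.H390.Cocl
import Cfsg.Agent.H286.CS.PCo
import Cfsg.Agent.H190.Odd.TwExact
import Cfsg.Agent.H759.Reg.ESeven
import Cfsg.Agent.S2638
import Cfsg.Agent.S1063
import Cfsg.Agent.S1064
import Cfsg.Agent.S1066
import Cfsg.Agent.BH.PB_m3
import Cfsg.Agent.H614.AltBlk
import Cfsg.Agent.H677.PslThree_m3
import Cfsg.Agent.H637.TaskA
import Cfsg.Agent.H610.TableAlt_m3
import Cfsg.Agent.J3Type.CharTools
import Cfsg.Agent.SporadicB.DihedralLift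
import Cfsg.Agent.FastGrp
import Cfsg.Agent.Prune
set_option linter.all false

section
prune_inst 0x7f9cbdf82fad31dfdfff7e3ffed1dffc1180cfffa6dff943ffe0619f0b9f138009c57b851de010ff0ed6e09410b87813fb7eceffe86bdc7ffffd5ff41ffbee0fa5e73508519084240f340fff03f0778a6f3fffffffffffffffffffffffffffbefffdfbfeffff

-- part: OM/Cu/T95C_mg
section
set_option linter.all false

/-- decoders of the packed data (elaboration time only) -/
private noncomputable def pk61d (b S i : Nat) : Nat := Nat.mod (Nat.shiftRight S (Nat.mul b i)) (Nat.shiftLeft (nat_lit 1) b)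
private noncomputable def pk61f {α : Type} (t : Nat) (f : Nat → α) : α := Nat.rec (f Nat.zero) (fun k _ => f (Nat.succ k)) t
private noncomputable def pk61l {α : Type} (f : Nat → α) (s e : Nat) (tl : List α) : List α :=
  pk61f e fun e => Nat.rec tl (fun k ih => List.cons (pk61f (Nat.sub e (Nat.succ k)) f) ih) (Nat.sub e s)

-- part: OM/Cu/T95D
section
/-!
# OM / Cu : the class tables `E₇ E₈`, data (helper95, generated)
-/

set_option autoImplicit false
set_option maxRecDepth 100000

namespace Cfsg.Agent.OM.Cu.T95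

open Cfsg.Agent.BZ.TA Cfsg.Agent.BZ.TA.Cl Eng

def tE7 : Tb where
  n := 7
  K := 60
  R := 63
  nb := 0x772774753742631720771
  ip := 0x6543210
  rt := 0x33333340212343203333342021234310333342302123421043342330212332104342333021223210233433301123321044233330211232102342433011223210423333302012321033432430112222102423433011123210223343301012321033433240112221103424243011122210334333201122210032342430101222103424324011122110343234301111221034243320111221003234324010122110324234301011221034324240111121103234332010122100343243201111210033233430100122103242424010112110443323401111111032424320101121004433242011111100332342401001211042432340101111102433334001111110443332301111100033234320100121004243242010111100243334200111110043242340100111102243334000111110424332301011100024334230011110004324242010011100224334200011110043323340100011102324334000011110343423300111000043243230100110002243423000111000433234201000110023243420000111002332434000001110344233300110000032442330001100004332423010001000232442300001100023324420000011003333244000000110533323301000000035233330010000003252333000100000332523300001000023325230000010003333252000000100333332500000001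
  nx := 0x3e3e3e3e3e3e3d003d3d3d3d3d3c3e003c3c3c3c3b3d3c00393b3b3a3c3b3b00373a383b3a3a3a003b3939373939390034363a38383838003a37343935373700333836363636360035353135373235003833373431343400363433332f33330032322e3232353000312f352d342e310030302c30303032002f312f2a332b2f002e2b32292e312c002d2a2d312d292d002c2830272c2c2e002b2e2b252b2f28002a2d262f2a252a002925292e242d2700282c282328282b002723272c2227290026262a26262126002529212b202a23001f2024242924220023271d281c2325001b1c2222271e2400212125211a261d0019241a2025201c0024191f1f1f1f1b0017181e1e1e221e001d1d231d161d21001522161c2318200022151b1b1b171f00131a2014211a1600201f131919191500101e1118181c18001e101717121b17000e161c0f1d111a001c1b0e15151019000d14141a14140f001a13190d13130e00120b120c171212000911180a11161100181709100b151000080f0f160f0a1400160e15080e091300140d0d13070d08000c0405120c0c0c000b120304100b0b00020a0a11060f0a0011091002030e09000f08080e01020d00070707070d000100000606060a06060005000c0505050500040c000b0404040003030b00090303000a02020900080200010101010800070000000000000700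
  cw := 0x4221a2234458d11910d18d58f221a31ab1e44351d9916b3f0000000000000000000000000000000000000000000000000000000000000000000000000004d18ec68e443463563c8b531f00000000000000000000000000000000000000000000000000000000000000000000000000cc8868c6ac7910d18ecc8b52a100000000000000000000000000000000000000000000000000000000000000000000000000000001168c6b221a31ab1e441900000000000000000000000000000000000000000000000000000000000000000000000000000000029ab3221a31ab1e44170000000000000000000000000000000000000000000000000000000000000000000000000000000000000002d111ab916b0f00000000000000000000000000000000000000000000000000000000000000000000000000000000000a72c7916a3b32219500000000000000000000000000000000000000000000000000000000000000000000000000000000000001dc8b51d9910d1100000000000000000000000000000000000000000000000000000000000000000000000000000000000000000b563c886a0d0000000000000000000000000000000000000000000000000000000000000000000000000000000000000000006ac7910e0b000000000000000000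0000000000000000000000000000000000000000000000000000000000000000000000000158f22189000000000000000000000000000000000000000000000000000000000000000000000000000000000000000000000b1e440700000000000000000000000000000000000000000000000000000000000000000000000000005168c68d8d1c8b51d9916b1e00000000000000000000000000000000000000000000000000000000000000000000000000000000108868c688c8868c6b18000000000000000000000000000000000000000000000000000000000000000000000000000000000000000051688b916b0e00000000000000000000000000000000000000000000000000000000000000000000000000000000000000009ab916a3c88e0000000000000000000000000000000000000000000000000000000000000000000000000000000000000000000000458f060000000000000000000000000000000000000000000000000000000000000000000000000000000000000022f22d4766459000000000000000000000000000000000000000000000000000000000000000000000000000000000000000000000000a970600000000000000000000000000000000000000000000000000000000000000000000000000000000000000000000002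c790600000000000000000000000000000000000000000000000000000000000000000000000000000000000000000000277221880000000000000000000000000000000000000000000000000000000000000000000000000000000000000000000000ee440600000000000000000000000000000000000000000000000000000000000000000000000000000000000000005a2235916b0e0000000000000000000000000000000000000000000000000000000000000000000000000000000000000000000d58f22e0a000000000000000000000000000000000000000000000000000000000000000000000000000000000000000000002b1e4588000000000000000000000000000000000000000000000000000000000000000000000000000000000000000000000163c8860000000000000000000000000000000000000000000000000000000000000000000000000000000000000000016a3c886a0c0000000000000000000000000000000000000000000000000000000000000000000000000000000000000000000028f2218800000000000000000000000000000000000000000000000000000000000000000000000000000000000000000000011e4406000000000000000000000000000000000000000000000000000000000000000000000000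000000000000000000000163440600000000000000000000000000000000000000000000000000000000000000000000000000000000000000000a2d1b916b0d00000000000000000000000000000000000000000000000000000000000000000000000000000000000000000000000877050000000000000000000000000000000000000000000000000000000000000000000000000000000000000000000000088f050000000000000000000000000000000000000000000000000000000000000000000000000000000000000000000000058f050000000000000000000000000000000000000000000000000000000000000000000000000000000000000000135916a3c88d0000000000000000000000000000000000000000000000000000000000000000000000000000000000000000000004ee458700000000000000000000000000000000000000000000000000000000000000000000000000000000000000000000001dc885000000000000000000000000000000000000000000000000000000000000000000000000000000000000000000000011160500000000000000000000000000000000000000000000000000000000000000000000000000000000000000000000002c79050000000000000000000000000000000000000000000000000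000000000000000000000000000000000000000000004f2218700000000000000000000000000000000000000000000000000000000000000000000000000000000000000000000001e440500000000000000000000000000000000000000000000000000000000000000000000000000000000000000000000001a2285000000000000000000000000000000000000000000000000000000000000000000000000000000000000000000000023440500000000000000000000000000000000000000000000000000000000000000000000000000000000000000000145a3916b0c00000000000000000000000000000000000000000000000000000000000000000000000000000000000000000000000077040000000000000000000000000000000000000000000000000000000000000000000000000000000000000000000000010e8400000000000000000000000000000000000000000000000000000000000000000000000000000000000000000000000111840000000000000000000000000000000000000000000000000000000000000000000000000000000000000000000000058f0400000000000000000000000000000000000000000000000000000000000000000000000000000000000000000000009e458600000000000000000000000000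0000000000000000000000000000000000000000000000000000000000000000000003c8840000000000000000000000000000000000000000000000000000000000000000000000000000000000000000000000022204000000000000000000000000000000000000000000000000000000000000000000000000000000000000000000000003440400000000000000000000000000000000000000000000000000000000000000000000000000000000000000000000000077030000000000000000000000000000000000000000000000000000000000000000000000000000000000000000000000000a03000000000000000000000000000000000000000000000000000000000000000000000000000000000000000000000000218300000000000000000000000000000000000000000000000000000000000000000000000000000000000000000000000044030000000000000000000000000000000000000000000000000000000000000000000000000000000000000000000000000102000000000000000000000000000000000000000000000000000000000000000000000000000000000000000000000000040200000000000000000000000000000000000000000000000000000000000000000000000000000000000000000000000000010000000000000000000000000000000000000000000000000000000000000000000000000000000000000000000000000000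
  od := 0x2060406060a06081e0c0e12020304060c040f060c080606080a06090c07020606040404060c060c080a060202060304040604050202060402030201
  bd := 0x444144c4404441444440404060a16461e160a4e56064e4612064a020a02060e0e161616461e4e5606064e06060e0a161246160206060e16060a0602
  jt := 0x2f2f2f2f2f2f2f2f2f2f2f2f2f2f2f2f2f2f2f2f2f2f2f2f2f2f2f2f2f2f2f2f2f2f2f2f2f2f2f2f2f2f2f2f2f2f2f2f2f2f2f2f2f2f2f2f2f2f2f2f2f2f2f2f2d2d2d2d2d2d2d2d2d2d2d2d2d2c2d2f2d2d2d2f2d2c2c2d2d2d2d2c2d2d2d2d2c2d2c2d2d2c2d2c2d2d2d2d2d2c2d2c2d2c2c2c2d2d2d2c2d2d2d2c2d2d2d2b2b2d2b2d2b2b2d2b2b2d2b2b2b2b2b2b2b2b2b2b2d2a2b2b2d2b2b2b2b2d2b2b2b2b2b2b2b2b2b2b2d2b2d2b2b2b2b2d2b2b2b2b2b2b2d2b2a2b2b2a2b2b2b2b2b2e292b2b292b29282b292b28292b2e28292b2b2b28292b292b28292e2b2b2929282b29292b282929292b2829292b2b282929282b2929292928282b28282c2825252728282c28272828282728272c2728252527242c27282528282c27282c282425282828272727282827272728272725252428272528272828282d2b2b2b2d2d2b2b282b2c252b282c2b282b262b282b282d2628252528262c2828282626262b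262622282c2c2522282b2626282d2b2628262625262b2822262424242124242121242424212421242421242124212424242421212121242424212424242121242421212424212121242421242424242124212121212124242b2b252929292a29282a282a282928291e292929291e1e292529271e2b272525252725251e2b262629271e291e1e25291e291e1e1e1e1e2828281e231e282a1e1e27271e1e1e272324231e1e231e2021201e2423232324221e2321272020211e202120202723231e23222323241e23221e2020202020201e2123202420232828281e2626261e1e261e262224261e241e282028201e1e2624222422221e20262620202026201e20222622221e2222221e1f1f222620281f2022202024242929292828281e27271e1e281e2729292322271e1e231e2828201f1e1e232220292223201e27271e20231f292220221f1e1e271f1e1f1f28222020221f23232b2b2b2b292928282926292b281e2b281e262926292228262b1e221e28281f1f2b261e1f2226291e22221e292926221f1e2b26261f1f28281e1f1f1f2222223b3a3a3a3a3a3a3a3a3a3a3a3a3a1d3a3a3a1d3a3a3a1d1d3a3a3a1d1d3a3a3a1d1d1d1d3a3a1d1d1d1d3a3a1d1d1d1d1d3a1d1d1d1d1d3a1d1d1d1d1d1d3a38383838383838381b38381b3838381b3838381b1b381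b381b1b381b381b1b38381b1b381b1b1b381b1b1b1b381b1b1b1b1b381b1b1b1b1b1b381b1b1b1b1b3a3939393a3a36393639363639363a3636363636363636361c363636361c3636361a36361c3636361a361d1d361a361c1c1c36361c1c1a1c1c19361c1a1a1c3a363636363636363736373636371d3636371a3736361a1a3637361a1a3637371d171a193636191a171d36361a1a1a171a361a1a1a171a361a191a17171a3639393938383838383836383836343636343634363436363636343034303630303036303030303030303030301b30303030301c1c3030301a161b1b1b301a1a39343434343434343434343434341a3434341634343416193434341a163434341a16161a3434191618193434191616161634161a1a181a34161a161616163438383838343834343434343434343434343034343031343030313130313131303030313131303031313116303030311b311b12301b311b1b1612123016161638383636343437373436343630343037313631303432303236313031303031311a30313132321b12323231311b1a1a3131301a1a121b3030121212121a30153434343737373137313431313431343133313133313331311a33313133183131311a3333123131311233121231123112121231311212121a1714311712181836363636343430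36303630303632363232303032303230321c323232321a3230301c3232173030321a321212301c3212121c303012121a1a1213301217171736343434363634341b3437193434371b3434341b1b341236121b37193412193434121234121b1234111219193611121b121234191b1212121236121b12111237323233323232333332333232351733323315333233111132353215153233331717111433321411141732321511151715331111151711321114151414153234313131313133333333333131331631333318333331161531333111113333331615151433331811111831311514151316311811111111311514141513153136303030313132323132313030331a323132163231321a1730333016153231311a1a11133232161115173131161715111630171713111a301113131315153033333333333333331135331133333314353333141433113511113314331414333314143314141133111411143314111411113314141414141133141414141431313132323233331233321233313112333233111133123212143212331413313111113311141232141413123214111311113113111313121331141313141430303030313131311b32301b313130123230311212311b321b113112311213303012123113131b311113111230121113111b301213131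212113013131313133434343434303431343231303133303133323132313331323033313331313211303233123112311633163016163216311616121231121212301111111111112f2d2d2d2d2d2c2d2c2d2c2c2d2c2f2c2c2c2c2c2c2c2c2c2d2c2c2c2c2d2c2c2c0f2c2c2d2c2c2c0f2c2d2d2c0f2c0f0f2d2c2c0f0f0f2d0f102c0f0f0f2d2d2d2d2b2b2b2b2b2b2d2b2b2d262d2626262626262626262d262626262d2626262d262626262626262626262b26262626262b2b2626260f0e0e2b0e260f0f2b2b2b29292929292e28292e2828282528282825252825282525292529251f2929251f291f1f1f291f1f1f1f2b1f1f1f1f1f2b0e1f1f1f0e0d2b0e0e1f0e0e2b2b2d2828282828282c2828262a262c272c27262a2626262c272227222622222826222222222828222222220e28282222220f0f2828222b090e0e0e282b0c2d252525252525252525252525252c2525252a2525250e2a2525250e2a2525252c090e2c2525102a091025252a0e0e090e252a0e0e090e250e2c0e09090e252a272727272723272327232327232a2323232323232323232723232323272323230c232327232323092327272309230909272323090909270c0b230c090c272c262626272722262226222226242c2422222222222422222624222224262222220f2422262222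240c222727220f24090926222209090f26090a22090c0c26292929292a2b2a1e2a1e1e1e1e1e1e1e1e221e1e22231e22222322222323221e2222231e221e221e231e291e1e221e291e0d091e291e0e0e2909091e0d0d0d28282222232324242322232222232224232223222324222422232223222223230c22232324240d08242423230d0c0c2323220c0c080d2222080808080c222823232324242420242023202023202320212020212021202009212020210b20202009212108202020082108082008200808082020080808090a27200a080b0b2222222223231f221f221f1f22202220201f1f201f201f200e2020202009201f1f0e20200a1f1f20092008081f0e2008080e1f1f0808090908261f080a0a0a252525252528292829281f1f28202820201f1f201f201f2026201f2020271f1e1f26201e271e1f1e271e26091e261e270e0e1e1e270e0e0e26081e090909091e1e1e1e1e221e232524221f232322202422232020231f241f2122202320201e2220201e20081f1e21091f091e200d200d0d1e09200909091f1e08080808081d191919191919191919191919191d1919191919191919191919191919191919190619191919191906191919190619060619191906060619061d19060606191c1c1d1a1a1a1a1a1a1d1a1a1c1a1c1a171a17171a17171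71d171717171c17171a1c171717171a1a171717171a1a1a1717171a1a1a1a171c06061a061a1c071919191b1b1b1b1b1b1a1b1b1a131a1313131313131313131a131213121a1212121a121212121212121212121612121212121616121212061c05160512060616161616161616161b15161b15151511151515111115111511111611161111161611111611111116111111111611111111111605111111051b1605051105051a1a1a151515151515171515171817171817181718171717171815181517151515171515151515151515151505151515151507071515151a04050505151a1a18141414141414141414141414141814141414141414141414141414141414141404141414141414041414141404140404141414040404140418140404041417131313141413131313131313141714131313131314131313141313141313131306141313131314041314141306140404131313040406130417130404041312121212161a1611191111121111111211171112131812171314171318141312171314121311131214111211121311121105161112110606121604110505051111111111151215121513131514151414131314131413141314131414141311131314111411131114111304111311140505111114050505131211040404040f0f0f0c0c0c0c0c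0c0f0c0c0f0c0f0c0c0c0c0c0c0c0c0c0f0c0c0c0c0f0c0c0c0f0c0c0c0c0c0c0c0c0c0c0c0c0c0c0c0c0c0c0c0c0c0f03030c030c0f0f0e0e0e0e0e0f0e091009090e0909090e090f090e0e090e090e0a090a090a0a0e0f0a0a0e0a090e0e0a090e090e0e090e09090e090e0909090e0e03090309030909090d0d0d0e0d0e0c0e0e0c080c08080808080808080809080908090909090909090908090909080908080d08090808080d0d080808030e0e0d0208030308080808090c09080908080808080808080a08080a0b080a0a0b0a0a0b0b0a080a0a0b080a080a080b080808080a0808080209080808030308090908020202050505050607060506050505050505050506050506040504060404040404040506040405040506050405050505060505050406050505040405060605010401040404050505050505040505040404040404040404040404040404040404040404040404040404040404040405040404040405050404040105050505040101020203030303030303030303020302030203020203020202030202020202020203020202020203030202020203030302020203030303020203030303030200010101010101010101010101010101010101010101010101010101010101010101010101010101010101010101010101010101010101010101010101010101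

end Cfsg.Agent.OM.Cu.T95
end

-- part: OM/Cu/T95C
section
/-!
# OM / Cu : the class tables `E₇ E₈`, roots, classes, kills (helper95, generated)
-/

set_option autoImplicit false
set_option maxRecDepth 100000

namespace Cfsg.Agent.OM.Cu.T95

open Cfsg.Agent.BZ.TA Cfsg.Agent.BZ.TA.Cl Eng

theorem basE7 : tE7.bas (cT 2 7) = true := by decide +kernel

theorem clsE7 : aL tE7.cls tE7.K = true := by decide +kernel

end Cfsg.Agent.OM.Cu.T95
end

-- part: OM/Cu/T95R7
section
/-!
# OM / Cu : the class tables `E₇ E₈`, the rows of `E₇` (helper95, generated)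
-/

set_option autoImplicit false
set_option maxRecDepth 100000

namespace Cfsg.Agent.OM.Cu.T95

open Cfsg.Agent.BZ.TA Cfsg.Agent.BZ.TA.Cl Eng

noncomputable def rE7_0 : List (List ℕ) :=
  (by
  refine (?fq9001 : ((pk61l (fun i1 => (pk61l (fun i2 => (pk61d (nat_lit 53) 
    (nat_lit 0x80400000000108840000000211683000000422d46200000845a8ec14000000042390600000000000408000000000840c0000000108b0a0000000084705000000108b503800002116a3a240000000000a04000000001098400000000085820000000108b8180000000845e0c00000108b528800000000014c18000000000ac0c0000000109c0a0000000084f05000000108b9438000000845cc1c0000000029c080000000014f0400000002139430000000109cc18000000084f20c00000108b970800000000539428000000029cc14000000014f20a0000002139707000000109cc83800000014e5c180000000a7320c000000053c88600000084e5c8400000042732620000000539720e00000029cc88700000014e64c3800002139726240000029cb91100000014e5c988000000a7322c40000109cb93828000014e5c8b1200000a72e4e090000053991684800014e5c8b4280000a72e45c140000539916b0a00014e5c8b5058000a72e45ac2c0029cb916a3180014e5c8b530c00539722d4786814e5c8b51e438539722d47911f4e5c8b51e4410)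 i2)) (nat_lit 0) (nat_lit 63) List.nil)) (nat_lit 0) (nat_lit 1) List.nil) : List (List ℕ))
    = ?xq9001 → (List (List ℕ))) ?hq9001; (case hq9001 => (set_option maxRecDepth 1000000 in conv => lhs; reduce)); intro _; exact ?xq9001 : List (List ℕ))

theorem rowsE7_0 : tE7.rows rE7_0 0 = true := by decide +kernel

noncomputable def rE7_1 : List (List ℕ) :=
  (by
  refine (?fq9002 : ((pk61l (fun i1 => (pk61l (fun i2 => (pk61f i2 fun j => (fun g : Nat → Nat => Nat.mod (Nat.shiftRight 
    (nat_lit 0xd02035184d476061902010101018103016a031a8e85010209820b020e020f0203528409830b034e034f03728373034e044f0402728402730402790403970402728502730502790513970513990513970613990605344468e44346129cb9069cc9869cb907a6888d1c8868919cc98704e5c98705344468dc88689204e5c98814d111ac886890272e4e08a6888d5c886891272e4e09029a31ac88688f14d18d5c8868900534446ae443461214d18d64434710a68c6ae4434611a68c6ae443471105346357221a319205346357221a331229a31ab910d18f13014d18d5c8868c79141397221a31ac8868951397221a31ac886896)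 (Nat.mul (nat_lit 8) (g j))) (Nat.shiftLeft (nat_lit 1) (Nat.mul (nat_lit 8) (Nat.sub (g (Nat.succ j)) (g j))))) (pk61d (nat_lit 8) 
    (nat_lit 0xf3f3f3f3f1eeebe9e8e6e4e2e0dddbd9d7d5d3d0cecccac8c6c4c2c0bdbab7b4b1aeaba8a5a29f9794918e87848078746d69625e575048413a332b231b120900)))) (nat_lit 0) (nat_lit 63) List.nil)) (nat_lit 0) (nat_lit 1) List.nil) : List (List ℕ))
    = ?xq9002 → (List (List ℕ))) ?hq9002; (case hq9002 => (set_option maxRecDepth 1000000 in conv => lhs; reduce)); intro _; exact ?xq9002 : List (List ℕ))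

theorem rowsE7_1 : tE7.rows rE7_1 1 = true := by decide +kernel

noncomputable def rE7_2 : List (List ℕ) :=
  (by
  refine (?fq9003 : ((pk61l (fun i1 => (pk61l (fun i2 => (pk61f i2 fun j => (fun g : Nat → Nat => Nat.mod (Nat.shiftRight 
    (nat_lit 0x811182047604044347221a3910040201010181030102018e83040209820b020e020f021282218323034e034f0372837303010e04010f040272840273040d111a3910d18d13039704087285087305010d111a3910d18d1413970501a2235910d18d1243970621a2235910d18d130d111a3910d18d120d111ac8868c6a9334635910d18d11010d111ac8868c6a9401a2235910d18d110434635910d18d1201a31ac8868c6a920d111ac8868c6a9221a31ac8868c6a9334635910d18d100d18d6443463561301a31ac8868c6a91010d18d6443463561401111a23221a39120888d117221a39130d18d64434635612222347221a3911444688b910d1991401111a37221a391202223445c8868cc9950888d1b910d1991344468dc8868cc994072e4434635910d18d17272e4434635910d18d18872e4434635910d18d19) (Nat.mul (nat_lit 8) (g j))) (Nat.shiftLeft (nat_lit 1) (Nat.mul (nat_lit 8) (Nat.sub (g (Nat.succ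 j)) (g j))))) (pk61d (nat_lit 9) 
    (nat_lit 0x9dcea753a9d4e26b2e964aa51269248a411e8e46a31168a44a210e8642a0f0480bf9ecf3783b5c8e16cb599cc65f2dd5ca64f2591c863f9dcde662f1589c471f8dc5c260f0501400)))) (nat_lit 0) (nat_lit 63) List.nil)) (nat_lit 0) (nat_lit 1) List.nil) : List (List ℕ))
    = ?xq9003 → (List (List ℕ))) ?hq9003; (case hq9003 => (set_option maxRecDepth 1000000 in conv => lhs; reduce)); intro _; exact ?xq9003 : List (List ℕ))

theorem rowsE7_2 : tE7.rows rE7_2 2 = true := by decide +kernel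

noncomputable def rE7_3 : List (List ℕ) :=
  (by
  refine (?fq9004 : ((pk61l (fun i1 => (pk61l (fun i2 => (pk61f i2 fun j => (fun g : Nat → Nat => Nat.mod (Nat.shiftRight 
    (nat_lit 0x10884010188688616020110d1c98a01028868870110d1c989044346070281010982110d1c88688e04434608e64e06221a32880983110d1c88688d4e039ac986221a32891cc9854e049ac98702728404d64e071ac985e5c98602728504d64e081ac98626b27288d64e0626b27289d64e070e6443460a06b27287271ac98806b2728801cc886889271ac9890138d5c9890e5c88688a0138d5c98a0271ac88688c09c6ae4e0a138d5c88688d09c6ae4e0b0271ac88688d138d5c88688e9c6ae443460ed11910d1c98e9c6ae443460f0688b910d1c98f0221a31ab18c3445c8868e4e104e357221a31ac9934e357221a31ac99404e357221a31ac88689704e357221a31ac886898) (Nat.mul (nat_lit 8) (g j))) (Nat.shiftLeft (nat_lit 1) (Nat.mul (nat_lit 8) (Nat.sub (g (Nat.succ j)) (g j))))) (pk61d (nat_lit 9) 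
    (nat_lit 0x8340e03017f3f9f8f77abd5e4ed74b9dcce46f369aed368b2d92c6612fd7aba5bacd60ad55299469f4e2612a9046221087f3d9d8e26c33184b65628128883e1c0c456240e0501400)))) (nat_lit 0) (nat_lit 63) List.nil)) (nat_lit 0) (nat_lit 1) List.nil) : List (List ℕ))
    = ?xq9004 → (List (List ℕ))) ?hq9004; (case hq9004 => (set_option maxRecDepth 1000000 in conv => lhs; reduce)); intro _; exact ?xq9004 : List (List ℕ))

theorem rowsE7_3 : tE7.rows rE7_3 3 = true := by decide +kernel

noncomputable def rE7_4 : List (List ℕ) :=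
  (by
  refine (?fq9005 : ((pk61l (fun i1 => (pk61l (fun i2 => (pk61f i2 fun j => (fun g : Nat → Nat => Nat.mod (Nat.shiftRight 
    (nat_lit 0x88201011602087910d1c98e04020181017910d1c98d0201028144030982017910d1c98c0e0229841282440302135910d1c98f4e0329847283014e05022204534407027284014e0501c9850a7286111285029a22080a23060a72860e4e0614d1128951130702322d0872728788d11910d1c9920288970811916a0928d11910d1c991044688b910d1c9938c8b528a014688b910d1c9920518d11910d1c992223445c8868e4e1428c688b910d1c9930a3445c8868e4e130438d11910d1c99321c688b910d1c99401463445c8868e4e1404d11910d1c990010e3445c8868e4e152688b910d1c9910221a31ab18c013445c8868e4e12097221a31ac8868c6b17397221a31ac8868c6b1801397221a31ac8868c6b1908897221a31ac8868c6b1a) (Nat.mul (nat_lit 8) (g j))) (Nat.shiftLeft (nat_lit 1) (Nat.mul (nat_lit 8) (Nat.sub (g (Nat.succ j)) (g j))))) (pk61d (nat_lit 9) 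
    (nat_lit 0x8f472351a8d46a3112884421d088341205007d3e1ecf4793add2e772b89bedc6cb59a6d066b258cc3602f172b5592ad4ea34e2512088401e0e068301609e481f8e0642a100581600)))) (nat_lit 0) (nat_lit 63) List.nil)) (nat_lit 0) (nat_lit 1) List.nil) : List (List ℕ))
    = ?xq9005 → (List (List ℕ))) ?hq9005; (case hq9005 => (set_option maxRecDepth 1000000 in conv => lhs; reduce)); intro _; exact ?xq9005 : List (List ℕ))

theorem rowsE7_4 : tE7.rows rE7_4 4 = true := by decide +kernel

noncomputable def rE7_5 : List (List ℕ) :=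
  (by
  refine (?fq9006 : ((pk61l (fun i1 => (pk61l (fun i2 => (pk61f i2 fun j => (fun g : Nat → Nat => Nat.mod (Nat.shiftRight 
    (nat_lit 0x68830d02018144347221a32e4e1403440405830f02018102812183822f040e0203010e820402010f044e03070372837303010e0423030272840273040d111a3910d18d13039704087285087305010d111a3910d18d14139705635910d18d0f43970604e35910d18d0f0d111a3910d18d12031ac8868c6a9002235910d18d10271ac8868c6a90235910d18d0d04e35910d18d10111ac8868c6a91011ac8868c6a8e271ac8868c6a91235910d18d0e04d4c8868e4e0f011ac8868c6a8f0146acc8868e4e110221a31ac8868c6a944434635910d18d1326acc8868e4e10110d18d644346357150139635910d18d110221a31ac8868c6b140539635910d18d1209cb1ac8868c6b1229cb1ac8868c6b13072e4434635910d18d17272e4434635910d18d18872e4434635910d18d19) (Nat.mul (nat_lit 8) (g j))) (Nat.shiftLeft (nat_lit 1) (Nat.mul (nat_lit 8) (Nat.sub (g (Nat.succ j)) (g j))))) (pk61d (nat_lit 9) 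
    (nat_lit 0x964aa51269349a4d1e8dc6633178ac4e23108743215088340e02ff7ebedf0f679bc1d0e57137dacd366b2986bb5a2b54ca04ca4916843f1dce0682f95ca0471f8d85c260f0501400)))) (nat_lit 0) (nat_lit 63) List.nil)) (nat_lit 0) (nat_lit 1) List.nil) : List (List ℕ))
    = ?xq9006 → (List (List ℕ))) ?hq9006; (case hq9006 => (set_option maxRecDepth 1000000 in conv => lhs; reduce)); intro _; exact ?xq9006 : List (List ℕ))

theorem rowsE7_5 : tE7.rows rE7_5 5 = true := by decide +kernel

noncomputable def rE7_6 : List (List ℕ) :=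
  (by
  refine (?fq9007 : ((pk61l (fun i1 => (pk61l (fun i2 => (pk61f i2 fun j => (fun g : Nat → Nat => Nat.mod (Nat.shiftRight 
    (nat_lit 0x34446888010103518401344468890221a31ab18c443472728c0102013444688a443472728b344468880221a31ab18d01135185044347221a3290344468890443463b327290221a3288135186044347221a328f035184108c6b08221a32890443463b32728f03518510e359090272846359075c6b0702728402728502235908021c6b080ac6b2728a0c6b060ac6b2728b446b07443463b3221a329402c6b2728944347221a31ab19402c6b2728a443463b3221a329344347221a31ab1939a8ec6b2728e221a32889a8ec6b2728f0443463b3221a31ab1981a8ec6b2728d09a8ec6b221a32921a8ec6b2728e0443463b3221a31ab19709a8ec6b221a329301a8ec6b221a32910c6b0601a8ec6b221a3292022d476644347272950221a31ab18c022d4766443472729422d4766443463b32729922d4766443463b32729801397221a31ac8868c6b1905397221a31ac8868c6b1a) (Nat.mul (nat_lit 8) (g j))) (Nat.shiftLeft (nat_lit 1) (Nat.mul (nat_lit 8) (Nat.sub (g (Nat.succ j)) (g j))))) (pk61d (nat_lit 9) 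
    (nat_lit 0xa953a9949a25127d399bcde652d94c8e451f8c4521b09833fdf8f87a3b5d4e671b81bada6bb4d9eca63b097eb7592a94a9d4aa3d16853d9d4da672e9549a4a210e4662a100581600)))) (nat_lit 0) (nat_lit 63) List.nil)) (nat_lit 0) (nat_lit 1) List.nil) : List (List ℕ))
    = ?xq9007 → (List (List ℕ))) ?hq9007; (case hq9007 => (set_option maxRecDepth 1000000 in conv => lhs; reduce)); intro _; exact ?xq9007 : List (List ℕ))

theorem rowsE7_6 : tE7.rows rE7_6 6 = true := by decide +kernel

noncomputable def rE7_7 : List (List ℕ) :=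
  (by
  refine (?fq9008 : ((pk61l (fun i1 => (pk61l (fun i2 => (pk61f i2 fun j => (fun g : Nat → Nat => Nat.mod (Nat.shiftRight 
    (nat_lit 0x4020139664e090344468d990c02810344468e4e0c0344468d8d0c8109cb322e0a272e4e0809a9664e0a0e824e59910e0b0139722e094d4b322e0b13b90501352e4e09018109cb910e0a026a59910e0c9dc88609a9722e0a0279049ab90604ee44074d4b910e0b13c88504d5c8874279061359059e440626ae44080a79059ac88608b5722d0a04d6440745ab910d0b53c8860116b22d0945a3722d0b08b5910d0a022d5c88688c022d1b910d0c08b4722d0a45ac88688b45a3910d0b1168dc88688d04272e4e0a022d1c88688ca72e4e09221a37221a3910044347221a390f0539722e0a0110d117221a39110221a37221a32e4e14221a23221a391044347221a32e4e13110d117221a32e4e150221a23221a32e4e14539722d4790e029cb916a3c88f14e5c8b51e4410) (Nat.mul (nat_lit 8) (g j))) (Nat.shiftLeft (nat_lit 1) (Nat.mul (nat_lit 8) (Nat.sub (g (Nat.succ j)) (g j))))) (pk61d (nat_lit 9) 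
    (nat_lit 0x954aa51238ec6e2b0f874260b007f3f9f2f477bb1cee570369aed267b3190c3602f172b659abd58a952281369849a3912833e9e0e66e3418cba592912c8c3e1a8b84c1d0a0380e00)))) (nat_lit 0) (nat_lit 63) List.nil)) (nat_lit 0) (nat_lit 1) List.nil) : List (List ℕ))
    = ?xq9008 → (List (List ℕ))) ?hq9008; (case hq9008 => (set_option maxRecDepth 1000000 in conv => lhs; reduce)); intro _; exact ?xq9008 : List (List ℕ))

theorem rowsE7_7 : tE7.rows rE7_7 7 = true := by decide +kernel

noncomputable def rE7_8 : List (List ℕ) :=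
  (by
  refine (?fq9009 : ((pk61l (fun i1 => (pk61l (fun i2 => (pk61f i2 fun j => (fun g : Nat → Nat => Nat.mod (Nat.shiftRight 
    (nat_lit 0x68830d020181022d0409820201028144038868868868860e02030112820344040344044e035903728344688c886b0f03440403440402728414688c886b0e026b040223445c886b101a2285a3446443470f422d06a3445c886b0f221c688c886b11051a22e4434710146344644347108868860110e3445c886b12021c688c886b10a31a22e4434711a31a23221a3911088d11916b0e10e3445c886b110518d117221a391244688b916b0f0888d644346359120422d4760a4446b221a31ab913111910d4760d46b221a31ac9910235910d18d5c992108b51a22c689001910d18d64434635716023221a31ab18f3221a31ac8868c6b152322d4760b017221a31ac8868c6b16097221a31ac8868c6b17397221a31ac8868c6b180221a37221a31ac8868c6b1c0d117221a31ac8868c6b1a) (Nat.mul (nat_lit 8) (g j))) (Nat.shiftLeft (nat_lit 1) (Nat.mul (nat_lit 8) (Nat.sub (g (Nat.succ j)) (g j))))) (pk61d (nat_lit 9) 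
    (nat_lit 0x97cb6572994ca65329934924924914823d1b8c45a291287c32150883401fafa7bbc5dce772379b6d56731d80bd5aab94ea04d24d16853e9e0e06a3196ca84a218e86a2b1085c1600)))) (nat_lit 0) (nat_lit 63) List.nil)) (nat_lit 0) (nat_lit 1) List.nil) : List (List ℕ))
    = ?xq9009 → (List (List ℕ))) ?hq9009; (case hq9009 => (set_option maxRecDepth 1000000 in conv => lhs; reduce)); intro _; exact ?xq9009 : List (List ℕ))

theorem rowsE7_8 : tE7.rows rE7_8 8 = true := by decide +kernel

noncomputable def rE7_9 : List (List ℕ) :=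
  (by
  refine (?fq9010 : ((pk61l (fun i1 => (pk61l (fun i2 => (pk61f i2 fun j => (fun g : Nat → Nat => Nat.mod (Nat.shiftRight 
    (nat_lit 0x468848d0311820201021e4434727290040271835e443472728f02012344050846055e443472728e118263446443518f128202220484d6443472729101088404e3446443518f72830223446443519044038463446443519102728404e3446443519023446443518d0a72861112850422234464435192d4688c8b518e0a728623446443518e14d11289d4688c8b518f9c688c8b518e72728708d116347221a31ab198028897089c688c8b518f88d116347221a31ab19906c6b221a31ab193a21a328a0296344644347272950538d116347221a31ab19a22c6b221a31ab194519634464434727296563446443472729408d116347221a31ab19702c6b221a31ab1910a36344644347272950c6b0602c6b221a31ab1920a344644347272930221a31ab18c0134464434727292097221a31ac8868c6b17397221a31ac8868c6b1801397221a31ac8868c6b1908897221a31ac8868c6b1a) (Nat.mul (nat_lit 8) (g j))) (Nat.shiftLeft (nat_lit 1) (Nat.mul (nat_lit 8) (Nat.sub (g (Nat.succ j)) (g j))))) (pk61d (nat_lit 9) 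
    (nat_lit 0xaad4aa14ea65329945a1d0e833b9dce66d3396cae4b23904662d0f86c1a08fd7d3cddaea73b7db2d6683318cc05eacd5ea94fa5d268a3f9dcdc662e1509648200e0642a100581600)))) (nat_lit 0) (nat_lit 63) List.nil)) (nat_lit 0) (nat_lit 1) List.nil) : List (List ℕ))
    = ?xq9010 → (List (List ℕ))) ?hq9010; (case hq9010 => (set_option maxRecDepth 1000000 in conv => lhs; reduce)); intro _; exact ?xq9010 : List (List ℕ))

theorem rowsE7_9 : tE7.rows rE7_9 9 = true := by decide +kernel

def rE7_10 : List (List ℕ) := [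
  [0x6344644351e4412, 0x221c68d8d645a8ecc898, 0xa71a3635916a3b315, 0x2346c6b22d47611, 0x222346c6b22d47614, 0x1a22346c6b22d47615, 0xa2e3472728d, 0x222346c6b22d47614, 0x145c68e4e0c, 0x22346c6b22d47613, 0x221a8d1c8b5290, 0x44351a3916a0f, 0x2346c6b22d47612, 0xd111a391728f, 0x634722e0a, 0x1a2234722e0e, 0x31a391728b, 0x1111a391728e, 0xa2e344645a8ee4415, 0x634722e0a, 0x22234722e0d, 0x1111a391728e, 0x145c688c8b51e4414, 0x221a8d11910d18ee4418, 0x29e4407, 0x22234722e0d, 0x31a391728c, 0x44351a23221a31e4417, 0xd111a23221a8ee4417, 0x14f04, 0x634722e0b, 0x111a391728d, 0x31a23221a8ee4413, 0x3221a8f09, 0x1a22344644351e4416, 0x1111a23221a8ee4416, 0x0, 0x2234722e0c, 0x6344644351e4412, 0x1111a23221a8ee4416, 0x344468e4e0d, 0x222344644351e4415, 0x4403, 0x34404, 0x31a23221a8ee4414, 0x1910e06, 0x222344644351e4415, 0x2688c888, 0x2c886888, 0x4403, 0x111a23221a8ee4415, 0x6344644351e4413, 0x322185, 0x1a2305, 0x64434608, 0x402, 0x34404, 0x0, 0x22344644351e4414, 0x64404, 0xd111a3916a0f, 0x1a2234722e0e,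 0x1]]

theorem rowsE7_10 : tE7.rows rE7_10 10 = true := by decide +kernel

def rE7_11 : List (List ℕ) := [
  [0xa344644351e4412, 0x84d468d8d645a8ecc899, 0x2346c6b22d47611, 0x2d18d1b1ac8b51d9917, 0x116a346c6b22d47615, 0x2116a346c6b22d47617, 0x16a3472728c, 0x116a346c6b22d47616, 0x2d468e4e0b, 0x22346c6b22d47613, 0x53463472728e, 0xa68c68e4e0d, 0x2346c6b22d47612, 0x4271a391728e, 0x2d468e4e0b, 0x84e34722e0d, 0x231a391728c, 0x145c68e45a8e90, 0xa6a344645a8ee4415, 0x4634722e0b, 0x28b8d1c8b518f, 0x271a391728c, 0x14d4688c8b51e4414, 0xc688c8868c7722195, 0x53c986, 0x4e34722e0b, 0x231a391728d, 0x18d11910d18f22194, 0x28b8d11910d18ee4417, 0x0, 0x4634722e0c, 0x271a391728d, 0x51a23221a8ee4413, 0x4344468e4e0e, 0x5171a23221a31e4416, 0x851a23221a8ee4415, 0x51c886, 0x4e34722e0c, 0xa344644351e4412, 0x1171a23221a8ee4415, 0x2d11907, 0x10a344644351e4414, 0x22d04, 0x422d06, 0x1171a23221a8ee4416, 0x164405, 0x22e344644351e4414, 0x1910d06, 0x8c886889, 0x22d05, 0x51a23221a8ee4414, 0x22e344644351e4415,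 0x34404, 0x9a2306, 0x688c987, 0x402, 0xd111a3916a0f, 0x0, 0xa344644351e4413, 0x6888d1c8b5190, 0x322185, 0x21a2234722e0f, 0x1]]

theorem rowsE7_11 : tE7.rows rE7_11 11 = true := by decide +kernel

noncomputable def rE7_12 : List (List ℕ) :=
  (by
  refine (?fq9013 : ((pk61l (fun i1 => (pk61l (fun i2 => (pk61f i2 fun j => (fun g : Nat → Nat => Nat.mod (Nat.shiftRight 
    (nat_lit 0x40201014688c8b51d991108d11916a3b910011a2322d4790f0344468d8d0c81088202b1840b021182440311b185470303970404760402344645a8ecc99288b1860223040b97050c7605030172834397064476060702017284063563c98a2303087285223563c98b81463563c98b040202223563c98c0111ab1e458c023563c989463563c98b023563c98a1111ab1e458d02223563c98c0d46ac790a11ab1e458b0d46ac790b1111ab1e458d09c6ac790a6a3563c88c09c6ac790b02116ae443463563c997108868dc8868c6ac79184e3563c88c422d6443463563c9960422258d1c8868c6ac791a02110d1c8868c6ac79170422d117221a31ab1e4e1a84458d1c8868c6ac7919845a23221a31ab1e4e1922d18ec7916a3b322d18a2d18ec7916a3b322d1905168c763c8b51d9910d1a)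 (Nat.mul (nat_lit 8) (g j))) (Nat.shiftLeft (nat_lit 1) (Nat.mul (nat_lit 8) (Nat.sub (g (Nat.succ j)) (g j))))) (pk61d (nat_lit 9) 
    (nat_lit 0x984c25d2c92c7a2f118843a170983c1e0b02803f5f4f277bb1d2e672389bedc6d35da4d26833590c76130174b457aa94a9f4ca511e8a421fcf47535984b853240f866290f8541600)))) (nat_lit 0) (nat_lit 63) List.nil)) (nat_lit 0) (nat_lit 1) List.nil) : List (List ℕ))
    = ?xq9013 → (List (List ℕ))) ?hq9013; (case hq9013 => (set_option maxRecDepth 1000000 in conv => lhs; reduce)); intro _; exact ?xq9013 : List (List ℕ))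

theorem rowsE7_12 : tE7.rows rE7_12 12 = true := by decide +kernel

noncomputable def rE7_13 : List (List ℕ) :=
  (by
  refine (?fq9014 : ((pk61l (fun i1 => (pk61l (fun i2 => (pk61f i2 fun j => (fun g : Nat → Nat => Nat.mod (Nat.shiftRight 
    (nat_lit 0x8868c688a0110d18d09118202010344468d8d0c443463440b31840e028f0311821344468d8d0d0111842e04018f0573034344468d8d0e010e04088f05820173057283030104020873050272840703047910d18d0c0397040872852303039910d18d0c1397050c7910d18d0e4397060b9910d18d0e1910d18d0a211b32728b447910d18d0e0221a232728c3910d18d0c439910d18d0e211972728b08445991728d08465c88728d011910d18d0c8472728908444b91728d211c88728b0110d18d091cb910d18d0d211191728b08868c6b0a9cb910d18d0ee5c8868c6b0e021cb910d18d0f04e5c8868c6b0f10e5c8868c6b10072e4434635910d18d17272e4434635910d18d18872e4434635910d18d19) (Nat.mul (nat_lit 8) (g j))) (Nat.shiftLeft (nat_lit 1) (Nat.mul (nat_lit 8) (Nat.sub (g (Nat.succ j)) (g j))))) (pk61d (nat_lit 9) 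
    (nat_lit 0x8842e0d0481409f8fc7bbd5e6f177ba5cce470b85bed96b34da4cf66b2d92c661b0576b85aacd5aaa52285369648a2d0a803d1d4de693197cb25427924883f1c8cc58250f0501400)))) (nat_lit 0) (nat_lit 63) List.nil)) (nat_lit 0) (nat_lit 1) List.nil) : List (List ℕ))
    = ?xq9014 → (List (List ℕ))) ?hq9014; (case hq9014 => (set_option maxRecDepth 1000000 in conv => lhs; reduce)); intro _; exact ?xq9014 : List (List ℕ))

theorem rowsE7_13 : tE7.rows rE7_13 13 = true := by decide +kernel

def rE7_14 : List (List ℕ) := [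
  [0xa963c886a3b322d16, 0xab1e44351d9910d16, 0x108b9635910d18d15, 0x9cb1ac8868c6b13, 0x9cb1ac8868c6b12, 0x139635910d18d12, 0x1116347221a3912, 0x139635910d18d11, 0xd116347221a3913, 0x8872e4434635612, 0x88b1a23221a3913, 0x688b1a23221a3914, 0x271a22e4434635614, 0x88d116347221a3916, 0x4d112e4434635613, 0x438d116347221a3917, 0x18d116347221a3914, 0x44688b1a3910d1c997, 0x8d116347221a3914, 0xb8d116347221a3915, 0x21c688b1a3910d1c998, 0xc688b1a3910d1c995, 0x38d116347221a3915, 0x4688b1a3910d1c995, 0x9cb910d18d0e, 0x5c688b1a3910d1c996, 0x223b307, 0x1c688b1a3910d1c996, 0x63b307, 0x271ab910d18d10, 0x10e3b308, 0x447606, 0x23b305, 0x4d4b910d18d0f, 0x2e3b308, 0xc7606, 0x2303, 0x21c7607, 0xe3b306, 0x47604, 0x703, 0x5c7607, 0x10f04, 0x402, 0x344468d8d0d, 0x301, 0x1c7605, 0x2f04, 0x82, 0x2183, 0x344468d8d0c, 0x1344468d8d0e, 0xf02, 0x0, 0x583, 0x1634406, 0x0, 0x0, 0x1344468d8d0d, 0x47604, 0x181, 0x58d04, 0x2c6885]]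

theorem rowsE7_14 : tE7.rows rE7_14 14 = true := by decide +kernel

noncomputable def rE7_15 : List (List ℕ) :=
  (by
  refine (?fq9016 : ((pk61l (fun i1 => (pk61l (fun i2 => (pk61f i2 fun j => (fun g : Nat → Nat => Nat.mod (Nat.shiftRight 
    (nat_lit 0x139664e090599040281064e04058d0401010884272e4e0809a9664e0a0e820844050703058313b90501352e4e09018123042184108c7608820279049ab90684447609040363b3075c76070279041359050223b308021c76080279050c76060108c6ac790c447607084446ac790d82063563c98b05c6ac790b223563c98c422d5c88688e21c6ac790cc6ac790a0845ac88688d0446ac790b021168dc88688f272e4e08422d1c88688e272e4e0904221a37221a3912844347221a39110c76062110d117221a39134221a37221a32e4e1604221a23221a39120844347221a32e4e1502110d117221a32e4e174221a23221a32e4e16c6ac790a1397221a31ac8868951397221a31ac886896) (Nat.mul (nat_lit 8) (g j))) (Nat.shiftLeft (nat_lit 1) (Nat.mul (nat_lit 8) (Nat.sub (g (Nat.succ j)) (g j))))) (pk61d (nat_lit 9) 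
    (nat_lit 0x8542a150581401fafa7cbd9e4ed75badd0e672385b8da6c359a4d16732d8ec5612fd78b95aac55cab52a89389b4b2451886409f4ee723599cc25d2a93896431d0c8521f0b0481200)))) (nat_lit 0) (nat_lit 63) List.nil)) (nat_lit 0) (nat_lit 1) List.nil) : List (List ℕ))
    = ?xq9016 → (List (List ℕ))) ?hq9016; (case hq9016 => (set_option maxRecDepth 1000000 in conv => lhs; reduce)); intro _; exact ?xq9016 : List (List ℕ))

theorem rowsE7_15 : tE7.rows rE7_15 15 = true := by decide +kernel

def rE7_16 : List (List ℕ) := [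
  [0x4688c8b51e4410, 0x2116acc8868e4e14, 0x422ecc8868e4e13, 0x84ecc8868e4e12, 0x427664434664e13, 0x14ecc8868e4e11, 0x2116ae440c, 0xa7664434664e12, 0x422d6440b, 0x53b3221a31e4e13, 0x422ee440b, 0x845e440a, 0x29d9910d18f22e14, 0x84ee440a, 0x468e4e08, 0x109e4409, 0x14ee4409, 0x42772218b, 0x14e84, 0x29e4408, 0x84f2218a, 0xa772218a, 0x2983, 0x2a83, 0x422d4c8868e4e13, 0x14f22189, 0x53b910d0b, 0x502, 0x682, 0x845cc8868e4e12, 0xa7910d0a, 0x29dc886b0c, 0x281, 0x1910e06, 0x81, 0x3703, 0x109cc8868e4e11, 0x53c886b0b, 0x0, 0x1702, 0xc886a07, 0x702, 0x84e64434664e12, 0x29cc8868e4e10, 0xb903, 0x64434608, 0x301, 0x64435188, 0x64435308, 0x14e64434664e11, 0x5c984, 0x1902, 0x3221a3189, 0x3221a3309, 0x3221a8f09, 0xa73221a31e4e12, 0x1910d18d0a, 0x0, 0xc983, 0x1910d1990a, 0x1910d18f0a, 0x1910d4790a, 0x539910d18f22e13]]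

theorem rowsE7_16 : tE7.rows rE7_16 16 = true := by decide +kernel

noncomputable def rE7_17 : List (List ℕ) :=
  (by
  refine (?fq9018 : ((pk61l (fun i1 => (pk61l (fun i2 => (pk61f i2 fun j => (fun g : Nat → Nat => Nat.mod (Nat.shiftRight 
    (nat_lit 0x468848d0311820201d18d060351840e02028144034e031446440973031282034404234405344468887283030123440523440502728459030110d18d090a7286234405064404039910d18d0c0a7286d46b06053963440b088f05344468880a72860e4e06053963440b3444688804722e08b972728a0a71a22c688e053963440b0d468e4e0b7272870a71a22c688e239172890110d18d095344468d8d0f0422d4760b231a2309439722d4760f3221a31ac8868c6b152322d4760c017221a31ac8868c6b16097221a31ac8868c6b17397221a31ac8868c6b180145a3722d4766443472729c11a23221a31ac8868c6b1a) (Nat.mul (nat_lit 8) (g j))) (Nat.shiftLeft (nat_lit 1) (Nat.mul (nat_lit 8) (Nat.sub (g (Nat.succ j)) (g j))))) (pk61d (nat_lit 8) 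
    (nat_lit 0xefeceae8e6e6e6e6e3e0dedededcdad8d4d4d2d0cdcac6c6c4c2bfbcb9b7b2afaca9a3a09d9895918e8b86827e7a746f6a67615d58524d49433a352b21170b00)))) (nat_lit 0) (nat_lit 63) List.nil)) (nat_lit 0) (nat_lit 1) List.nil) : List (List ℕ))
    = ?xq9018 → (List (List ℕ))) ?hq9018; (case hq9018 => (set_option maxRecDepth 1000000 in conv => lhs; reduce)); intro _; exact ?xq9018 : List (List ℕ))

theorem rowsE7_17 : tE7.rows rE7_17 17 = true := by decide +kernel

noncomputable def rE7_18 : List (List ℕ) :=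
  (by
  refine (?fq9019 : ((pk61l (fun i1 => (pk61l (fun i2 => (pk61f i2 fun j => (fun g : Nat → Nat => Nat.mod (Nat.shiftRight 
    (nat_lit 0x2c6885058d04b18316020281022d040982960344038868868868861c76050301160201634406034404044346875903047604112c688c886b111a2285034404886886052c688c886b10026b04022c688c886b1003440429634464434711422d06ac688c886b0f4e58d11910d476130563446443471005196344644347128868860458d11910d1c9930422258d11916b13a363446443471128cb1a23221a391302258d11916b1084458d11916b12051b1a23221a3912458d11916b0f6a3b1a2322d476130422d4760a6a3b1a2322d47614111910d4760d09cb1a2322d4761209cb1a2322d47613108b51a22c68900d11916b0a023221a31ab18f8d11916b0b2322d4760b11ab1ac8868c6b1212c6b221a31ac992cb1a2322d476120cb1a23221a31ab196235635910d18d64416) (Nat.mul (nat_lit 8) (g j))) (Nat.shiftLeft (nat_lit 1) (Nat.mul (nat_lit 8) (Nat.sub (g (Nat.succ j)) (g j))))) (pk61d (nat_lit 9) 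
    (nat_lit 0x964a64d249148241208ec6e371b8cc662f1488c3a190a8340dfefd7d3cde0ed7538dc0d96b33d98c65f2dd5eac522712a8d431fcee7134990b856271187e3a198b852210c8481200)))) (nat_lit 0) (nat_lit 63) List.nil)) (nat_lit 0) (nat_lit 1) List.nil) : List (List ℕ))
    = ?xq9019 → (List (List ℕ))) ?hq9019; (case hq9019 => (set_option maxRecDepth 1000000 in conv => lhs; reduce)); intro _; exact ?xq9019 : List (List ℕ))

theorem rowsE7_18 : tE7.rows rE7_18 18 = true := by decide +kernel

noncomputable def rE7_19 : List (List ℕ) :=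
  (by
  refine (?fq9020 : ((pk61l (fun i1 => (pk61l (fun i2 => (pk61f i2 fun j => (fun g : Nat → Nat => Nat.mod (Nat.shiftRight 
    (nat_lit 0x1820503087910d1c98ed111a3910e0f344468e44346110301010f221a390d020102818868e443463b910e17bc88688a03c9840e0244347221a32e4e14128217916b091e440531e443460c0344468e4e0d72830e021e4405018f221a328d4e038868e4434635664e177283ee4406071e4407344468e45a8f110272840a23221a8f0d38ee44080221a3910e0d08868e44346356645a8f1a511910d4770e164e05110d1c88728e09ac88688a045a8f08b272864d5c88688b22d4770906888d11910e1008443b1e4434664e163444688c8872910109ab1ac8868e4e15028b47221a390f145a37221a391021351ac8868e4e1401645a8f0a5351ac8868c7910e170b22d4770b021a223b1e4434664e184351ab1ac8868e4e1742223b1e4434664e17021a223b1e4434664e1804344468d9910d18d64e1b29a8d11910d18d6443461c) (Nat.mul (nat_lit 8) (g j))) (Nat.shiftLeft (nat_lit 1) (Nat.mul (nat_lit 8) (Nat.sub (g (Nat.succ j)) (g j))))) (pk61d (nat_lit 9) 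
    (nat_lit 0xa04fe7d3c9b4da6d36984a64f218fc76291086c2e07017ebe9eaef76badd0e871381aed5693398ec45f2e968a951a81349548a3912853f1d4dc652f15c9e4a208f06429100581600)))) (nat_lit 0) (nat_lit 63) List.nil)) (nat_lit 0) (nat_lit 1) List.nil) : List (List ℕ))
    = ?xq9020 → (List (List ℕ))) ?hq9020; (case hq9020 => (set_option maxRecDepth 1000000 in conv => lhs; reduce)); intro _; exact ?xq9020 : List (List ℕ))

theorem rowsE7_19 : tE7.rows rE7_19 19 = true := by decide +kernel

noncomputable def rE7_20 : List (List ℕ) :=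
  (by
  refine (?fq9021 : ((pk61l (fun i1 => (pk61l (fun i2 => (pk61f i2 fun j => (fun g : Nat → Nat => Nat.mod (Nat.shiftRight 
    (nat_lit 0x182010f221a390d2984050310d111a3910e10c9830f020f0202815e4407043c88688a21e443470c8f03017910d1c98d770317916b08f22d06c9835903047704020104f2218704f2218705c98459034344468e4e0e12822772218804d6440702b904e64e0626ae4408014e0405a2234722d4791207327287d64e060a72850145ac88688c538f0606b272870a2d5c88688d029c77075168e443470e211763c8868e4e14028b46e443470f0422e3c8868e4e13035322d4790d1a9916a3b90e0a2e3c8868c7910e160f22d4790b0108c763c8868e4e157916a3b90c5168c68e4434664e170868c763c8868e4e1642223b1e4434664e170108c763c8868e4e1584634459910d18d64e1a0538d11910d18d6443461b) (Nat.mul (nat_lit 8) (g j))) (Nat.shiftLeft (nat_lit 1) (Nat.mul (nat_lit 8) (Nat.sub (g (Nat.succ j)) (g j))))) (pk61d (nat_lit 9) 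
    (nat_lit 0x89c4a230b84c261307803f9f8fc7d3e1eaf075ba5c6e16eb69b0d669b459ac9633117cbc5c2d168b1572a94e9f4da612a8f46221047e3c1c0d2612d95498471f0e460270f0541600)))) (nat_lit 0) (nat_lit 63) List.nil)) (nat_lit 0) (nat_lit 1) List.nil) : List (List ℕ))
    = ?xq9021 → (List (List ℕ))) ?hq9021; (case hq9021 => (set_option maxRecDepth 1000000 in conv => lhs; reduce)); intro _; exact ?xq9021 : List (List ℕ))

theorem rowsE7_20 : tE7.rows rE7_20 20 = true := by decide +kernel

noncomputable def rE7_21 : List (List ℕ) :=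
  (by
  refine (?fq9022 : ((pk61l (fun i1 => (pk61l (fun i2 => (pk61f i2 fun j => (fun g : Nat → Nat => Nat.mod (Nat.shiftRight 
    (nat_lit 0x810101234458d1c98e011a22c68e4e0f08d1163472729011a22c688a04020882b1a2322d0c04688b1a390d04d4c98701352e4e0944036883088213970513590502c688c889034404440304688468838d1163470b058d1191728c2344050344045903027284046c79075904027285222c7908346c79080101a22c790908443963c8b51dc89602c9840231ab1ac98c02c98521172c7916a3c8941111ab1ac98d06a3b3070108b963c8b51dc89506a3b30821168cb916a3c89413970505172c7916a3c893139706510e35635916a3c897510e35635916a3c89728b963c8b51dc894029a2235635916a3c89842688963c8b51dc89705168cb916a3c893145a31a36645a8ecc89928b465c8b51dc8940145a32e45a8ecc8952886a35635916a3b322d1c28b963c8b51dc8930145cb1e45a8ee4414) (Nat.mul (nat_lit 8) (g j))) (Nat.shiftLeft (nat_lit 1) (Nat.mul (nat_lit 8) (Nat.sub (g (Nat.succ j)) (g j))))) (pk61d (nat_lit 9) 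
    (nat_lit 0x994ca632f94c8a37168a44a1b0781bf9f8fa7c3d5e4ed753a1cae36f361aad26833592c963b1180c05e2ed6cad55291429949a3d0c823d1dcde6c31968a4481f8dc5a250e0441200)))) (nat_lit 0) (nat_lit 63) List.nil)) (nat_lit 0) (nat_lit 1) List.nil) : List (List ℕ))
    = ?xq9022 → (List (List ℕ))) ?hq9022; (case hq9022 => (set_option maxRecDepth 1000000 in conv => lhs; reduce)); intro _; exact ?xq9022 : List (List ℕ))

theorem rowsE7_21 : tE7.rows rE7_21 21 = true := by decide +kernel

noncomputable def rE7_22 : List (List ℕ) :=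
  (by
  refine (?fq9023 : ((pk61l (fun i1 => (pk61l (fun i2 => (pk61f i2 fun j => (fun g : Nat → Nat => Nat.mod (Nat.shiftRight 
    (nat_lit 0x2c6885058d04b183160202810113058868c688b18e0221a31ab18c015605220412821602016344064236060a030152850ab30611160511130642328655990705030a97061112851566440901088454b907108d99092b044403152e44090288b308015905108cb90956440702889708a22cc88a42390702b221a31ab1900a2306a225c88a023b3221a31ab191d8f221a31ab1920288c888063b3221a31ab193397221a31ab1900458f221a31ab192b97221a31ab192223b3221a31ab1933221a31ab18d7221a31ab18f04397221a31ab1920c6b06023221a31ab18f02e357080221a31ab18c031ab30801a31ab1e44351d9916b1901a31ab1e44351d9916b1a21a31ab1e44351d9916b1b014d18d58f221a8ecc886b1c) (Nat.mul (nat_lit 8) (g j))) (Nat.shiftLeft (nat_lit 1) (Nat.mul (nat_lit 8) (Nat.sub (g (Nat.succ j)) (g j))))) (pk61d (nat_lit 9) 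
    (nat_lit 0x8b44e210e8642a150780bedf0f67a3c9dceb74b99c6e370375b4d76ab499ecb6431582bf5eae56ab2572ad4ea3502652c924520cfe77381a0c259299348a421d8dc622d1105c1800)))) (nat_lit 0) (nat_lit 63) List.nil)) (nat_lit 0) (nat_lit 1) List.nil) : List (List ℕ))
    = ?xq9023 → (List (List ℕ))) ?hq9023; (case hq9023 => (set_option maxRecDepth 1000000 in conv => lhs; reduce)); intro _; exact ?xq9023 : List (List ℕ))

theorem rowsE7_22 : tE7.rows rE7_22 22 = true := by decide +kernel

noncomputable def rE7_23 : List (List ℕ) :=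
  (by
  refine (?fq9024 : ((pk61l (fun i1 => (pk61l (fun i2 => (pk61f i2 fun j => (fun g : Nat → Nat => Nat.mod (Nat.shiftRight 
    (nat_lit 0x109a9722e0a4d4b916a0b0166440602810163440604020108840b1a23070b322187960344030acc88688a0ac688c88a17020402160203440444031dc88501352e4e0903011c760514ee440903c884034684084f05047604029e4408054b1e440b014f0468830135722d09ab1e440aa772218a029e440726b22d08b8d58f0914f22189014d5c88688d0171ab1e440d18d58f0829ac88688c31ab1e440c29a22e440c047604053446440b02346c6b22d47612145a37221a3911028b47221a391022346c6b22d4761310e346c6b221910222346c6b22d47614022346c6b221901a22346c6b22d476150222346c6b22d4761402346c6b22d476110a71a3635916a3b315221c68d8d645a8ecc89831ab1e440c) (Nat.mul (nat_lit 8) (g j))) (Nat.shiftLeft (nat_lit 1) (Nat.mul (nat_lit 8) (Nat.sub (g (Nat.succ j)) (g j))))) (pk61d (nat_lit 9) 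
    (nat_lit 0x88c4217068140200fc7d3dde6ef76bb5d6e670b7dbadb6c359a6ce663258ac5612fd78b95aac15aab532893c9a4b2491c88411f8f274379b0ce5f2c14492421c8c852200c03c0a00)))) (nat_lit 0) (nat_lit 63) List.nil)) (nat_lit 0) (nat_lit 1) List.nil) : List (List ℕ))
    = ?xq9024 → (List (List ℕ))) ?hq9024; (case hq9024 => (set_option maxRecDepth 1000000 in conv => lhs; reduce)); intro _; exact ?xq9024 : List (List ℕ))

theorem rowsE7_23 : tE7.rows rE7_23 23 = true := by decide +kernel

noncomputable def rE7_24 : List (List ℕ) :=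
  (by
  refine (?fq9025 : ((pk61l (fun i1 => (pk61l (fun i2 => (pk61f i2 fun j => (fun g : Nat → Nat => Nat.mod (Nat.shiftRight 
    (nat_lit 0x14e35722e0b0b322187026a5c8b518c02814d4b916a0b040202c688c9892b1a2308016344067703022d0522cc88688b59910d08116a85056644070f02422d06022d04029c6887d8d11909022d049603a772218a51c8869e458604d5c88709c6ae4e0a160214f22189a6ae440a9ac88602d1b90714d644092a58f2218c53c9865a3906068dc9870558f2218b0a2d5c88688e2a58d6440cd1c9860145ac88688d0558d6440b108b51a2322190046356075168e443470f02346c6b22d476120a688b910d0e014d11910d0d22346c6b22d47613021112c68e4410116a346c6b22d476164222c68e440f02116a346c6b22d47617116a346c6b22d4761502d18d1b1ac8b51d991702346c6b22d4761184d468d8d645a8ecc899044468d8f22190) (Nat.mul (nat_lit 8) (g j))) (Nat.shiftLeft (nat_lit 1) (Nat.mul (nat_lit 8) (Nat.sub (g (Nat.succ j)) (g j))))) (pk61d (nat_lit 9) 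
    (nat_lit 0x8f476311487432190782c01f8f87b3d9e6ee7539dc6e16f36daed36833994c76230176b95aac562ae55299429e4da5d248c43a10fc79391b8d0602d15098451e0d858230c8440e00)))) (nat_lit 0) (nat_lit 63) List.nil)) (nat_lit 0) (nat_lit 1) List.nil) : List (List ℕ))
    = ?xq9025 → (List (List ℕ))) ?hq9025; (case hq9025 => (set_option maxRecDepth 1000000 in conv => lhs; reduce)); intro _; exact ?xq9025 : List (List ℕ))

theorem rowsE7_24 : tE7.rows rE7_24 24 = true := by decide +kernel

noncomputable def rE7_25 : List (List ℕ) :=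
  (by
  refine (?fq9026 : ((pk61l (fun i1 => (pk61l (fun i2 => (pk61f i2 fun j => (fun g : Nat → Nat => Nat.mod (Nat.shiftRight 
    (nat_lit 0x8b4706221a31ab1e44351dc8995910d18f0c5910d1990c08868c6ac7910d18d5c99a0443463563c8868c6a971644060110d18d58f221a31dc89a0b221a330b8868c6ac7910d18e960110d18d58f221a31ab919039604d4688608868c6ac7910d18ee459b64435188221a31ab1e4434635718110d18d58f221a329505c8841c68854f030468840c886a070ac885066443460b0b0208f22e070443463563c886a3b91801910e0602810166443472728ea2d1190a590301018868c6ac7910d477178b563472728e145a2309e3c886110d18d58f221a971611763472728d4e34722e0b045a23080181351ab1a391729002363472728c0a34722e0a14ec6b08071ab1a391728f29a22c68e45a971451a3916a0b38d58d1c8b529001966443463b917295045a23071171a3634722d476152c68e45a970d0231a3634722d476140510d116347272930110d116347272920110d116347272912346c68e45a8ecc8954688c8b51e4410) (Nat.mul (nat_lit 8) (g j))) (Nat.shiftLeft (nat_lit 1) (Nat.mul (nat_lit 8) (Nat.sub (g (Nat.succ j)) (g j))))) (pk61d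 (nat_lit 9) 
    (nat_lit 0xb2d8ab153a750e87399b4ae4d1d8943e19017ebcdd4e772389bedb6c361a6d166b0d7ebd5b2c960ae52a7d36984c23d1284401f8ee71361a0c2592a13488401b8c450200c0400e00)))) (nat_lit 0) (nat_lit 63) List.nil)) (nat_lit 0) (nat_lit 1) List.nil) : List (List ℕ))
    = ?xq9026 → (List (List ℕ))) ?hq9026; (case hq9026 => (set_option maxRecDepth 1000000 in conv => lhs; reduce)); intro _; exact ?xq9026 : List (List ℕ))

theorem rowsE7_25 : tE7.rows rE7_25 25 = true := by decide +kernel

noncomputable def rE7_26 : List (List ℕ) :=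
  (by
  refine (?fq9027 : ((pk61l (fun i1 => (pk61l (fun i2 => (pk61f i2 fun j => (fun g : Nat → Nat => Nat.mod (Nat.shiftRight 
    (nat_lit 0x1010443463563c98f221a31ab1e4e100110d18d58f272910344468d8d0c0101088402b1840b0211820844050211b1870847050397040476048868c6ac790e1088b1884223060b97060c7606030172834397074476070703017285063563c98b2304087286223563c98c824e3563c98b04034e3563c98c010884023563c98908463563c98d023563c98a1e458642223563c98e0d46ac790a0645850d46ac790b0211b18709c6ac790ae5c88709c6ac790b02116ae443463563c997108868dc8868c6ac791825c886422d6443463563c9960422258d1c8868c6ac791a02110d1c8868c6ac79170422d117221a31ab1e4e1a84458d1c8868c6ac7919845a23221a31ab1e4e19c6ac790a08b463b1e45a8ecc88689b08b463b1e45a8ecc88689a) (Nat.mul (nat_lit 8) (g j))) (Nat.shiftLeft (nat_lit 1) (Nat.mul (nat_lit 8) (Nat.sub (g (Nat.succ j)) (g j))))) (pk61d (nat_lit 9) 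
    (nat_lit 0x8fc7e3f1d8b43e0f01803f5f4f87b3d9e6ef763a5cce06e365acd368b3d98c963b117ebf5eae96ab457ab550a5502692a924621d087f3d9d8e66e32168ae4e218e45c240d0581600)))) (nat_lit 0) (nat_lit 63) List.nil)) (nat_lit 0) (nat_lit 1) List.nil) : List (List ℕ))
    = ?xq9027 → (List (List ℕ))) ?hq9027; (case hq9027 => (set_option maxRecDepth 1000000 in conv => lhs; reduce)); intro _; exact ?xq9027 : List (List ℕ))

theorem rowsE7_26 : tE7.rows rE7_26 26 = true := by decide +kernel

noncomputable def rE7_27 : List (List ℕ) :=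
  (by
  refine (?fq9028 : ((pk61l (fun i1 => (pk61l (fun i2 => (pk61f i2 fun j => (fun g : Nat → Nat => Nat.mod (Nat.shiftRight 
    (nat_lit 0x8868c6ac79172920110d18d58f27291050308868e443465c99344347221a32e4e14443463563c887293018f05730311820110d1c8868cb9120281088f05017305318403010e02118208730501118407032e04438e872303010e04038e858211c885021c77080b8e8504021119051c77060344045c77066884035184211b32728b9a22060221a232728c0d02134606211972728b08445991728d08465c88728d026a048472728908444b91728d211c88728b0d47664434727293211191728b0301010d476644347272950d47664434727292026a3b3221a33272952d47664434727294026a3b3221a33272942d11722d4766443472729b0511722d4766443472729a0511322d4766443472729a) (Nat.mul (nat_lit 8) (g j))) (Nat.shiftLeft (nat_lit 1) (Nat.mul (nat_lit 8) (Nat.sub (g (Nat.succ j)) (g j))))) (pk61d (nat_lit 9) 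
    (nat_lit 0x86c15fafb79badd6eb71b81bcdc6a3499ecc653218cc460af978ba5badd6ab257ab956a7522893e9c4ca5928914622506813f1e4e66d35198c05b2d94c9c4c218ec642a108581600)))) (nat_lit 0) (nat_lit 63) List.nil)) (nat_lit 0) (nat_lit 1) List.nil) : List (List ℕ))
    = ?xq9028 → (List (List ℕ))) ?hq9028; (case hq9028 => (set_option maxRecDepth 1000000 in conv => lhs; reduce)); intro _; exact ?xq9028 : List (List ℕ))

theorem rowsE7_27 : tE7.rows rE7_27 27 = true := by decide +kernel

noncomputable def rE7_28 : List (List ℕ) :=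
  (by
  refine (?fq9029 : ((pk61l (fun i1 => (pk61l (fun i2 => (pk61f i2 fun j => (fun g : Nat → Nat => Nat.mod (Nat.shiftRight 
    (nat_lit 0x810f02044347221a3910028144347221a32e4e1404022f04030101810e82010f0407030583e3b30601812303218302e3b3088223b3051c760510e3b308040263b3075c7607c8830476040223b307021c760719030c76061c688b1a3910d1c9964476065c688b1a3910d1c9960d0204688b1a3910d1c995038d116347221a39150c688b1a3910d1c995021c688b1a3910d1c9980b8d116347221a39158d116347221a391444688b1a3910d1c997018d116347221a3914438d116347221a391709722e07088d116347221a3916012e4e07221a37221a3911044347221a3910d476060110d117221a39120221a37221a32e4e15221a23221a391144347221a32e4e14110d117221a32e4e160221a23221a32e4e1523563c8868c6b22d15d18d116347221a39161a8d116347221a3916) (Nat.mul (nat_lit 8) (g j))) (Nat.shiftLeft (nat_lit 1) (Nat.mul (nat_lit 8) (Nat.sub (g (Nat.succ j)) (g j))))) (pk61d (nat_lit 9) 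
    (nat_lit 0x974b65b2b9248a351a8c45a2912884421b0b84c1a0d0481401f8fb7c3d5e2ef763a5cee470371b4d76732d84c05bab94a9b492290278379acc45e2b9409a451e0d45a240d8481200)))) (nat_lit 0) (nat_lit 63) List.nil)) (nat_lit 0) (nat_lit 1) List.nil) : List (List ℕ))
    = ?xq9029 → (List (List ℕ))) ?hq9029; (case hq9029 => (set_option maxRecDepth 1000000 in conv => lhs; reduce)); intro _; exact ?xq9029 : List (List ℕ))

theorem rowsE7_28 : tE7.rows rE7_28 28 = true := by decide +kernel

noncomputable def rE7_29 : List (List ℕ) :=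
  (by
  refine (?fq9030 : ((pk61l (fun i1 => (pk61l (fun i2 => (pk61f i2 fun j => (fun g : Nat → Nat => Nat.mod (Nat.shiftRight 
    (nat_lit 0x6883427906422f06423906014e04422d060d02084f05084705084585b903c9830181010b04010984170201088419020f0237032103030102810108b51e440c0301070206820402053c886b0b053b910d0b1902812a83a7910d0aa772218ac8830502014e8414f22189042772218b14ee4409298384f2218a029e440884ee440a109e44090346346c6b22d476140422ee440b845e440a6a346c6b22d476132116ae440c0e346c6b22d476120422d6440b02346c6b22d4761171a3635916a3b31311a3635916a3b3128d1b1ac8b51d99130468d8d645a8ecc894029e4408) (Nat.mul (nat_lit 8) (g j))) (Nat.shiftLeft (nat_lit 1) (Nat.mul (nat_lit 8) (Nat.sub (g (Nat.succ j)) (g j))))) (pk61d (nat_lit 8) 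
    (nat_lit 0xdddbd8d5d2cfcfcccac7c4c1bfbdbbb8b5b3b0aeaeacaaa8a6a49e9c9a989696918c8a8987837f7d7b78746f6b6965615d5d59504b473f3a322d251d150d0400)))) (nat_lit 0) (nat_lit 63) List.nil)) (nat_lit 0) (nat_lit 1) List.nil) : List (List ℕ))
    = ?xq9030 → (List (List ℕ))) ?hq9030; (case hq9030 => (set_option maxRecDepth 1000000 in conv => lhs; reduce)); intro _; exact ?xq9030 : List (List ℕ))

theorem rowsE7_29 : tE7.rows rE7_29 29 = true := by decide +kernel

noncomputable def rE7_30 : List (List ℕ) :=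
  (by
  refine (?fq9031 : ((pk61l (fun i1 => (pk61l (fun i2 => (pk61f i2 fun j => (fun g : Nat → Nat => Nat.mod (Nat.shiftRight 
    (nat_lit 0x2c6885058d04b18316020281468d8d08011ab186047604128201a31ab189d4760614464409728303440401634406344468880344468d8d0c0397042344050163440611a22c688a872e4409288c88688c030101634406016344060108868e440c5903023b3272890644040163440611a22c688a1ac9850221a31ab18c0a728611a22c688a0221a31ab18c01a8ec6b090c8868870223b30704221a363c88689272728711a22c688a239172890344468d8d0c0344468d8d0c0422d4760a2118d6440b439722d4760e0422e3570b2322d4760b8e443463570f112c7910d1971104232cc886a3b3130845a8d59910d18d158463563c886891) (Nat.mul (nat_lit 8) (g j))) (Nat.shiftLeft (nat_lit 1) (Nat.mul (nat_lit 8) (Nat.sub (g (Nat.succ j)) (g j))))) (pk61d (nat_lit 8) 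
    (nat_lit 0xf6f3f0eeeceaeaeae6e2dfdfddddd8d5d1cfcfcfccc8c4c4bebbb8b4afaba6a4a09c96948f8c8883807a77726c67635f57544f4b453f3a352f2a251f18100700)))) (nat_lit 0) (nat_lit 63) List.nil)) (nat_lit 0) (nat_lit 1) List.nil) : List (List ℕ))
    = ?xq9031 → (List (List ℕ))) ?hq9031; (case hq9031 => (set_option maxRecDepth 1000000 in conv => lhs; reduce)); intro _; exact ?xq9031 : List (List ℕ))

theorem rowsE7_30 : tE7.rows rE7_30 30 = true := by decide +kernel

noncomputable def rE7_31 : List (List ℕ) :=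
  (by
  refine (?fq9032 : ((pk61l (fun i1 => (pk61l (fun i2 => (pk61f i2 fun j => (fun g : Nat → Nat => Nat.mod (Nat.shiftRight 
    (nat_lit 0x44688c886a3c89388d11910d47912111a23221a8f1102010234458d1c8872928d116347221a3294088d11910d0e1182021e443472729002814403063c88688b063446440b030187910d19727292128205e443463c887293011e4406235905011e4e067283011e44060634722e0b01088c88728d08d1163472729011a22c68e4434635664e1b7283011e440622344644351e441401c688b1a3910d18ee441a0272842f221a31ab32729401cb1e440931e45a8f0c013446440988688c88728f027304110d1c88728e17910d18d58f221a329904688b1a3916a3b3150288c886a3b30f88688c88728f06888d1c88729003910d18d59916a3b318b272863444688c887291a3917289045a223c88688f4434458f221a329304d644347272900116a64e0a1a2234458f221a32952886888ec7910d1972729ba21a9910d18ecc8b53191a8d58d644347272965916a3b30c0164434635664e1204e644346356645a8f180110d112c7910d18ee4419) (Nat.mul (nat_lit 8) (g j))) (Nat.shiftLeft (nat_lit 1) (Nat.mul (nat_lit 8) (Nat.sub (g (Nat.succ j)) (g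 j))))) (pk61d (nat_lit 9) 
    (nat_lit 0xb5d8eb955a9d4ea753a5d0e7b3b9a4ca612b934923b1b89c3e19088341a04fd7bbc1cae36fb5d98c960af16eb2562a5469948225067c391bcd0642e9549c49200d456220e8541600)))) (nat_lit 0) (nat_lit 63) List.nil)) (nat_lit 0) (nat_lit 1) List.nil) : List (List ℕ))
    = ?xq9032 → (List (List ℕ))) ?hq9032; (case hq9032 => (set_option maxRecDepth 1000000 in conv => lhs; reduce)); intro _; exact ?xq9032 : List (List ℕ))

theorem rowsE7_31 : tE7.rows rE7_31 31 = true := by decide +kernel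

noncomputable def rE7_32 : List (List ℕ) :=
  (by
  refine (?fq9033 : ((pk61l (fun i1 => (pk61l (fun i2 => (pk61f i2 fun j => (fun g : Nat → Nat => Nat.mod (Nat.shiftRight 
    (nat_lit 0x14688c886a3c89228d11910d47911118202234464435310111a23221a8f112234458d1c887293223446440c018d11910d0d022344644351900281031e4408223c88688b8d038f030201128205e443463c88729218d64409d46b060231a232218d72835e443472728f28f2218828f221880272845903e64e06128228f2218818d1c8884e34722e0b04231ab30b88d1163472729101a8d644090a344644351e4413b8d116347221a8ee441902728421e44346357272930a72852f22d4790c063c8b530a4e3572728b4221ac88728e026a58f2218c05ac8868c6ac7910d18e9a06b2728728d644351e441001ac88728985910d18d59916a3b3190108877221a8ee4414026a58d644351e441422e34458d1c8b51d991808b51a363472729213463b1e4434727296443463c8868c6b221a319b2d1c8b528b2d11910d18d59913d4c8b51d990fd4c8868c6acc8b5317271a23221a31ac886898) (Nat.mul (nat_lit 8) (g j))) (Nat.shiftLeft (nat_lit 1) (Nat.mul (nat_lit 8) (Nat.sub (g (Nat.succ j))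 (g j))))) (pk61d (nat_lit 9) 
    (nat_lit 0xabd3e91469fcfe7f38984ae4b258f472311388c3e1b0b81bfdf8f67a3b9d4e671b85bcdc6c3519eca61af96cac54a853c994a23d12833c1d0da682f15498421d0c44c210c84c1400)))) (nat_lit 0) (nat_lit 63) List.nil)) (nat_lit 0) (nat_lit 1) List.nil) : List (List ℕ))
    = ?xq9033 → (List (List ℕ))) ?hq9033; (case hq9033 => (set_option maxRecDepth 1000000 in conv => lhs; reduce)); intro _; exact ?xq9033 : List (List ℕ))

theorem rowsE7_32 : tE7.rows rE7_32 32 = true := by decide +kernel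

noncomputable def rE7_33 : List (List ℕ) :=
  (by
  refine (?fq9034 : ((pk61l (fun i1 => (pk61l (fun i2 => (pk61f i2 fun j => (fun g : Nat → Nat => Nat.mod (Nat.shiftRight 
    (nat_lit 0x1463446443463c8948d0308871a23221a8f130443460714688c886b0e063c88688b0138d6440a4e3446440b138d11910d0e0231a232218d04e3446443518f10e6440810e64408011e4e06a3446443530f447910d18d0e4438d11910d4791402118f080d468e4e0a21e443530c04e35907011e4e0631e443470c2116a3440b0468840b1e4e075903221a31889c6b06053963440b1a31a3910e0e0844468e440d02810444688c886a0f31e443470c010d1c886a0c01cc8b5189010101730539910d18d644104344468e458e053463470a108d8f090351ac88688c10888f090a31a23221a31e441504ec6b0701a22c6889168c68e4435310084d645a8f0d04ec688c8b518f0223468702d645870d46b221a31e4e1202363446458d9c688c8b518e01a8d1c8868c6b12063591728a08876344645a8f13886ac68e458f351a23221a31ac886898) (Nat.mul (nat_lit 8) (g j))) (Nat.shiftLeft (nat_lit 1) (Nat.mul (nat_lit 8) (Nat.sub (g (Nat.succ j)) (g j))))) (pk61d (nat_lit 9) 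
    (nat_lit 0xa2cf27532974a251238f466270d83409fcfa7a3b9cce26eb61a8d46832d8cc35faf572b658aad4aa34e25d228c4521d007a3a9c4d6672f168aa4e241047a39188ac4a1d0c0401400)))) (nat_lit 0) (nat_lit 63) List.nil)) (nat_lit 0) (nat_lit 1) List.nil) : List (List ℕ))
    = ?xq9034 → (List (List ℕ))) ?hq9034; (case hq9034 => (set_option maxRecDepth 1000000 in conv => lhs; reduce)); intro _; exact ?xq9034 : List (List ℕ))

theorem rowsE7_33 : tE7.rows rE7_33 33 = true := by decide +kernel

noncomputable def rE7_34 : List (List ℕ) :=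
  (by
  refine (?fq9035 : ((pk61l (fun i1 => (pk61l (fun i2 => (pk61f i2 fun j => (fun g : Nat → Nat => Nat.mod (Nat.shiftRight 
    (nat_lit 0x1810502088d11910d476644160111a23221a8ee441522344644351e441401634406040201088408b1a2322d0e44688c886a3b322197128244032c88688806c688c88b539706047604064404034404440323c8851563c8880b1a23070c887287234405034404871a23221a8ecc88689a01b1a232728d84d1c889040206440401cb1e4409ae443463c88ea6443463c88e0271ab1e440c011163c88946acc9880845a972728d04f221870d1163c88a0887910d1972729302c886a3b30c2c8868880351ab1e440c010886888d1c88689402139707011ab1ac88688e53970604446ac6b22d0f34446ac6b22d10022f221a970d9a2235635916a3c89604221a22346e443463c89a8868e4434635664e1706a34458d1c886a3b31801a8d1b1ac8872920145a972728c05168cb916a3b312110e35635916a3c8958c688b1e440f) (Nat.mul (nat_lit 8) (g j))) (Nat.shiftLeft (nat_lit 1) (Nat.mul (nat_lit 8) (Nat.sub (g (Nat.succ j)) (g j))))) (pk61d (nat_lit 9) 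
    (nat_lit 0x9ecf277399849e3f1b8cc5a210782c1606ff7d3dde8f1773b1d2e570b75b4d766b1d86c15f2e566b356ab54ea24f261288f43a04fa77371a8c6602c94898431c0bc4a1d0b83c0c00)))) (nat_lit 0) (nat_lit 63) List.nil)) (nat_lit 0) (nat_lit 1) List.nil) : List (List ℕ))
    = ?xq9035 → (List (List ℕ))) ?hq9035; (case hq9035 => (set_option maxRecDepth 1000000 in conv => lhs; reduce)); intro _; exact ?xq9035 : List (List ℕ))

theorem rowsE7_34 : tE7.rows rE7_34 34 = true := by decide +kernel

noncomputable def rE7_35 : List (List ℕ) :=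
  (by
  refine (?fq9036 : ((pk61l (fun i1 => (pk61l (fun i2 => (pk61f i2 fun j => (fun g : Nat → Nat => Nat.mod (Nat.shiftRight 
    (nat_lit 0x102c88444688c886a3b322197298351a23221a8ee44140a344644351e44130502040222c688c88c01b1a2322d0d01634406022c688c8b51900211c8888c886889022344644351d9910d1814e58f08028d11910d476644152b030458f22d0a51c887029c688702363446458d1b1a2309128223440502d64588022344645a8ecc88689829ab1e458ba2d1c8891644050a7286052e4407034404d8d119090211b1a232728f51c8860a7285042b1e458a5903033221a31e458f044688c88b68c688b1ac8b5193351ab30802b22d0711d8d6440a111ab1ac8b519007221a970a0c688b1e458d145a97080429635916a3c892234458f22d0d023b1a23221a97120b8d11635916a3c8950116a346c6b2729145a8d5990b10e35635916a3b322d1814d4b908145a32e45a971053463572728e109c6ac6b22d4766459808897221a8ee4413) (Nat.mul (nat_lit 8) (g j))) (Nat.shiftLeft (nat_lit 1) (Nat.mul (nat_lit 8) (Nat.sub (g (Nat.succ j)) (g j))))) (pk61d (nat_lit 9) 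
    (nat_lit 0xa0d027b34994aa45208f466270f8442209007b3c9d2e77137db6d568b3d98c85f2e56ab257aad50a44ea692e924822512843e1e0e86f3418cba592892c863a190b4461f0c0481000)))) (nat_lit 0) (nat_lit 63) List.nil)) (nat_lit 0) (nat_lit 1) List.nil) : List (List ℕ))
    = ?xq9036 → (List (List ℕ))) ?hq9036; (case hq9036 => (set_option maxRecDepth 1000000 in conv => lhs; reduce)); intro _; exact ?xq9036 : List (List ℕ))

theorem rowsE7_35 : tE7.rows rE7_35 35 = true := by decide +kernel

noncomputable def rE7_36 : List (List ℕ) :=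
  (by
  refine (?fq9037 : ((pk61l (fun i1 => (pk61l (fun i2 => (pk61f i2 fun j => (fun g : Nat → Nat => Nat.mod (Nat.shiftRight 
    (nat_lit 0x11ac88514688c886a3b322196028d11910d47664415014e04110e344644351e441608b1a2322d0e04024222c688c88e04760429836c688c8b518f458d11916b0f4403a72e4e09c6acc88914e3b308016344060ab30501a31ab18a22d1c88918f22e08a344644351d9910d17211b1a230b8871a23221a8ee441721a31ab18b040202223446443463566443461cd1b1a2322e0f011ab18603010223b3072223b30814722d09535906014d18d1c88c22d1c88822830422d1c88a46c688c98b9cb1a232728e06b22187010d58f22e0c0e5c88728a035904886a3b1ac88e11163c8b518d04e35707ac8b5309053463570aa2d19722d476110111a363c98d084d19722e0d01a97221a31dc9924446ac6b22d4761314722d080a3916a3b30d5168cb916b0ed113221a970f0538d5c98a084d18ec7916a3c89511ab1e440a) (Nat.mul (nat_lit 8) (g j))) (Nat.shiftLeft (nat_lit 1) (Nat.mul (nat_lit 8) (Nat.sub (g (Nat.succ j)) (g j))))) (pk61d (nat_lit 9) 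
    (nat_lit 0x9dcea6f2e92c8a331388c2e1106803e9f0f4783b1d0e570371b0cf6530578ba572a148a24f2692c9346a250e823e9dce66d34194be5f2c954a24c228fc7231148943e19098380a00)))) (nat_lit 0) (nat_lit 63) List.nil)) (nat_lit 0) (nat_lit 1) List.nil) : List (List ℕ))
    = ?xq9037 → (List (List ℕ))) ?hq9037; (case hq9037 => (set_option maxRecDepth 1000000 in conv => lhs; reduce)); intro _; exact ?xq9037 : List (List ℕ))

theorem rowsE7_36 : tE7.rows rE7_36 36 = true := by decide +kernel

noncomputable def rE7_37 : List (List ℕ) :=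
  (by
  refine (?fq9038 : ((pk61l (fun i1 => (pk61l (fun i2 => (pk61f i2 fun j => (fun g : Nat → Nat => Nat.mod (Nat.shiftRight 
    (nat_lit 0x7221a31ab1e45a8e971c7910d4790d111a22c68e443463b919023905038d116347221a31ab916a1c028103c8868c76645a97140e44346356645a8e9688d116347221a31dc89a07221a31ab9172938b5906029cc8868e4e1001916b0601e443463563c8868cb919e4434635727292045ac88702234458d1c8868c7718e443460a190208590644688b1a3910d477171c886a0922e645891c8868c6ac7910d18e9911c9867910d18ecc8b5293045cc98803910d18d58f221a8e9871a22c68e4434635722d1b0ac88503722d08722d071910d18d58f221a31ab91a015904211732218cd11906045a23221a318fc8868c6ac7910d18d5c89b688b1a390c0e34458d1c887292422e58d1190f8b446443518e45838b5187021172c688c89023722d0909824271870117722d0a0108bb32218d539910d1990f011635916a0c08443b32218e13446443518d02116ac68e4434664e1802139910d1990f1cb185534458d11910d19917510d1b32218f0851ac886a3b322195010a35916a3b32219439634464435190) (Nat.mul (nat_lit 8) (g j))) (Nat.shiftLeft (nat_lit 1) (Nat.mul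 (nat_lit 8) (Nat.sub (g (Nat.succ j)) (g j))))) (pk61d (nat_lit 9) 
    (nat_lit 0xc1deae96ab3d6eb350a3cf66b3295c9e391588c1e070380bf9eaf176b8dc0d86a3297ebc5c2d554a75127d308d44200f474391bcd0643117cb45427120843c190ac501f0c8400e00)))) (nat_lit 0) (nat_lit 63) List.nil)) (nat_lit 0) (nat_lit 1) List.nil) : List (List ℕ))
    = ?xq9038 → (List (List ℕ))) ?hq9038; (case hq9038 => (set_option maxRecDepth 1000000 in conv => lhs; reduce)); intro _; exact ?xq9038 : List (List ℕ))

theorem rowsE7_37 : tE7.rows rE7_37 37 = true := by decide +kernel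

noncomputable def rE7_38 : List (List ℕ) :=
  (by
  refine (?fq9039 : ((pk61l (fun i1 => (pk61l (fun i2 => (pk61f i2 fun j => (fun g : Nat → Nat => Nat.mod (Nat.shiftRight 
    (nat_lit 0x1820503087910d1c98e02814d4b910e0b1352e443460d0301010f221a390d96034403bc88688a03c9841702160217916b091e440509a22e440a01352e4e0903011c7605ee4406013446440955c9874f030476041e44051a22851352e45a8f0d0ac98626888d1b1ac991034404028b445c88688f045ac98806888d1b1ac99001a972728951688c88688e4d5c88688b4d18d58f0c352e4e0809ac88688a0d18d58f0b0ae4434635722d13022d111d8f0c015c8868c6b22d1229664e09145a37221a3910028b47221a390f023b910e0a1a9722d4770e011ab1e443460f0352e45a8f0d0845ab910d47664415108b5910d47610116a3b1ac98d0886a3b1a3916b12044351d8d11910d1c9978d58f221a31e4414) (Nat.mul (nat_lit 8) (g j))) (Nat.shiftLeft (nat_lit 1) (Nat.mul (nat_lit 8) (Nat.sub (g (Nat.succ j)) (g j))))) (pk61d (nat_lit 9) 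
    (nat_lit 0x89446210e8441a0d0680bedf2f378bc5deeb74399cce470375b0d368b3996cb6330d82be5dae164af542953c9a49a3910833f1e8ea7034188b45627920863d1b0c04e200d0481000)))) (nat_lit 0) (nat_lit 63) List.nil)) (nat_lit 0) (nat_lit 1) List.nil) : List (List ℕ))
    = ?xq9039 → (List (List ℕ))) ?hq9039; (case hq9039 => (set_option maxRecDepth 1000000 in conv => lhs; reduce)); intro _; exact ?xq9039 : List (List ℕ))

theorem rowsE7_38 : tE7.rows rE7_38 38 = true := by decide +kernel

noncomputable def rE7_39 : List (List ℕ) :=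
  (by
  refine (?fq9040 : ((pk61l (fun i1 => (pk61l (fun i2 => (pk61f i2 fun j => (fun g : Nat → Nat => Nat.mod (Nat.shiftRight 
    (nat_lit 0x182010f221a390d2984028105030271ab910e0cc9830f0277035e4407043c88688a21e443470c258f05017910d1c98d0f0217916b08f22d0605c9845903058f0496032772218804f22187c98302b90409c6ae4e0a160204f2218726ae44085903023b32728904d644071a22859c7722d4790e47664e0802357272890344040a2d5c88688d04d1170746ae4e080145ac88688c9a2306028b46e443470f2356055168e443470e11d8f2218a08d59916a3b910011ab322d4790f031ab1ac88688f23b916a3b90e0152cc886a0d047722d4790d0168c6ac6b0c05a31d8d0a0b463566440d31a363590c111a22c6b22d11088d1b1a3910d1c996) (Nat.mul (nat_lit 8) (g j))) (Nat.shiftLeft (nat_lit 1) (Nat.mul (nat_lit 8) (Nat.sub (g (Nat.succ j)) (g j))))) (pk61d (nat_lit 8) 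
    (nat_lit 0xf8f7f6f0eeececeae4e2e0e0dededbd6d1cec8c6c2bfbcbab7b5b1adaba8a3a19d999997928e8b85817c79736f6b65625b58524d463f38322c26201b15100900)))) (nat_lit 0) (nat_lit 63) List.nil)) (nat_lit 0) (nat_lit 1) List.nil) : List (List ℕ))
    = ?xq9040 → (List (List ℕ))) ?hq9040; (case hq9040 => (set_option maxRecDepth 1000000 in conv => lhs; reduce)); intro _; exact ?xq9040 : List (List ℕ))

theorem rowsE7_39 : tE7.rows rE7_39 39 = true := by decide +kernel

noncomputable def rE7_40 : List (List ℕ) :=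
  (by
  refine (?fq9041 : ((pk61l (fun i1 => (pk61l (fun i2 => (pk61d (nat_lit 53) 
    (nat_lit 0x1040000000000101011a22c68e4c704688b1a39383d1a22c68e4e52000011a22c688a0000000000201800000000422100016344645a18004688b1a390d00000026a64c3800004d4b93824000000010880a000000363c988000000000ac82800000004e5c14000000026b20a00002c688c8890000008b1e4c4800000002164180000009a9720e00000000ac9860004688b1a3858016344645ca300000009a97210000000042c9870000000002c818000000009ca100000108d8f21200000000000000000000002c820000000009ca14000084458f2140000000000000001a8d599394600000000000004006a35664e51a0000002d4790800000000164c2000026a5c9ca28000000005930a000000443460700004d4b939458000001a8ecc1c000000002d50a0000006a3b308000000028c783800000004e5c1400000c8868c10000000013970600110d19916868008868cb1e430000000019660c2110d1b1ac98f00000518ec6850000005cc8b822110d18ecc9c20001c8868c770d00002a59939458029c763593838235635910d11c023b1ac88688d) i2)) (nat_lit 0) (nat_lit 63) List.nil)) (nat_lit 0) (nat_lit 1)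 List.nil) : List (List ℕ))
    = ?xq9041 → (List (List ℕ))) ?hq9041; (case hq9041 => (set_option maxRecDepth 1000000 in conv => lhs; reduce)); intro _; exact ?xq9041 : List (List ℕ))

theorem rowsE7_40 : tE7.rows rE7_40 40 = true := by decide +kernel

noncomputable def rE7_41 : List (List ℕ) :=
  (by
  refine (?fq9042 : ((pk61l (fun i1 => (pk61l (fun i2 => (pk61d (nat_lit 53) 
    (nat_lit 0x299101c000000029910c0000000029905000000022598380006443472628001910d1c9c1600000000053040000763446445800000ec68e424000000029660c0000000ec6b070000000008b82801910d1c9ca30000000007630a000008966440a0000003b1a20400000000015c1000000014b320e00000000113050000008444b048000000000280c00000045c881000000146599080000000002982000000000ae414000000084450e000000008960600000011322040000000146e41800001465991120000000029905000000021110380000000008a1000042225991180000000519906000000146e4438000000000881000001088b911400021c763440c0000001466443800000517326240000108899114000008963440a0000000993943800009722d4c24000010ec6881400000012e4e0700000110ec7848000002645ac1c00000444b1e12000000004c9850000443b1a205800022258d102c0000051e44312004c8868cb90d00008d64434458012e443466434000034659931400013221a390b00d112cc8b5875a31a363472240d19635910d12003221a8ecc98d)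 i2)) (nat_lit 0) (nat_lit 63) List.nil)) (nat_lit 0) (nat_lit 1) List.nil) : List (List ℕ))
    = ?xq9042 → (List (List ℕ))) ?hq9042; (case hq9042 => (set_option maxRecDepth 1000000 in conv => lhs; reduce)); intro _; exact ?xq9042 : List (List ℕ))

theorem rowsE7_41 : tE7.rows rE7_41 41 = true := by decide +kernel

noncomputable def rE7_42 : List (List ℕ) :=
  (by
  refine (?fq9043 : ((pk61l (fun i1 => (pk61l (fun i2 => (pk61d (nat_lit 56) 
    (nat_lit 0xa8300a644351dc88f00029910d18f0d0014c8868cc98e01910d18d5c98f000845ab32728d0000c8868c6a8b00000158f22e0a000108b5664e0c00000018d1b3080000000214688700084d1b322e0d0c8868c6b22d0f0000000000050309910d18ee4590000002644351890006443463570c000003221a328a0000000004b18400000ae45a8e8b000000045c6b08000000006c688600000004635607013221a31ac88e00000000002a8300000ac68e4e0b00000116ae458a004271a391728e0014c886a3b90e00000001910e06000004268dc88a00058d1c8b528d000005645a8e8a000001599172890014c8868c790e00000000426b06000000a991728a00000116ae4589000000a2d6458a00000000000000000013221a970b000000a2d64589000000a8f22e0a000000a991728900029910d1990d00014e3c8b518c000005645a8e8b00322d4766458e000004231a390a03722d4766459000538ec6b2728f000000a2ec6b09000000a8f22e09a9635916a3b31200000000000a82045a8d59916b0f00000000000502a71a36645a9711000008b51ac98a00018d1c8b528c000000045c6b07000005468e4e0a000168c6b2218d)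 i2)) (nat_lit 0) (nat_lit 63) List.nil)) (nat_lit 0) (nat_lit 1) List.nil) : List (List ℕ))
    = ?xq9043 → (List (List ℕ))) ?hq9043; (case hq9043 => (set_option maxRecDepth 1000000 in conv => lhs; reduce)); intro _; exact ?xq9043 : List (List ℕ))

theorem rowsE7_42 : tE7.rows rE7_42 42 = true := by decide +kernel

noncomputable def rE7_43 : List (List ℕ) :=
  (by
  refine (?fq9044 : ((pk61l (fun i1 => (pk61l (fun i2 => (pk61d (nat_lit 42) 
    (nat_lit 0x810000000000000000005030000000580800000002810000000000344468d8d0c000000010080000010885000008ecc14000000b18300000004608000000000000000051014000063b3070000006c61400000397040000011d810000000b183000088ecc1c000008b185000002e5c1800000c760600000000c040000007283000010e5c18000044760600000001c0c000001728500002372218000000000000000008c0c00000872850000222e41800000000820000277261800000004020009dc88620000003518400000688a140004664587000000d1a140004ee45880001113261c0004e599070000001aa0c01396644090001a8ec61c00268896080009cb322240004d196080000000140c00000a7286000026a58180000002b040000151d81c0000539707000002ac6180002a3b30800001563c1c01a37221890001a37261c01a22e4589)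 i2)) (nat_lit 0) (nat_lit 63) List.nil)) (nat_lit 0) (nat_lit 1) List.nil) : List (List ℕ))
    = ?xq9044 → (List (List ℕ))) ?hq9044; (case hq9044 => (set_option maxRecDepth 1000000 in conv => lhs; reduce)); intro _; exact ?xq9044 : List (List ℕ))

theorem rowsE7_43 : tE7.rows rE7_43 43 = true := by decide +kernel

noncomputable def rE7_44 : List (List ℕ) :=
  (by
  refine (?fq9045 : ((pk61l (fun i1 => (pk61l (fun i2 => (pk61f i2 fun j => (fun g : Nat → Nat => Nat.mod (Nat.shiftRight 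
    (nat_lit 0x45a3707109ac888063566458a06346cc88a2134722e0b422d06ae440784d1c889c6acc8890845850109a3322e0c845ac989d4688604268e458a011ab186084d19916a0d010884108b59081c688502770404688423560502116b070281066443460b570358f22e08422d58f22e0e04760421a8f22e0b086a8502b904021359070845ab32728d051688b90b010e84e3c886426b060108b572728ca2d1170a2a6443460c2283086b050438f22e0a22d117091c68d8f22e0d23570588f22e090510d116645a9713e346c7916a0e0447916a0a065c8868c7722e130215c8882a5c8868c7722e1422d1170846346c6b22d47613a21a22c6b27292221a22c6b27291221a22c6b272900468d8d645a8ecc894029e4408) (Nat.mul (nat_lit 8) (g j))) (Nat.shiftLeft (nat_lit 1) (Nat.mul (nat_lit 8) (Nat.sub (g (Nat.succ j)) (g j))))) (pk61d (nat_lit 9) 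
    (nat_lit 0x89c3e170680bf1f8f97b3c9dceb72b85bcd96ab3d98c862b097ebc5c2d962af55a9544a24ea692e9346a210a823f9e4ea70371accc622e164aa4d239087436170a8441b0a0340800)))) (nat_lit 0) (nat_lit 63) List.nil)) (nat_lit 0) (nat_lit 1) List.nil) : List (List ℕ))
    = ?xq9045 → (List (List ℕ))) ?hq9045; (case hq9045 => (set_option maxRecDepth 1000000 in conv => lhs; reduce)); intro _; exact ?xq9045 : List (List ℕ))

theorem rowsE7_44 : tE7.rows rE7_44 44 = true := by decide +kernel

def rE7_45 : List (List ℕ) := [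
  [0x21ab188, 0x5634707, 0xac6b06, 0x5635907, 0x15305, 0x1ab305, 0xb8f2218a, 0xb303, 0x5c772218b, 0x59904, 0x7183, 0x38e84, 0x2cc885, 0x38d04, 0x15184, 0x1c6a85, 0x1c6885, 0xe3472218b, 0x22d5c988, 0xe34686, 0xa21e440a, 0xa2ee440a, 0x45ac987, 0x88688b90b, 0x982, 0x145e4409, 0x14ee4409, 0x110d1190a, 0x110d1170a, 0x4583, 0x29e4408, 0x3722188, 0x22d11709, 0x9cb910e0a, 0x221a2309, 0x4683, 0x22d04, 0x722187, 0x45a2308, 0xa82, 0x4e5c886a0b, 0x882, 0x2984, 0x0, 0x281, 0x272e443460c, 0x101, 0x45ac887, 0xb03, 0x11c986, 0x2d11708, 0x0, 0x8b5906, 0x4704, 0x4d4b3221a8f0f, 0x8bc987, 0x116b05, 0x29cc8868e4e10, 0x5a2307, 0x23905, 0x26a59910d18f10, 0x26a59910d47910, 0x45e4588]]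

theorem rowsE7_45 : tE7.rows rE7_45 45 = true := by decide +kernel

noncomputable def rE7_46 : List (List ℕ) :=
  (by
  refine (?fq9047 : ((pk61l (fun i1 => (pk61l (fun i2 => (pk61d (nat_lit 53) 
    (nat_lit 0x344645a8f223c0344645a8f21c0022d1132218c04e3c8868e4c71353221a39383c000000014e50c00008868c6b0a344645a8f2208000022d11326280045a23221c180110d4c8b530e009c7910d1c868000000a71d8200001168cc8b1400008b4464e0a22d113221a8c7800022d11910280221a3322d61c00000029cb188000045a391705116888f22d463c0000045a23210443444c886a0f0000003463583916888f221a23c0000045a391104434447916a0f0000000688c838045a2264434340001173221c1600cc8b51e440d000000068e4438045a223c8b434000110e645c160003322d4790b00000117910c48033221a8f223400000443c8b120000022e64e0900000038d64c38000008b991024000038d64431200000008bc98700000110e64448000002359381c0000001645a0e0000235910e09000000045cc83800000008d6414000008d645c120000008d6440700000000000000000000000140c000000235910e0000110d18d09000000000a702847910d18f263c000000002a30a063c8868c790fc7910d18f2708800446b221a834002146b22d41a0d1163c8b528e)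 i2)) (nat_lit 0) (nat_lit 63) List.nil)) (nat_lit 0) (nat_lit 1) List.nil) : List (List ℕ))
    = ?xq9047 → (List (List ℕ))) ?hq9047; (case hq9047 => (set_option maxRecDepth 1000000 in conv => lhs; reduce)); intro _; exact ?xq9047 : List (List ℕ))

theorem rowsE7_46 : tE7.rows rE7_46 46 = true := by decide +kernel

noncomputable def rE7_47 : List (List ℕ) :=
  (by
  refine (?fq9048 : ((pk61l (fun i1 => (pk61l (fun i2 => (pk61d (nat_lit 31) 
    (nat_lit 0x547910223563c84468d8f088d1b32111a3726223472704468d8d080d58f20e23563c1c468d98388d1b18711a3720e2347261c06ac783011ab3060235630c0468dc1808d1b03011a39060035660a006ac614011ab828023560500468e0a008d1a14001ab82000356040008d6080011aa100023b02000468840000d6060001aa0c0003b0180008d0300011d06000034080000741000176040000230400004a0800000c080002e83000005020000080400002c10000000000000d04000000000000040800002010000550600001408000030100015704000054060000ac0c000a8c20001530400151e0a0151e418151e44380000000) i2)) (nat_lit 0) (nat_lit 63)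 List.nil)) (nat_lit 0) (nat_lit 1) List.nil) : List (List ℕ))
    = ?xq9048 → (List (List ℕ))) ?hq9048; (case hq9048 => (set_option maxRecDepth 1000000 in conv => lhs; reduce)); intro _; exact ?xq9048 : List (List ℕ))

theorem rowsE7_47 : tE7.rows rE7_47 47 = true := by decide +kernel

noncomputable def rE7_48 : List (List ℕ) :=
  (by
  refine (?fq9049 : ((pk61l (fun i1 => (pk61l (fun i2 => (pk61f i2 fun j => (fun g : Nat → Nat => Nat.mod (Nat.shiftRight 
    (nat_lit 0x1820503160202810402010884458d11910d0fb18312824403363c88688c363446440c53970704760401130502234408564407108bb1e443461129cb1e4e0c0301021c7708011e4406ab1e440a0163590602b272884688b1ac8868910b1e440701b1a391728d211b1e440b0d8f221a31ab3272960658f221a31e4413013446440946acc9880845a972728d0422e58f22d47713010d111e440d234459910d1972729604351ab30b23563c88688d6c7916a3b30f04231ab1ac8868921397051b910d18d59916a3b31953970622d1163c88689021a223563c886894011a36645a970f344477221a31ac886899845c6ac6b221a31e44190108868cb916a3b3145a223b1a3916a3b31702d18d1b32729045a972728c08868cb916a3b3130510d197221a31ab32729a045a2258f221a31e4417)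 (Nat.mul (nat_lit 8) (g j))) (Nat.shiftLeft (nat_lit 1) (Nat.mul (nat_lit 8) (Nat.sub (g (Nat.succ j)) (g j))))) (pk61d (nat_lit 9) 
    (nat_lit 0x984be5d2c954a251289348e3b1b8cc662f1286c2a0f04803f5ecf177badcee36fb6da8d4683298ac55e2f168af55a953a9747225067d3a9c8d0652f1589e451d8c852220e8541400)))) (nat_lit 0) (nat_lit 63) List.nil)) (nat_lit 0) (nat_lit 1) List.nil) : List (List ℕ))
    = ?xq9049 → (List (List ℕ))) ?hq9049; (case hq9049 => (set_option maxRecDepth 1000000 in conv => lhs; reduce)); intro _; exact ?xq9049 : List (List ℕ))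

theorem rowsE7_48 : tE7.rows rE7_48 48 = true := by decide +kernel

noncomputable def rE7_49 : List (List ℕ) :=
  (by
  refine (?fq9050 : ((pk61l (fun i1 => (pk61l (fun i2 => (pk61f i2 fun j => (fun g : Nat → Nat => Nat.mod (Nat.shiftRight 
    (nat_lit 0x182b18329840281050316440501163446440d0d8d11910d0e11634464435191108e440901163c88688c058d0414e58f0916022b04a34407d8d6440a0288763c88689011b1a232218e2b04128228f2218816b221890b1ac98714d4b90929c7664e0c22040158f22189014d58f2218d0558f2218b5903023b327289d8d1c8890d8d1c8b528e28b446440b590308b1e443463572729502ee44351e4410051b910d18f22193351ab3080422e3b916a3b913028b963c8b5310116888f2218e271ab9090146ae44351e441128e45a970c0422d1163c8868921766443463563c88689918ee44346356645a971914634458d644351e4419346346c6b27291031dc8b51d9910845a32c7910d18f2219928e45a970b01446443463572729422e346e45a971001171a22e44346357272998b4446ae44351e4417) (Nat.mul (nat_lit 8) (g j))) (Nat.shiftLeft (nat_lit 1) (Nat.mul (nat_lit 8) (Nat.sub (g (Nat.succ j))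 (g j))))) (pk61d (nat_lit 9) 
    (nat_lit 0x9acd2673197cb65b2b9448a391c8ac56230b8441205007ebe5e4ec753a1c8e06e361a6d16631982bf5d2d960ab54a81409948a350a7e3c1d0d8672f95496411d0cc52240d8501200)))) (nat_lit 0) (nat_lit 63) List.nil)) (nat_lit 0) (nat_lit 1) List.nil) : List (List ℕ))
    = ?xq9050 → (List (List ℕ))) ?hq9050; (case hq9050 => (set_option maxRecDepth 1000000 in conv => lhs; reduce)); intro _; exact ?xq9050 : List (List ℕ))

theorem rowsE7_49 : tE7.rows rE7_49 49 = true := by decide +kernel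

noncomputable def rE7_50 : List (List ℕ) :=
  (by
  refine (?fq9051 : ((pk61l (fun i1 => (pk61l (fun i2 => (pk61f i2 fun j => (fun g : Nat → Nat => Nat.mod (Nat.shiftRight 
    (nat_lit 0x182b1831602014e057303458d11910d0fd6440608b1ac88688e047604298403634464435190022c688c886b10c766440aa72e4e0a0108872c7910d1971514e3b3090ab3060108d8f2218d063566440ba21d8f221a3192058d0423b30503970401351e440906c6b2218b01a8ec6b090e356347221a3313011ab18603010351ab1e440c0635910e0b53963c8b518f5359070538d5c98b029c6ac7910e10016ac7910e0d02234458d6440f1ac9853972728846c68e458b53463446440e9cb1a391728e0359042e3b910d476644140171a36644351e441504e3570729a31d8f22d47914028bb1e45a97105c688b1e44351e44165e45a8ecc98f04271a22c7910e1202d644346356645a8e9845d8f221a31ab322d4771b018d1b322d0cc68d9916a3b31102234459910d18d5c99702d19916a3b9100b52e45a8e8d43466443463563c996021351a22e44351e4417) (Nat.mul (nat_lit 8) (g j))) (Nat.shiftLeft (nat_lit 1) (Nat.mul (nat_lit 8) (Nat.sub (g (Nat.succ j)) (g j))))) (pk61d (nat_lit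 9) 
    (nat_lit 0xa652e9548a350e833b9c4ca5f2d9347e37178742a150780bf1eaf277bb1cee26eb55a2cf64b117cbb5b2bd52a24fa6d2c904521cfe7f3b1c8d4632d15098421b8c454200c84c1400)))) (nat_lit 0) (nat_lit 63) List.nil)) (nat_lit 0) (nat_lit 1) List.nil) : List (List ℕ))
    = ?xq9051 → (List (List ℕ))) ?hq9051; (case hq9051 => (set_option maxRecDepth 1000000 in conv => lhs; reduce)); intro _; exact ?xq9051 : List (List ℕ))

theorem rowsE7_50 : tE7.rows rE7_50 50 = true := by decide +kernel

noncomputable def rE7_51 : List (List ℕ) :=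
  (by
  refine (?fq9052 : ((pk61l (fun i1 => (pk61l (fun i2 => (pk61f i2 fun j => (fun g : Nat → Nat => Nat.mod (Nat.shiftRight 
    (nat_lit 0x1634406058d040503051166440b014e05363c88688c22c6b2218c01b1ac88688d022c688c88689011b1a232218e1b1a23221a3191ac688c886b0f044766440a29cb1e4e0c2984022c7910d18d0f82559907288b1e440c0426a58d6443531353b1e443460f28872c7910d18d14845cb1e44347122116a3440b2c68851b1ac9890281288b32218c01b1e443470d223b1e440bd1b1a3910e0f4222c68e440e59038b1a3910d18d12145ac8890231ac886a0d538ecc8b518f5ac987a972728aa2e3563c886a125ab1e443460f028b563c886a1063b30702159910d1c98f06c6b22e0ac6ac68e45a8e92044b1e44346357122c6885028cb910d18ecc886a1821357221a31e44130510d46ae45a8f1384d111e45a971284d19634464592014438d1163c886a1402d645870214c8868c76645a9717010d1c8868c6ae459429a31a370b109a2234458f22d4771810a35722d477100118d6443463563c886a1a) (Nat.mul (nat_lit 8) (g j))) (Nat.shiftLeft (nat_lit 1) (Nat.mul (nat_lit 8) (Nat.sub (g (Nat.succ j)) (g j))))) (pk61d (nat_lit 9) 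
    (nat_lit 0xae562ab53a752e9746a0cee692e93c8639178ac3a1b0a82bf5eef777ba1c6e06e369aacf653117cbc5aac556a5512792e914521d007b3a1b0d25f2b93c90411c0d054210e0481600)))) (nat_lit 0) (nat_lit 63) List.nil)) (nat_lit 0) (nat_lit 1) List.nil) : List (List ℕ))
    = ?xq9052 → (List (List ℕ))) ?hq9052; (case hq9052 => (set_option maxRecDepth 1000000 in conv => lhs; reduce)); intro _; exact ?xq9052 : List (List ℕ))

theorem rowsE7_51 : tE7.rows rE7_51 51 = true := by decide +kernel

noncomputable def rE7_52 : List (List ℕ) :=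
  (by
  refine (?fq9053 : ((pk61l (fun i1 => (pk61l (fun i2 => (pk61f i2 fun j => (fun g : Nat → Nat => Nat.mod (Nat.shiftRight 
    (nat_lit 0x4403422d58f2728e044b1e443463b91304272c7910d199130112c7910d18ee4e150845ab1e4e0d02118d0710886ac7910e102b221a31ab3272942258f221a31dc9942b221a318c08963c8868c7664e1602b221a31ac99001a31e44090564434635727293871dc98a45a22c790b056443460b56443463590f0d18f2218a58f221a31ab1e45a8e9804688b1a3910d18d1510e3b909e34458d1c8868c6a9708d1b1ac886890138d1c886a0e56443463563c8b52970259916b0922d1170814760502c88411a363440a8b5634464e0e051a3635910d109ab9068963c8868c7712a346c6b22d0e05a8d1b910d47913ac68e45a970e1a8f06112c7910d197113221a31ab1e44352950d4688b3221a31ac886a1b2d18d1b910d4791403530501a31ab322d4771201910d18d58f221a8e9605a223566443463591729b108c6b08346356645a971102118d5c8b51d9910d17084d4c886a0e021168c7635916a3b317029a8ec7916b1002116ac791728f01a31a22e44351d9910d1908820d18d117221a31d9910d1a021a8d1b916b104351ab916b0f510d1163470f1171e45a970d4438d6443463563c886a1c)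 (Nat.mul (nat_lit 8) (g j))) (Nat.shiftLeft (nat_lit 1) (Nat.mul (nat_lit 8) (Nat.sub (g (Nat.succ j)) (g j))))) (pk61d (nat_lit 9) 
    (nat_lit 0xd3e973f97c7e1b017cbadb6cb60abd4297439fcea6b2f954822f138540dfaf477badd0e570369a6d064b0d76b5592ad449747a31087a379acc85a2a128863c188bc481d0b8441600)))) (nat_lit 0) (nat_lit 63) List.nil)) (nat_lit 0) (nat_lit 1) List.nil) : List (List ℕ))
    = ?xq9053 → (List (List ℕ))) ?hq9053; (case hq9053 => (set_option maxRecDepth 1000000 in conv => lhs; reduce)); intro _; exact ?xq9053 : List (List ℕ))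

theorem rowsE7_52 : tE7.rows rE7_52 52 = true := by decide +kernel

def rE7_53 : List (List ℕ) := [
  [0x22e347221a31ab1e4599, 0x138d64589, 0xa31ac8b528e, 0x45d8f22d4790f, 0x547916b0b, 0x5171a3916a3b313, 0x158f22d09, 0x2363591728c, 0xa2e35722d0e, 0x5171e45a8f0f, 0x538d1b91728f, 0x22ec68e45a8e90, 0x4346c6b221a8ecc997, 0x158d1c8b518d, 0x2d4b308, 0x538ee45a8ecc993, 0x1346c6b221a8e92, 0x538d6458b, 0x1a9605, 0x868d8d64435192, 0x232c68e458c, 0x4268c763c886a3b917, 0x2d58f2728c, 0x683, 0xa71dc8b518e, 0x9ab1a3910d47913, 0x68d8d1c887290, 0xd5c986, 0x101, 0xa2d4688c886b12, 0x84d19635910e12, 0x4268d8f221a8e93, 0x6c6b221a328f, 0x535287, 0x29ac988, 0x15664e09, 0x1a32c6b2218e, 0xd1b1e443518f, 0x2110d4c8868cb914, 0x21168cb910d19714, 0x258d05, 0x3b1ac988, 0x84d4b1e4435312, 0x434658f2218f, 0xb5634464435311, 0x458d1c8868c6a93, 0x29a9634464435193, 0xcc986, 0x539664e0b, 0x35635910d0d, 0x108b4664434711, 0x21168897221a3194, 0x108b53221a3291, 0x845a9910d1c992, 0xacc986, 0x43563c88728f,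 0x2d58d11910d0f, 0x116347221a3191, 0x16ac688c886b10, 0x3635910d18e90, 0x8b1a3910d18e92, 0xa71ac98a, 0x9c6b2218a]]

theorem rowsE7_53 : tE7.rows rE7_53 53 = true := by decide +kernel

noncomputable def rE7_54 : List (List ℕ) :=
  (by
  refine (?fq9055 : ((pk61l (fun i1 => (pk61l (fun i2 => (pk61f i2 fun j => (fun g : Nat → Nat => Nat.mod (Nat.shiftRight 
    (nat_lit 0x1c68d8f22d0e2116a59910d479140511722d0a11b90601c6ac7910d1c99102810171d9916b0d038d1b322d0d2887722d0b01c6acc88a045ab90702110d1c8b528fb8d58f221a391238d5990922d5c888a22e4589021172e4434610b90342b9071445c988422e5c886a0f44688b1a3910d18f17071a363c8868908dc9872e3b322d0c088d116347221a8f16e346c7910d0f4221a3722d0e845d8d645a97111088b1ac8b5190108b5188010e34458f221a39150422d58d645a9712023635916a0c0763446443518f844351d9910d18d599190871a22c6b221a39160235722d09110e850110ecc8868cb9128443566443463b322199022e840e3563c8868e4e120886acc8868cb9130211163c8b518f4e83211732218c4222cc8b518e045a23221a318f1cb18514ecc8868cb9118b446443518e10886ae443463b32219845a223c8868c6ae443519b0145ab3221a31ab91471830234458d645a971113446443518d0110d58f221a31d9910e19221ab3221a31d9910e18071a22e443518f)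 (Nat.mul (nat_lit 8) (g j))) (Nat.shiftLeft (nat_lit 1) (Nat.mul (nat_lit 8) (Nat.sub (g (Nat.succ j)) (g j))))) (pk61d (nat_lit 9) 
    (nat_lit 0xbe5dadd69b357ab956a852e8d42a14ee6930964a243218fc72311284c09fefa78badcade6bb4d94c25e2d556a24ea692488429f4ea6e3619cc25a2b94094401a8b054220e0440e00)))) (nat_lit 0) (nat_lit 63) List.nil)) (nat_lit 0) (nat_lit 1) List.nil) : List (List ℕ))
    = ?xq9055 → (List (List ℕ))) ?hq9055; (case hq9055 => (set_option maxRecDepth 1000000 in conv => lhs; reduce)); intro _; exact ?xq9055 : List (List ℕ))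

theorem rowsE7_54 : tE7.rows rE7_54 54 = true := by decide +kernel

def rE7_55 : List (List ℕ) := [
  [0x108b444688b322d4766459c, 0x16a34708, 0xa8d645a8e8e, 0xb51ac889, 0x29d8d645a8f10, 0x558f22d4770f, 0x8b8d1b18a, 0x10d18ee443463563c886a1c, 0x845ab916a3b911, 0x14e3c8b530d, 0x109c68d8d6443463b318, 0x222346cc8868c6b27299, 0x21a32e443463563c886a1b, 0x108b5722e0c, 0x43466443470e, 0x51a363590b, 0x84e346c6b221a8ecc899, 0x118d11664434664e16, 0x683, 0x444688b3221a31ac8b529c, 0x2116a3b910d47664417, 0xb8d58d64435292, 0x8b5707, 0x221c688b322191, 0xa72e4e0a, 0x422ec68e440f, 0xa34459910d18f22e17, 0xa21a226443465c995, 0x11c986, 0x2116ae4434635910d17, 0x422d4b910d47664416, 0x21172c7910d10, 0x110e346cc886892, 0x1088763c887290, 0xa7906, 0x2110ec7910d18f13, 0x14e3b916a0d, 0x44346c7910e10, 0x10886889910d18ee4598, 0x422d1b910d18d59910d1a, 0x2e64407, 0x51a22cc886b10, 0x110e34458d64411, 0x8c688b1a3910d12, 0x1088763c886a3c894, 0x845d8f221a3291, 0x886a34458d1c886a16, 0x1468d9910d0e, 0x22e3566440d,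 0x86a3446440d, 0x1171a22c68e4435295, 0x8c688b3221a3913, 0xac688c8b530e, 0x8d8d1191728e, 0x426a58f221a8f13, 0x108b57221a8ee4414, 0xa34459910d0f, 0x11b1a2322e0d, 0x845ab910d47664415, 0x4438d11664410, 0x1088763c8868c7914, 0x2110ec7910d47913, 0x5a8d6440a]]

theorem rowsE7_55 : tE7.rows rE7_55 55 = true := by decide +kernel

def rE7_56 : List (List ℕ) := [
  [0x8868c6b221a31ab1e441a, 0x45a363c98b, 0x45a366458b, 0x1168d8f22d0d, 0x110e58d1c98e, 0x351d9916b0d, 0x221a31ac8b5190, 0x110d113221a31d9916b1a, 0x871dc8b518e, 0x221a223c8868c6ac7910e1c, 0x6888d116645a8f13, 0x845a972728d, 0x443444c8868c6ac7916b1c, 0x1a2234458f22d47915, 0x110d1b916b0e, 0x2116a5c8b528f, 0x1a2234459916a3c895, 0x443463b910d47664418, 0x4403, 0x2116a3b91728f, 0x1c688b910d18d64434619, 0x443465c8868c7664418, 0x4403, 0x13444c8868cc992, 0x8443963c8868c7664e19, 0x1a8d117221a31ac886a19, 0x110d19722d47664416, 0xe3445c98a, 0x45a226443463c994, 0x8443b1e443463b322e19, 0x71a22e4434635910e17, 0x1634406, 0x4d113221a31e4594,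 0x4d19910e0c, 0x38d11722d0c, 0x5a22357221a31ac997, 0x108b52e4434635722198, 0x110d1b910d18f22196, 0x351a22e458c, 0x5a31ab910d18d64597, 0x13444c886a0e, 0x1088763c886a3b914, 0x10e3b910d18d64415, 0x68c6ac7910d1c994, 0x16888d5c8868c6b22d19, 0x13466443460e, 0x1088763c8868c7714, 0x2d18ee443463c994, 0x168c6ae4435311, 0x22d1163c886890, 0x44346e443463b910e18, 0x4221d8f221a31dc896, 0x2d18d5c8868cc994, 0x168c77221a3311, 0x422d5c8868c6acc88689a, 0x8b4458f2218e, 0xb46357221a31e4596, 0x1a31ab1e4434727296, 0x3463563c8868e4e15, 0x5a31ab910d19913, 0x108b57221a31ab322198, 0x845ab910d18d59910d19, 0x8b46c7910d0e]]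

theorem rowsE7_56 : tE7.rows rE7_56 56 = true := by decide +kernel

noncomputable def rE7_57 : List (List ℕ) :=
  (by
  refine (?fq9058 : ((pk61l (fun i1 => (pk61l (fun i2 => (pk61d (nat_lit 89) 
    (nat_lit 0x2886b221a31ab1e4434640000021351d9910d47722a0002886b221a31ab322d17221d9910d18ecc8868cc8d8000000845cc8868c772650510d58f221a31ac886a5360000000000000e3b322d0b02886b221a31ab1e44344d000510d6443463563c8b4600008868897221a31d9932e0000000134659910d18e910443b3221a31d9910d1c8d510d58f221a31ab910d4a700000071a3635910d18f22800221a225c8868c766459800000000134659910d47480008868897221a31d9938600000000044352cc8868c220000034634458d1c88729400116a3b910d18ecc8868c0000000000468dc8b51dc380221a225c8868c76645c3200000000044352cc886a1000000004e5c8868c793949800000000110d4b3221a240022d477221a31d9910d4320000000116a3c8b51d9911000000272e443463c8b94a0000000000221a96644343c0000000222e45a8ecc88220000110d117221a31e459500000006a34458f221a9498000000008b51e45a8ee44000000443444c8868c7662800000221a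22e443463c99400000000111722d47722080000000071a3635916a3c44000000886889910d18ee26000000443444c886a3b313000000000000a6b221a8c68000000068c688b1a3910440000a21ac8868c6acc8b2c0000000886889910d47712000009a32cc8868c6ae44a81443563c8868c6b221a868000014435910d18d59932a00044352cc8868c6b22e1800000134659910d18d5c8a002886ac7910d18d6443464000110d4b3221a31ac9c2e0000886a59910d18d64597000000468d8f221a31ab898a2d477221a31d9910d4c6c0000221a9664434635932c0000000000000000009703028b51dc8868c76644358d000000000000000d1b938200000011a3635910d18d62800000000000000068dc987000000000000001a8d1c84000000000000139910d1c30000000000000139910d61600000000000071d9916b0c) i2)) (nat_lit 0) (nat_lit 63) List.nil)) (nat_lit 0) (nat_lit 1) List.nil) : List (List ℕ))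
    = ?xq9058 → (List (List ℕ))) ?hq9058; (case hq9058 => (set_option maxRecDepth 1000000 in conv => lhs; reduce)); intro _; exact ?xq9058 : List (List ℕ))

theorem rowsE7_57 : tE7.rows rE7_57 57 = true := by decide +kernel

def rE7_58 : List (List ℕ) := [
  [0x14e5c989, 0x346346c6b221a8e94, 0x25c985, 0x11dc986, 0x1a31a22c6b221a8e95, 0x8d5c987, 0x8ecc987, 0xd18d11635910d47716, 0xd18d116347221a8e96, 0x68c688b1ac886a3b917, 0x46acc988, 0x68c688b1a3910d47717, 0x468dc988, 0x23563c989, 0x29e4408, 0x34634458d1c886a3c898, 0x0, 0x34634458f221a8ecc898, 0x34604, 0x234727289, 0x29cc888, 0x2346cc989, 0x53966440b, 0x539910e0b, 0x11a37221a31ac886896, 0x8d58f221a31ac886a17, 0x11a363c98a, 0x468d8f22d47910, 0x29cc886a0c, 0x38d1b32728c, 0x11ab1e4434635910e16, 0x8d1b1ac98b, 0x1c6885, 0x29cb910e0c, 0x8d1b1e45a8f0f, 0x14e6443530d, 0x1c68d8f2728d, 0x23563c8868c7910e15, 0x21172cc886890, 0xe34706, 0x14e5c886a0d, 0x11a363c8b518e, 0x2346c7910d18d64415, 0xe346c6b2728e, 0x71a3907, 0x11a3606,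 0x108b9664434711, 0x46ac7916b0c, 0xa72e443530e, 0x468d8f221a31e4414, 0xa73221a31e4592, 0x845cb3221a3912, 0x109cb3221a3191, 0x8d1b307, 0x8d58f22d0b, 0x8d1b1e44351e4413, 0x84e59910d18d12, 0x468e4e08, 0x2346e4e09, 0x468d9908, 0x84e59910d18f12, 0x11ab1e458a, 0x68c68d8d645a8e93]]

theorem rowsE7_58 : tE7.rows rE7_58 58 = true := by decide +kernel

noncomputable def rE7_59 : List (List ℕ) :=
  (by
  refine (?fq9060 : ((pk61l (fun i1 => (pk61l (fun i2 => (pk61d (nat_lit 50) 
    (nat_lit 0x29cb916a3c890a72e44351e4429cb910d18f10a72e4434664429cb910d1c990a73221a3938429cb910d18d1014e5c8b51e43c5397221a8f0f14e5c8868cc3c5397221a318f14e5c8868e43c539910d1c98f029cb916a3c380a72e443530e029cb910d46380a72e443470e029cb910d18380a73221a390e00539722d4c34014e5c8b518d005397221ac34014e5c886a0d00539910d1c34014e5c88688d000a72e45ac300029cb916a0c000a73221ac300029cb910d0c000a72e4438300029cc88688c00014e645ac2c000539722d0b00014e5c8b82c000539910d0b00014e5c8862c0000a7322d0a000029cb916280000a72e4e0a000029cc886280000a72e440a0000053991624000014e5c9890000053972224000014e64409000000a7326200000029cc888000000a72e4200000029e440800000014e641c00000053c88700000014e5c1c0000000a7306000000029e4180000000a72860000000053c14000000014e05000000000ac10000000002984000000000140c0000000000820000000000004000000000000)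 i2)) (nat_lit 0) (nat_lit 63) List.nil)) (nat_lit 0) (nat_lit 1) List.nil) : List (List ℕ))
    = ?xq9060 → (List (List ℕ))) ?hq9060; (case hq9060 => (set_option maxRecDepth 1000000 in conv => lhs; reduce)); intro _; exact ?xq9060 : List (List ℕ))

theorem rowsE7_59 : tE7.rows rE7_59 59 = true := by decide +kernel

end Cfsg.Agent.OM.Cu.T95
end
end

-- part: BZ/RT/Co/E7
section
prune_inst 0x610004d002ce2020000180012e2000220700005920040000078a209420046d0608843a8004a000d10102012000804004002100000400000000a0000000006052180084000c389030cae0009001082010000000000000000000000000000041000204010000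
set_option linter.all false
open scoped Cfsg.Agent.FastGrp

-- part: BZ/RT/Co/E7D
section
/-!
# BZ / RT : the pair `(E₇, E₆)`, tables (helper95, generated)
-/

set_option autoImplicit false
set_option maxRecDepth 100000

namespace Cfsg.Agent.BZ.RT.Co.E7

open Cfsg Matrix Cfsg.Agent.HZ.L Cfsg.Agent.BZ.TA Cfsg.Agent.BZ.TA.Cl Cfsg.Agent.OM.Cu Cfsg.Agent.OM.Cu.Eng Cfsg.Agent.OM.Cu.T95
  Finset

/-- the matrices of the classes, entries plus 7 -/
def XD : ℕ := 0x6777777767777777677777776777777767777777677777776686876977687687858769795875a795965b786875a7868768967767786786779668677a577677b577578a67766897776777778775877777688777758787774878876477878657787776777877577786868778685887868488796748788675778777667877787687777768867866986786798678678876867787777776885778678687867857786884787689377777947777786877769587777769777686978669597875a488776957777786886868687777768877776887868588696857868785777778678678768777776887777678778757868875777787677777867786876877777688777768787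7767787875777787677777867778776877777688777768787776877877677778767777786677777976777787767779777677a777767b777776a777777858778777877777697687759868774a778775977876687778667877787687777778777767977776798678678876867787777877769877776888777688886769888766a7787769777777867778777776877787687777868777777877777787677777867776869777687787768688785869868586a768686977777786777877768777776787777778777677878767787786778777777868787776878877687878768787786877777787777778677868767687777778777787877767787875777787677777867778776768777777877778787776877877677778767777786678777878777777878678688867867986786788768677877778678688777768887776878778597868859777786877777787786868877776888777688787768778785977778687777778777876887777688877768878776887787687777868777777888686867877777887777688786858869685786878577777867786876787777788777768787776778787577778767777786777877678777778877776878777687787767777876777778687777778777776887777687877768778776777787677777866787778768777777877777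7967787797679778776977777786777877768777777877777786877777787777778767777786677787778777777876877778687777778777777876777778667778777776877787687777868777777877777778777777867877769787777788777688886769888766a778776977777787786868768777777877778787768778785977778687777778777876876877777787777878776887787687777868777777887777777768777786877777787778778776777787677777867778687877768788776878787687877868777777877777778778687678777777787777878777677878757777876777778677787767877777778777787877768778776777787677777868777777768777777877778787776877877677778767777786877777778777778877776878777687787767777876777778667877787877777778777777967787797679778776977777786777877768777777877777786877777787777777877777786877777776877777787777778687777778777777876777778687777777877777787687777868777777877777787677777866777877777687778768777786877777787777777877777778778686878777777787777878776877878597777868777777877787687877777778777787877688778768777786877777788777777787777778687777778777877877677778767777786877777778777777787777878777687787767777876777778667778777687777778777777868777777877777778777777788777777787777778687777778777877868777777877777786877777778777777787777778687777778777777876777778687777777877777778777777787778778776777787677777868777777787777777877777778777877868777777877777786877777778777777787777777877777778777777876777778687777777877777778777777787777777877777778777777868777777787777777877777778777777787777777877777778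

/-- the certificates, entries plus 128 -/
def YD : ℕ := 0x7f808080808080807f808080808080807f808080808080807f808080808080807f808080808080807f808080808080807f7f7e827e80827f807e817f808180807e817e80827f807d837c80837f807c847c7f847e807d837d80827e807e827e80827e7a8180818180817e7f807f8180817c827e808180817a83807f818081788280828080807a818081827e807c80808082807e7b83837b8080887d7d837d8080867c80807c80808a7d83837780808c7c8484787c828e7e82827c7e7e8a7e80807e8080827e7f827e817f837f7f807f827e827e80807e827e847e7f827c837d857e7e837c827d867e80817e827d847f80807f817f8181837f7b83807e81817f7d82807f82847e7a84807e83857f7785807e84867e7685807d83847f79847f7e8282807c82807e7f7f81817f7e847f7f7f81817e827e807e82807e847f7f7f817f7e86807e80827e7c8880808080807c8680808080807e82787c8380837c887c7c8180818084787c8080847c88767a837e857a8c747884808478907878848084788c7c7c8280827c847b7d847d847d847d7d827f827f827a7c827e847e84797b847b867d86787a867a867c887c7c847c847c867e7e827e827e827f7d847d7d84847f7d827f7f82827e7c827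e7e84847f7b847b7d8686807a867a7a8888807c847c7c8486807e827e7e82827c7d7d847d84847e7d7f827f82827c7c7c847e84847a7b7b847d86867a7a7a867a88887c7c7c847c84867e7e7e827e8282797d7d7d8484847d7d7f7f8282827a7c7c7e848484777b7b7b868686747a7a7a868888787c7c7c8484867c7e7e7e82828280808080808080817e808080808082807e808080808380807e808080848080807e808083808080807e80828080808080808080808080808080808080808080808080808080808080808080808080808080808080808080808080808080808080808080808080808080817d8081808081828080828080828480807e808084868080807d80838580807f807d828480807e80807e80808080808080807d8180808180807e7e80808280827f7f7e80818084807e807e808084817d80807d8084827e80807e808080808080808083778383808080867a7a86808080897d7d7d8080808c8080808080808880808080788484808080807c7c80808080808080837c7f837d7f8082807a827e828085807d7d7f818088847c807c808087847b7f817b8086807e7e827e8080808080808080817d7d8081818182837a80828282838080808383838980808080808086808080867d7d8380808083837a80808080808080827a8282808080847c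7c84808080867e7e7e808080888080807880808a828282788080858181817c807c80808080808080827d807e837e7e8480807c867c7c82808078867e7e8680807a8080808480807c807c828280807e807e7e80808080808080857d80837e7e7e8a8080867c7c7c888080807e7e7e868080807a8080848080807c7c82828080807e7e7e80808080808080808080808080808080808080808080808080808080808080808080808080808080808080808080808080808080808080807f7d80818180807e7e7c82828080817f7c7f83808084807c8080808083817c81817c8082827c82827c8080808080808080807d8180818080807e7e80828080807f7f7c8380808480807c8080808481817c817c808482827c827c8080808080808080817d8181808080827e7e82808080837f7f7f808080848080807c8080858181817c7c80868282827c7c8080808080808080808080808080808080808080808080808080808080808080808080808080808080808080808080808080808080808080808080808080808080808080808080808080808080808080808080808080808080808080808080808080808080808080808080808080808080808080808080808080808080808080808080808080808080808080808080808080808080808080808080807a81818181818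07b7b82828282807c7c7c838383807d7d7d7d8484807e7e7e7e7e85807f7f7f7f7f7f80808080808180808080808080818080808080808280808080808181808080808082808080808080827f8080808080827e80808080808380808080808080818080808080808280808080808381808080808086808080808080848080808080808280808080808083808080808080808380808080808282808080808084818080808080868080808080808480808080808082808080808080828080808080808180808080808082808080808080838080808080808480808080808080828080808080808180808080808380808080808080838080808080828280808080808481808080808086808080808080857f8080808080847e80808080808180808080808080818080808080808280808080808181808080808082808080808080827f8080808080827e80808080808180808080808080818080808080808280808080808181808080808082808080808080827f8080808080827e8080808080848080808080808084808080808080888080808080808c8080808080838980808080808286808080808081838080808080828080808080808180808080808082808080808080838080808080808480808080808083808080808080808180808080808380808080808080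8180808080808480808080808085808080808080868080808080808480808080808082808080808080838080808080808081808080808084808080808080858080808080808680808080808084808080808080828080808080808580808080808080858080808080808a808080808083888080808080868680808080808484808080808082828080808080828080808080808086808080808081858080808080828480808080808383808080808082828080808080818180808080808080808080808081808080808080808280808080808081808080808080808080808080807f8080808080807e808080808080808080808080818080808080808280808080808081808080808080808080808080808082808080808080818080808080808080808080808380808080808086808080808080808380808080807a8680808080807c8480808080807e8280808080808080808080808083808080808080808180808080807d8280808080807a8380808080807c8280808080807e818080808080808080808080808080808080808080808080808080808080808080808080808080808081808080808080808180808080808080808080808081808080808080808280808080808081808080808080808080808080807f8080808080807e80808080808080808080808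081808080808080808280808080808081808080808080808080808080807f8080808080807e80808080808080808080808084808080808080808280808080807c8480808080807d8380808080807e8280808080807f818080808080808080808080808180808080808080858080808080808480808080808083808080808080828080808080808180808080808080808080808080808080808080808080808080808080808080808080808080808080818080808080808081808080808080808080808080808080808080808180808080808082808080808080808180808080807e8280808080807f818080808080808080808080808080808080808083808080808080808380808080807d8680808080807e8480808080807f8280808080808080808080808080808080808080818080808080808084808080808080838080808080808280808080808081808080808080808080808080808080808080808080808080808082808080808080808180808080807e8280808080807f81808080808080808080808080808080808080808080808080808081808080808080808380808080808082808080808080818080808080808080808080808080808080808080808080808080808080808080808180808080808080828080808080808180808080808080808080808080808080808080808080808080808080808080808080808080808080818080808080808081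

/-- the traces of the first three powers -/
def LI : List (ℤ × ℤ × ℤ) := [(7, 7, 7), (5, 7, 5), (4, 4, 7), (3, 7, 3), (3, 3, 3), (2, 4, 5), (1, 7, 1), (1, 7, 1), (2, 2, 2), (1, 3, 1), (2, 4, -1), (3, -1, 3), (1, 3, 1), (1, 1, 7), (0, 4, 3), (-1, 7, -1), (-1, 7, -1), (1, 1, 1), (0, 2, 0), (1, 3, 1), (2, 0, -1), (1, 1, 1), (0, 0, 3), (0, 4, -3), (1, -1, 1), (-1, 3, -1), (-1, 3, -1), (-1, 1, 5), (-2, 4, 1), (-3, 7, -3), (0, 0, 0), (0, 2, 3), (1, 1, -2), (2, -2, -1), (0, 2, 0), (1, -1, 1), (1, 1, -5), (-1, 1, -1), (-1, 3, -1), (0, 0, -3), (-1, 1, -1), (-1, -1, 2), (-1, -1, -1), (-2, 0, 1), (-2, 4, -5), (-3, 3, -3), (-2, -2, 7), (-5, 7, -5), (-1, 1, 2), (0, 0, 0), (0, 2, -3), (1, -1, -2), (-1, -1, -1), (2, -2, -7), (-2, 2, -2), (-1, 1, -7), (-2, -2, 1), (-3, -1, -3), (-4, 4, -7), (-7, 7, -7)]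

/-- the matrix of the class `i` -/
def xm (i : ℕ) : Mat (Fin 7) := Matrix.of fun j k => (fd 4 XD (49 * i + 7 * j + k) : ℤ) - 7

/-- the certificate of the class `i` -/
def ym (i : ℕ) : Mat (Fin 7) := Matrix.of fun j k => (fd 8 YD (49 * i + 7 * j + k) : ℤ) - 128

/-- a column of the certificate -/
def yc (i : ℕ) (k : Fin 7) : Vec (Fin 7) := fun j => ym i j k

/-- the invariants -/
def iv (g : Mat (Fin 7)) : ℤ × ℤ × ℤ := (trace g, trace (g * g), trace (g * (g * g)))

/-- the invariants of the class `i` -/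
def li (i : ℕ) : ℤ × ℤ × ℤ := LI.getD i 0

/-- the invariants of the negative -/
def ng (v : ℤ × ℤ × ℤ) : ℤ × ℤ × ℤ := (-v.1, v.2.1, -v.2.2)

/-- the induced function -/
def ph (v : ℤ × ℤ × ℤ) : ℤ :=
  if v = (0, 2, 3) then -1 else if v = (1, 1, -2) then 1 else if v = (2, -2, -1) then -3 else if v = (-2, -2, 7) then 9 else 0

/-- the check of the matrix of the class `i` -/
noncomputable def cx (i : ℕ) : Bool := tE7.eqv (tE7.aA i tE7.v0)
  (pk (fun j => sL (fun k => (fd 4 XD (49 * i + 7 * j + k) + 7 * NM) * 65536 ^ k) 7) 7)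

theorem cx_ok : aL cx 60 = true := by decide +kernel

private noncomputable def _root_.Cfsg.Agent.LsF.f2dc4dd_5 : {f // @Cfsg.Agent.BZ.RT.Co.E7.iv = f} := ⟨_, by first | (delta Cfsg.Agent.BZ.RT.Co.E7.iv Matrix.trace; rewrite [Cfsg.Agent.LsF.mmulF_pat, Cfsg.Agent.LsF.sumF_pat, Cfsg.Agent.LsF.iadd_pat, Cfsg.Agent.LsF.imul_pat, Cfsg.Agent.LsF.iACM_eq]; exact rfl) | exact rfl⟩
private noncomputable def _root_.Cfsg.Agent.LsF.f2dc4dd_6 : {f // @Cfsg.Agent.BZ.RT.Co.E7.xm = f} := ⟨_, by first | (delta Cfsg.Agent.BZ.RT.Co.E7.xm; rewrite [Cfsg.Agent.LsF.mof_pat, Cfsg.Agent.LsF.nadd_pat, Cfsg.Agent.LsF.nmul_pat, Cfsg.Agent.LsF.isub_pat, Cfsg.Agent.LsF.icast_pat]; exact rfl) | exact rfl⟩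
private noncomputable def _root_.Cfsg.Agent.LsF.f2dc4dd_7 : {f // @Cfsg.Agent.BZ.RT.Co.E7.li = f} := ⟨_, by first | (delta Cfsg.Agent.BZ.RT.Co.E7.li; rewrite [Cfsg.Agent.LsF.getD_eq]; exact rfl) | exact rfl⟩
theorem iv_xm : ∀ i < 60, iv (xm i) = li i := by (refine of_decide_eq_true ?_; (try (rewrite [Cfsg.Agent.LsF.f2dc4dd_5.2, Cfsg.Agent.LsF.f2dc4dd_6.2, Cfsg.Agent.LsF.f2dc4dd_7.2, Cfsg.Agent.LsF.dProdEq_eq, Cfsg.Agent.LsF.instIDecEq_eq, Cfsg.Agent.LsF.dBallLT_eq, Cfsg.Agent.LsF.decide_eq])); decide +kernel)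

private noncomputable def _root_.Cfsg.Agent.LsF.f2dc4dd_8 : {f // @Cfsg.Agent.BZ.RT.Co.E7.ym = f} := ⟨_, by first | (delta Cfsg.Agent.BZ.RT.Co.E7.ym; rewrite [Cfsg.Agent.LsF.mof_pat, Cfsg.Agent.LsF.nadd_pat, Cfsg.Agent.LsF.nmul_pat, Cfsg.Agent.LsF.isub_pat, Cfsg.Agent.LsF.icast_pat]; exact rfl) | exact rfl⟩
private noncomputable def _root_.Cfsg.Agent.LsF.f2dc4dd_9 : {f // @Cfsg.Agent.BZ.RT.Co.E7.yc = f} := ⟨_, by first | (delta Cfsg.Agent.BZ.RT.Co.E7.yc; rewrite [Cfsg.Agent.LsF.f2dc4dd_8.2]; exact rfl) | exact rfl⟩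
theorem cert : ∀ i < 60, i ∈ [31, 32, 33, 37, 46] ∨
    (xm i *ᵥ yc i 0 = yc i 0 ∧ xm i *ᵥ yc i 1 = yc i 1 ∧ ∃ a b, yc i 0 a * yc i 1 b - yc i 0 b * yc i 1 a ≠ 0) ∨
    ((∀ a b, a ≠ b → ((xm i - 1) * ym i) a b = 0) ∧ ∃ k, k ≠ 5 ∧ ∀ b, b ≠ k → ((xm i - 1) * ym i) b b ≠ 0) := by (refine of_decide_eq_true ?_; (try (rewrite [Cfsg.Agent.LsF.mulVecF_pat, Cfsg.Agent.LsF.msub_pat, Cfsg.Agent.LsF.dPiF_pat, Cfsg.Agent.LsF.dMemE_pat, Cfsg.Agent.LsF.f2dc4dd_6.2, Cfsg.Agent.LsF.f2dc4dd_9.2, Cfsg.Agent.LsF.f2dc4dd_8.2, Cfsg.Agent.LsF.iadd_pat, Cfsg.Agent.LsF.imul_pat, Cfsg.Agent.LsF.isub_pat, Cfsg.Agent.LsF.finFintype_eq, Cfsg.Agent.LsF.instMOne_eq, Cfsg.Agent.LsF.iACM_eq, Cfsg.Agent.LsF.instDecEq_eq, Cfsg.Agent.LsF.instIMul_eq, Cfsg.Agent.LsF.instIDecEq_eq, Cfsg.Agent.LsF.dAnd_eq, Cfsg.Agent.LsF.dOr_eq, Cfsg.Agent.LsF.dNot_eq, Cfsg.Agent.LsF.dFinEq_eq, Cfsg.Agent.LsF.dBallLT_eq, Cfsg.Agent.LsF.dForallFin_eq, Cfsg.Agent.LsF.dExistsFin_eq, Cfsg.Agent.LsF.dAllP_eq, Cfsg.Agent.LsF.decide_eq]));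 decide +kernel)

theorem wit : ∀ i ∈ [19, 20, 25, 27], ∃ k, xm i *ᵥ yc i k = yc i k ∧ ∃ j, j ≠ 5 ∧ (sp (cm 7 (cT 2 7)) j).1 ⬝ᵥ yc i k ≠ 0 := by
  decide +kernel

theorem no5 : ∀ i ∈ [19, 20, 25, 27], ∀ s < Nat.mod (fd 400 tE7.cw i) 128, fd 3 (Nat.shiftRight (fd 400 tE7.cw i) 7) s ≠ 5 := by
  decide +kernel

theorem inj : ∀ t < tE7.R, ∀ t' < tE7.R, (∀ j < tE7.n, tE7.co t j = tE7.co t' j) → t = t' := by (refine of_decide_eq_true ?_; (try (rewrite [Cfsg.Agent.LsF.instDecEq_eq, Cfsg.Agent.LsF.dBallLT_eq, Cfsg.Agent.LsF.dAllP_eq, Cfsg.Agent.LsF.decide_eq])); decide +kernel)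

theorem co5 : ∀ t < 63, tE7.co t 5 ≤ 1 := by decide +kernel

theorem co62 : ∀ k < 7, k ≠ 5 → 2 ≤ tE7.co 62 k := by decide +kernel

theorem xm59 : xm 59 = -1 := by decide +kernel

theorem tab0 : ∀ i < 60, i ∈ [31, 32, 33, 46] ∨ (li i ≠ li 31 ∧ li i ≠ li 32 ∧ li i ≠ li 33 ∧ li i ≠ li 46) := by decide +kernel

private noncomputable def _root_.Cfsg.Agent.LsF.f2dc4dd_10 : {f // @Cfsg.Agent.BZ.RT.Co.E7.ph = f} := ⟨_, by first | (delta Cfsg.Agent.BZ.RT.Co.E7.ph; rewrite [Cfsg.Agent.LsF.ineg_pat, Cfsg.Agent.LsF.dProdEq_eq, Cfsg.Agent.LsF.instIDecEq_eq, Cfsg.Agent.LsF.ite_eq]; exact rfl) | exact rfl⟩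
private noncomputable def _root_.Cfsg.Agent.LsF.f2dc4dd_11 : {f // @Cfsg.Agent.BZ.RT.Co.E7.ng = f} := ⟨_, by first | (delta Cfsg.Agent.BZ.RT.Co.E7.ng; rewrite [Cfsg.Agent.LsF.ineg_pat]; exact rfl) | exact rfl⟩
theorem tab1 : ∀ i < 60, ∑ t ∈ range 63, ph (li (tE7.jj i t)) = -9 * ph (ng (li i)) := by (refine of_decide_eq_true ?_; (try (rewrite [Cfsg.Agent.LsF.f2dc4dd_10.2, Cfsg.Agent.LsF.f2dc4dd_7.2, Cfsg.Agent.LsF.f2dc4dd_11.2, Cfsg.Agent.LsF.imul_pat, Cfsg.Agent.LsF.ineg_pat, Cfsg.Agent.LsF.fsum_eq, Cfsg.Agent.LsF.frange_eq, Cfsg.Agent.LsF.iACM_eq, Cfsg.Agent.LsF.instIDecEq_eq, Cfsg.Agent.LsF.dBallLT_eq, Cfsg.Agent.LsF.decide_eq])); decide +kernel)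

/-- the number of the roots of `E₆` which lead from the class `i` to the class `j` -/
def cnt (i j : ℕ) : ℕ := (((range 63).filter fun t => tE7.co t 5 = 0).filter fun t => tE7.jj i t = j).card

theorem tab2 : [19, 20, 25, 27].map (fun i => [31, 32, 33, 37, 46].map (cnt i)) =
    [[8, 8, 0, 0, 0], [0, 12, 4, 0, 0], [0, 0, 0, 16, 0], [18, 0, 0, 9, 2]] := by decide +kernel

theorem tab3 : [31, 32, 33, 46].map (fun i => (∑ t ∈ range 63, (li (tE7.jj i t)).1, ∑ t ∈ range 63, (li (tE7.jj i t)).2.1)) =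
    [(0, 90), (45, 63), (90, -18), (-90, -18)] := by decide +kernel

theorem rowOk (i : ℕ) (hK : i < 60) : tE7.RowOk i := by
  interval_cases i
  exacts [Tb.rows_ok rowsE7_0 _ le_rfl (Nat.lt_succ_self _),
    Tb.rows_ok rowsE7_1 _ le_rfl (Nat.lt_succ_self _),
    Tb.rows_ok rowsE7_2 _ le_rfl (Nat.lt_succ_self _),
    Tb.rows_ok rowsE7_3 _ le_rfl (Nat.lt_succ_self _),
    Tb.rows_ok rowsE7_4 _ le_rfl (Nat.lt_succ_self _),
    Tb.rows_ok rowsE7_5 _ le_rfl (Nat.lt_succ_self _),
    Tb.rows_ok rowsE7_6 _ le_rfl (Nat.lt_succ_self _),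
    Tb.rows_ok rowsE7_7 _ le_rfl (Nat.lt_succ_self _),
    Tb.rows_ok rowsE7_8 _ le_rfl (Nat.lt_succ_self _),
    Tb.rows_ok rowsE7_9 _ le_rfl (Nat.lt_succ_self _),
    Tb.rows_ok rowsE7_10 _ le_rfl (Nat.lt_succ_self _),
    Tb.rows_ok rowsE7_11 _ le_rfl (Nat.lt_succ_self _),
    Tb.rows_ok rowsE7_12 _ le_rfl (Nat.lt_succ_self _),
    Tb.rows_ok rowsE7_13 _ le_rfl (Nat.lt_succ_self _),
    Tb.rows_ok rowsE7_14 _ le_rfl (Nat.lt_succ_self _),
    Tb.rows_ok rowsE7_15 _ le_rfl (Nat.lt_succ_self _),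
    Tb.rows_ok rowsE7_16 _ le_rfl (Nat.lt_succ_self _),
    Tb.rows_ok rowsE7_17 _ le_rfl (Nat.lt_succ_self _),
    Tb.rows_ok rowsE7_18 _ le_rfl (Nat.lt_succ_self _),
    Tb.rows_ok rowsE7_19 _ le_rfl (Nat.lt_succ_self _),
    Tb.rows_ok rowsE7_20 _ le_rfl (Nat.lt_succ_self _),
    Tb.rows_ok rowsE7_21 _ le_rfl (Nat.lt_succ_self _),
    Tb.rows_ok rowsE7_22 _ le_rfl (Nat.lt_succ_self _),
    Tb.rows_ok rowsE7_23 _ le_rfl (Nat.lt_succ_self _),
    Tb.rows_ok rowsE7_24 _ le_rfl (Nat.lt_succ_self _),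
    Tb.rows_ok rowsE7_25 _ le_rfl (Nat.lt_succ_self _),
    Tb.rows_ok rowsE7_26 _ le_rfl (Nat.lt_succ_self _),
    Tb.rows_ok rowsE7_27 _ le_rfl (Nat.lt_succ_self _),
    Tb.rows_ok rowsE7_28 _ le_rfl (Nat.lt_succ_self _),
    Tb.rows_ok rowsE7_29 _ le_rfl (Nat.lt_succ_self _),
    Tb.rows_ok rowsE7_30 _ le_rfl (Nat.lt_succ_self _),
    Tb.rows_ok rowsE7_31 _ le_rfl (Nat.lt_succ_self _),
    Tb.rows_ok rowsE7_32 _ le_rfl (Nat.lt_succ_self _),
    Tb.rows_ok rowsE7_33 _ le_rfl (Nat.lt_succ_self _),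
    Tb.rows_ok rowsE7_34 _ le_rfl (Nat.lt_succ_self _),
    Tb.rows_ok rowsE7_35 _ le_rfl (Nat.lt_succ_self _),
    Tb.rows_ok rowsE7_36 _ le_rfl (Nat.lt_succ_self _),
    Tb.rows_ok rowsE7_37 _ le_rfl (Nat.lt_succ_self _),
    Tb.rows_ok rowsE7_38 _ le_rfl (Nat.lt_succ_self _),
    Tb.rows_ok rowsE7_39 _ le_rfl (Nat.lt_succ_self _),
    Tb.rows_ok rowsE7_40 _ le_rfl (Nat.lt_succ_self _),
    Tb.rows_ok rowsE7_41 _ le_rfl (Nat.lt_succ_self _),
    Tb.rows_ok rowsE7_42 _ le_rfl (Nat.lt_succ_self _),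
    Tb.rows_ok rowsE7_43 _ le_rfl (Nat.lt_succ_self _),
    Tb.rows_ok rowsE7_44 _ le_rfl (Nat.lt_succ_self _),
    Tb.rows_ok rowsE7_45 _ le_rfl (Nat.lt_succ_self _),
    Tb.rows_ok rowsE7_46 _ le_rfl (Nat.lt_succ_self _),
    Tb.rows_ok rowsE7_47 _ le_rfl (Nat.lt_succ_self _),
    Tb.rows_ok rowsE7_48 _ le_rfl (Nat.lt_succ_self _),
    Tb.rows_ok rowsE7_49 _ le_rfl (Nat.lt_succ_self _),
    Tb.rows_ok rowsE7_50 _ le_rfl (Nat.lt_succ_self _),
    Tb.rows_ok rowsE7_51 _ le_rfl (Nat.lt_succ_self _),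
    Tb.rows_ok rowsE7_52 _ le_rfl (Nat.lt_succ_self _),
    Tb.rows_ok rowsE7_53 _ le_rfl (Nat.lt_succ_self _),
    Tb.rows_ok rowsE7_54 _ le_rfl (Nat.lt_succ_self _),
    Tb.rows_ok rowsE7_55 _ le_rfl (Nat.lt_succ_self _),
    Tb.rows_ok rowsE7_56 _ le_rfl (Nat.lt_succ_self _),
    Tb.rows_ok rowsE7_57 _ le_rfl (Nat.lt_succ_self _),
    Tb.rows_ok rowsE7_58 _ le_rfl (Nat.lt_succ_self _),
    Tb.rows_ok rowsE7_59 _ le_rfl (Nat.lt_succ_self _)]

theorem ok : tE7.Ok (cT 2 7) ![1, 1, 1, 1, 1, 1, 1] 1 :=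
  ⟨Tb.bs_of basE7, boxRs _ _ carE7, by decide +kernel, fun _ _ => rfl, rowOk, aL_iff.1 clsE7⟩

end Cfsg.Agent.BZ.RT.Co.E7
end

-- part: BZ/RT/Co/E7
section
/-!
# BZ / RT : the pair `(E₇, E₆)`, the induced function (helper95)

`Hy f` : `f` is a class function on `W(E₇)` which lives on the conjugates of the elliptic elements of `W(E₆)` and is killed by the sum
of the reflections of `E₆`.  `Hy.form` : `f` is a multiple of an explicit function;  `Hy.cas` : `Cas f A = -9 f (-A)`.
-/

set_option autoImplicit false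
set_option maxRecDepth 100000

namespace Cfsg.Agent.BZ.RT.Co.E7

open Cfsg Matrix Cfsg.Agent.HZ.L Cfsg.Agent.BZ.TA Cfsg.Agent.BZ.TA.Cl Cfsg.Agent.OM.Cu Cfsg.Agent.OM.Cu.Eng Cfsg.Agent.OM.Cu.T95
  Finset

/-- the Cartan matrix -/
abbrev C7 : Mat (Fin 7) := cm 7 (cT 2 7)

/-- the standard `E₆` -/
def P6 : RS (Fin 7) := {a | a ∈ Rc C7 ∧ a.2 5 = 0}

/-- the sum over the reflections -/
noncomputable def Cas (g : Mat (Fin 7) → ℂ) (A : Mat (Fin 7)) : ℂ := ∑ᶠ ρ ∈ rfm '' Rc C7, g (ρ * A)

/-- class functions -/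
def Cf (f : Mat (Fin 7) → ℂ) : Prop := ∀ u ∈ Wc C7, ∀ A ∈ Wc C7, f (u * A) = f (A * u)

/-- the hypotheses -/
structure Hy (f : Mat (Fin 7) → ℂ) : Prop where
  cj : Cf f
  sup : ∀ A ∈ Wc C7, f A ≠ 0 → ∃ v ∈ Wc C7, ∃ u ∈ WW P6, ¬ Eig P6 u 1 ∧ v * A = u * v
  rel : ∀ u ∈ WW P6, Eig P6 u 1 → ∑ᶠ ρ ∈ rfm '' P6, f (ρ * u) = 0

/-- the root `t` -/
def rr (t : ℕ) : Vec (Fin 7) × Vec (Fin 7) := tE7.rr t

variable {f : Mat (Fin 7) → ℂ} {A X g u : Mat (Fin 7)} {i t : ℕ}

theorem rs7 : Rs C7 ![1, 1, 1, 1, 1, 1, 1] := ok.rs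

theorem rr_mem (ht : t < 63) : rr t ∈ Rc C7 := ok.bs.rr_mem ok.rs t ht

theorem rr_all {a : Vec (Fin 7) × Vec (Fin 7)} (ha : a ∈ Rc C7) : ∃ t < 63, a = rr t ∨ a = -rr t := ok.bs.rr_all ok.rs ha

theorem rr_inj {t' : ℕ} (ht : t < 63) (ht' : t' < 63) (e : rfm (rr t) = rfm (rr t')) : t = t' := Ext.rf_inj ok.bs ok.rs inj ht ht' e

theorem rf_mem {a : Vec (Fin 7) × Vec (Fin 7)} (ha : a ∈ Rc C7) : rfm a ∈ Wc C7 :=
  rs7.ww ▸ Submonoid.subset_closure ⟨a, ha, rfl⟩

theorem aa_eq (hi : i < 60) : tE7.AA (cT 2 7) 1 i = xm i := by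
  refine sub_eq_zero.1 (one_vec (n := 7) (by decide) (fun a b => ?_) fun a => ?_)
  · have k1 := ok.bs.bound ok.rs (ok.nm i) a b
    have k2 := fd_lt 4 XD (49 * i + 7 * a + b)
    rw [abs_le] at k1
    show |tE7.AA (cT 2 7) 1 i a b - ((fd 4 XD (49 * i + 7 * a + b) : ℤ) - 7)| < 65536
    rw [abs_lt]
    omega
  · have k := (Tb.eqv_iff (ok.rp_aA i Tb.rp_v0) (rp_pk (n := 7) (u := xm i *ᵥ tv 7) fun j => ?_)).1 (aL_iff.1 cx_ok i hi) a
    · obtain ⟨Z, hZ⟩ : ∃ Z : Mat (Fin 7), Z = tE7.AA (cT 2 7) 1 i := ⟨_, rfl⟩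
      have k' : (((Z *ᵥ tv 7) a : ℤ) : ZMod NN) = ((xm i *ᵥ tv 7) a : ℤ) := hZ ▸ k
      have k2 : ((((Z - xm i) *ᵥ tv 7) a : ℤ) : ZMod NN) = 0 := by rw [sub_mulVec, Pi.sub_apply, Int.cast_sub, k', sub_self]
      subst hZ
      exact k2
    · rw [sL_eq, Finset.sum_range, mulVec, dotProduct]
      push_cast
      refine sum_congr rfl fun k _ => ?_
      simp only [NM_eq, xm, tv, of_apply]
      push_cast
      ring

theorem xm_wd (hi : i < 60) : xm i = tE7.wd (cT 2 7) (fd 400 tE7.cw i) := by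
  rw [← aa_eq hi, Tb.AA, pm_one, mul_one]

theorem xm_mem (hi : i < 60) : xm i ∈ Wc C7 := xm_wd hi ▸ Tb.wd_mem (T := tE7) _

theorem neg_mem (hA : A ∈ Wc C7) : -A ∈ Wc C7 := by
  rw [← neg_one_mul, ← xm59]
  exact mul_mem (xm_mem (by decide)) hA

theorem cls (hA : A ∈ Wc C7) : ∃ i < 60, ∃ g ∈ Wc C7, xm i * g = g * A := by
  obtain ⟨i, hi, g, hg, e⟩ := ok.closure (A := A) ⟨A, rs7.ww.symm ▸ hA, by rw [pm_one]; exact (mul_one _).symm⟩
  exact ⟨i, hi, g, hg, aa_eq hi ▸ e⟩

theorem Cf.conj (h : Cf f) (hg : g ∈ Wc C7) (hA : A ∈ Wc C7) (e : X * g = g * A) : f X = f A := by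
  obtain ⟨v, hv, e1, e2⟩ := rs7.inv g hg
  rw [← mul_one X, ← e2, ← mul_assoc, e, mul_assoc, h g hg _ (mul_mem hA hv), mul_assoc, e1, mul_one]

theorem Cf.ent (h : Cf f) (hi : i < 60) (ht : t < 63) : tE7.jj i t < 60 ∧ f (rfm (rr t) * xm i) = f (xm (tE7.jj i t)) := by
  obtain ⟨k, g, hg, e⟩ := ok.ent hi ht
  rw [aa_eq hi, aa_eq k] at e
  exact ⟨k, (h.conj hg (mul_mem (rf_mem (rr_mem ht)) (xm_mem hi)) e).symm⟩

theorem sum_rf (p : Vec (Fin 7) → Prop) (hp : ∀ v, p (-v) ↔ p v) [DecidablePred p] (φ : Mat (Fin 7) → ℂ) :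
    ∑ᶠ ρ ∈ rfm '' {a | a ∈ Rc C7 ∧ p a.2}, φ ρ = ∑ t ∈ (range 63).filter fun t => p (rr t).2, φ (rfm (rr t)) := by
  have e : rfm '' {a | a ∈ Rc C7 ∧ p a.2} = (fun t => rfm (rr t)) '' ((range 63).filter fun t => p (rr t).2 : Finset ℕ) := by
    ext ρ
    constructor
    · rintro ⟨a, ⟨h1, h2⟩, rfl⟩
      obtain ⟨t, ht, rfl | rfl⟩ := rr_all h1
      · exact ⟨t, mem_coe.2 (mem_filter.2 ⟨mem_range.2 ht, h2⟩), rfl⟩
      · exact ⟨t, mem_coe.2 (mem_filter.2 ⟨mem_range.2 ht, (hp _).1 h2⟩), (rfm_neg _).symm⟩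
    · rintro ⟨t, ht, rfl⟩
      have := mem_filter.1 (mem_coe.1 ht)
      exact ⟨_, ⟨rr_mem (mem_range.1 this.1), this.2⟩, rfl⟩
  rw [e, finsum_mem_image fun t a t' b => rr_inj (mem_range.1 (mem_filter.1 (mem_coe.1 a)).1)
    (mem_range.1 (mem_filter.1 (mem_coe.1 b)).1), finsum_mem_coe_finset]

theorem cas_eq (f : Mat (Fin 7) → ℂ) (A : Mat (Fin 7)) : Cas f A = ∑ t ∈ range 63, f (rfm (rr t) * A) := by
  have e := sum_rf (fun _ => True) (fun _ => Iff.rfl) fun ρ => f (ρ * A)
  simp only [and_true, Set.ofPred_mem_eq, filter_true] at e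
  exact e

theorem Cf.cas_xm (h : Cf f) (hi : i < 60) : Cas f (xm i) = ∑ t ∈ range 63, f (xm (tE7.jj i t)) :=
  (cas_eq f _).trans (sum_congr rfl fun _ ht => (h.ent hi (mem_range.1 ht)).2)

theorem Cf.cas (h : Cf f) : Cf (Cas f) := fun u hu A hA => by
  obtain ⟨v, hv, e1, e2⟩ := rs7.inv u hu
  have k : ∀ u ∈ Wc C7, ∀ v, u * v = 1 → Set.MapsTo (fun ρ => u * ρ * v) (rfm '' Rc C7) (rfm '' Rc C7) := by
    rintro u hu v e _ ⟨a, ha, rfl⟩
    obtain ⟨b, hb, k1, k2⟩ := rs7.nm u hu a ha
    exact ⟨b, hb, show _ = u * rfm a * v by rw [mul_rfm k1 k2, mul_assoc, e, mul_one]⟩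
  refine (finsum_mem_eq_of_bijOn (fun ρ => u * ρ * v) (Set.InvOn.bijOn (f' := fun ρ => v * ρ * u) ⟨fun ρ _ => ?_, fun ρ _ => ?_⟩
    (k u hu v e2) (k v hv u e1)) ?_).symm
  · show v * (u * ρ * v) * u = ρ
    rw [mul_assoc u, ← mul_assoc, e1, one_mul, mul_assoc, e1, mul_one]
  · show u * (v * ρ * u) * v = ρ
    rw [mul_assoc v, ← mul_assoc, e2, one_mul, mul_assoc, e2, mul_one]
  · rintro _ ⟨a, ha, rfl⟩
    show f (rfm a * (A * u)) = f (u * rfm a * v * (u * A))
    rw [← mul_assoc, ← h u hu _ (mul_mem (rf_mem ha) hA), mul_assoc _ v, ← mul_assoc v, e1, one_mul, mul_assoc]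

theorem iv_conj (hg : g ∈ Wc C7) (e : X * g = g * A) : iv X = iv A := by
  obtain ⟨v, -, e1, e2⟩ := rs7.inv g hg
  have k : ∀ {X A : Mat (Fin 7)}, X * g = g * A → trace X = trace A := fun {X A} e => by
    rw [← mul_one X, ← e2, ← mul_assoc, e, trace_mul_comm, ← mul_assoc, e1, one_mul]
  have e3 : X * X * g = g * (A * A) := by rw [mul_assoc, e, ← mul_assoc, e, mul_assoc]
  rw [iv, iv, k e, k e3, k (X := X * (X * X)) (A := A * (A * A)) (by rw [mul_assoc, e3, ← mul_assoc, e, mul_assoc])]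

theorem iv_neg (A : Mat (Fin 7)) : iv (-A) = ng (iv A) := by
  simp only [iv, ng, neg_mul, mul_neg, neg_neg, trace_neg]

theorem five {a : Vec (Fin 7) × Vec (Fin 7)} (ha : a ∈ Rc C7) : |a.2 5| ≤ 1 := by
  obtain ⟨t, ht, rfl | rfl⟩ := ok.bs.rr_all ok.rs ha
  · have := co5 t ht
    show |(tE7.co t 5 : ℤ)| ≤ 1
    rw [Nat.abs_cast]
    omega
  · have := co5 t ht
    show |-(tE7.co t 5 : ℤ)| ≤ 1
    rw [abs_neg, Nat.abs_cast]
    omega

theorem sp_mem {j : Fin 7} (hj : j ≠ 5) : sp C7 j ∈ P6 := ⟨rs7.mem j, Pi.single_eq_of_ne hj.symm 1⟩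

theorem fix5 (hu : u ∈ WW P6) : Pi.single 5 1 ᵥ* u = Pi.single 5 1 := by
  induction hu using Submonoid.closure_induction with
  | mem x hx =>
    obtain ⟨a, ha, rfl⟩ := hx
    rw [vecMul_rfm, single_dotProduct, ha.2, mul_zero, zero_smul, sub_zero]
  | one => exact vecMul_one _
  | mul x y _ _ h1 h2 => rw [← vecMul_vecMul, h1, h2]

theorem ev_cast (a v : Vec (Fin 7)) : ev a (fun i => (v i : ℂ)) = (a ⬝ᵥ v : ℤ) := by
  simp only [ev, dotProduct]
  push_cast
  rfl

theorem eig_of {v : Vec (Fin 7)} (h : u *ᵥ v = v) {j : Fin 7} (hj : j ≠ 5) (h0 : (sp C7 j).1 ⬝ᵥ v ≠ 0) : Eig P6 u 1 := by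
  refine ⟨fun i => v i, funext fun i => ?_, _, sp_mem hj, by rw [ev_cast]; exact Int.cast_ne_zero.2 h0⟩
  rw [one_smul, ← congrFun h i]
  exact ev_cast (u i) v

theorem zero_of {v : Vec (Fin 7)} (h : ∀ j, j ≠ 5 → (sp C7 j).1 ⬝ᵥ v = 0) (h5 : v 5 = 0) : v = 0 := by
  have h0 := h 0 (by decide)
  have h1 := h 1 (by decide)
  have h2 := h 2 (by decide)
  have h3 := h 3 (by decide)
  have h4 := h 4 (by decide)
  have h6 := h 6 (by decide)
  simp [sp, cm, cT, dotProduct, Fin.sum_univ_succ] at h0 h1 h2 h3 h4 h6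
  funext i
  fin_cases i <;> simp <;> omega

/-- the support -/
theorem Hy.five (h : Hy f) (hi : i < 60) (h0 : f (xm i) ≠ 0) : i ∈ [31, 32, 33, 37, 46] := by
  obtain ⟨v, hv, u, hu, h1, e⟩ := h.sup _ (xm_mem hi) h0
  obtain ⟨v', -, e1, e2⟩ := rs7.inv v hv
  obtain ⟨τ, hτ⟩ : ∃ τ, τ = Pi.single 5 1 ᵥ* v := ⟨_, rfl⟩
  have k0 : ∀ x, τ ⬝ᵥ x = (v *ᵥ x) 5 := fun x => by rw [hτ, ← dotProduct_mulVec, single_dotProduct, one_mul]
  have k1 : τ ᵥ* xm i = τ := by rw [hτ, vecMul_vecMul, e, ← vecMul_vecMul, fix5 hu]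
  have k2 : ∀ x, xm i *ᵥ x = x → τ ⬝ᵥ x = 0 → x = 0 := fun x a b => by
    have k : v *ᵥ x = 0 := zero_of (fun j hj => not_not.1 fun c => h1 (eig_of (by rw [mulVec_mulVec, ← e, ← mulVec_mulVec, a]) hj c))
      (k0 x ▸ b)
    rw [← one_mulVec x, ← e1, ← mulVec_mulVec, k, mulVec_zero]
  refine (cert i hi).resolve_right ?_
  rintro (⟨a1, a2, a, b, a3⟩ | ⟨a1, k, a2, a3⟩)
  · have k := k2 ((τ ⬝ᵥ yc i 1) • yc i 0 - (τ ⬝ᵥ yc i 0) • yc i 1) (by rw [mulVec_sub, mulVec_smul, mulVec_smul, a1, a2])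
      (by rw [dotProduct_sub, dotProduct_smul, dotProduct_smul, smul_eq_mul, smul_eq_mul, mul_comm, sub_self])
    have ka := congrFun k a
    have kb := congrFun k b
    simp only [Pi.sub_apply, Pi.smul_apply, smul_eq_mul, Pi.zero_apply] at ka kb
    have k3 := k2 _ a2 ((mul_eq_zero.1 (by linear_combination yc i 1 b * ka - yc i 1 a * kb)).resolve_right a3)
    exact a3 (by rw [k3]; simp)
  · have k3 : ∀ b, b ≠ k → τ b = 0 := fun b hb => by
      have k4 : (τ ᵥ* ((xm i - 1) * ym i)) b = 0 := by rw [← vecMul_vecMul, vecMul_sub, k1, vecMul_one, sub_self, zero_vecMul]; rfl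
      rw [vecMul, dotProduct, sum_eq_single b (fun a _ c => mul_eq_zero_of_right _ (a1 a b c)) fun c => absurd (mem_univ b) c] at k4
      exact (mul_eq_zero.1 k4).resolve_right (a3 b hb)
    obtain ⟨b, hb, k4, -⟩ := rs7.nm v hv _ (rr_mem (t := 62) (by decide))
    have k5 := E7.five hb
    rw [← k4, ← k0, dotProduct, sum_eq_single k (fun a _ c => mul_eq_zero_of_left (k3 a c) _) fun c => absurd (mem_univ k) c,
      abs_mul] at k5
    have k6 : 2 ≤ |(rr 62).2 k| := le_trans (Int.ofNat_le.2 (co62 k k.2 fun c => a2 (Fin.ext c))) (le_abs_self _)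
    have k7 : τ = 0 := funext fun b => by
      by_cases c : b = k
      · have := abs_nonneg (τ k)
        exact c ▸ abs_eq_zero.1 (by nlinarith)
      · exact k3 b c
    have k8 : (τ ᵥ* v') 5 = 1 := by rw [hτ, vecMul_vecMul, e2, vecMul_one, Pi.single_eq_same]
    rw [k7, zero_vecMul] at k8
    exact zero_ne_one k8

theorem lt60 : ∀ i ∈ [19, 20, 25, 27], i < 60 := by decide

theorem xm_six (hi : i ∈ [19, 20, 25, 27]) : xm i ∈ WW P6 := by
  have k := no5 i hi
  rw [xm_wd (lt60 i hi), Tb.wd]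
  generalize Nat.mod (fd 400 tE7.cw i) 128 = m at k
  induction m with
  | zero => exact one_mem _
  | succ s ih =>
    refine mul_mem ?_ (ih fun s' c => k s' (c.trans s.lt_succ_self))
    split_ifs
    exacts [Submonoid.subset_closure ⟨_, sp_mem fun c => k s s.lt_succ_self (congrArg Fin.val c), rfl⟩, one_mem _]

theorem Hy.row (h : Hy f) (hi : i ∈ [19, 20, 25, 27]) : cnt i 31 * f (xm 31) + cnt i 32 * f (xm 32) + cnt i 33 * f (xm 33) +
    cnt i 37 * f (xm 37) + cnt i 46 * f (xm 46) = 0 := by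
  obtain ⟨k, a1, j, a2, a3⟩ := wit i hi
  have h60 : i < 60 := lt60 i hi
  have e := h.rel _ (xm_six hi) (eig_of a1 a2 a3)
  rw [P6, sum_rf (fun v => v 5 = 0) (fun _ => neg_eq_zero) fun ρ => f (ρ * xm i),
    filter_congr (p := fun t => (rr t).2 5 = 0) (q := fun t => tE7.co t 5 = 0) fun t _ => Int.natCast_eq_zero] at e
  rw [← e]
  simp only [cnt, card_filter _ ((range 63).filter _), Nat.cast_sum, sum_mul, ← sum_add_distrib]
  refine sum_congr rfl fun t ht => ?_
  obtain ⟨b1, b2⟩ := h.cj.ent h60 (mem_range.1 (mem_filter.1 ht).1)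
  rw [b2]
  generalize tE7.jj i t = j at b1
  by_cases c : f (xm j) = 0
  · rw [c]
    split_ifs <;> simp_all
  · have c2 := h.five b1 c
    simp only [List.mem_cons, List.not_mem_nil, or_false] at c2
    rcases c2 with rfl | rfl | rfl | rfl | rfl <;> simp

theorem Hy.vals (h : Hy f) : f (xm 31) = -f (xm 32) ∧ f (xm 33) = -3 * f (xm 32) ∧ f (xm 37) = 0 ∧ f (xm 46) = 9 * f (xm 32) := by
  have e := tab2
  simp only [List.map_cons, List.map_nil, List.cons.injEq, and_true] at e
  have h1 := h.row (i := 19) (by decide)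
  have h2 := h.row (i := 20) (by decide)
  have h3 := h.row (i := 25) (by decide)
  have h4 := h.row (i := 27) (by decide)
  simp only [e, Nat.cast_ofNat, Nat.cast_zero] at h1 h2 h3 h4
  exact ⟨by linear_combination h1 / 8, by linear_combination h2 / 4, by linear_combination h3 / 16,
    by linear_combination h4 / 2 - 9 / 8 * h1 - 9 / 32 * h3⟩

theorem li_eq : li 31 = (0, 2, 3) ∧ li 32 = (1, 1, -2) ∧ li 33 = (2, -2, -1) ∧ li 37 = (-1, 1, -1) ∧ li 46 = (-2, -2, 7) := by decide

theorem Hy.form_xm (h : Hy f) (hi : i < 60) : f (xm i) = f (xm 32) * ph (li i) := by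
  obtain ⟨v1, v2, v3, v4⟩ := h.vals
  obtain ⟨l1, l2, l3, l4, l5⟩ := li_eq
  rcases tab0 i hi with c | ⟨c1, c2, c3, c4⟩
  · simp only [List.mem_cons, List.not_mem_nil, or_false] at c
    rcases c with rfl | rfl | rfl | rfl <;> simp [*, ph, mul_comm]
  · rw [ph, if_neg (l1 ▸ c1), if_neg (l2 ▸ c2), if_neg (l3 ▸ c3), if_neg (l5 ▸ c4), Int.cast_zero, mul_zero]
    by_contra c
    have c5 := h.five hi c
    simp only [List.mem_cons, List.not_mem_nil, or_false] at c5
    rcases c5 with rfl | rfl | rfl | rfl | rfl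
    exacts [c1 rfl, c2 rfl, c3 rfl, c v3, c4 rfl]

/-- **the explicit form** -/
theorem Hy.form (h : Hy f) (hA : A ∈ Wc C7) : f A = f (xm 32) * ph (iv A) := by
  obtain ⟨i, hi, g, hg, e⟩ := cls hA
  rw [← h.cj.conj hg hA e, ← iv_conj hg e, iv_xm i hi, h.form_xm hi]

/-- **the sum of the reflections acts as `-9` times the negation** -/
theorem Hy.cas (h : Hy f) (hA : A ∈ Wc C7) : Cas f A = -9 * f (-A) := by
  obtain ⟨i, hi, g, hg, e⟩ := cls hA
  rw [← h.cj.cas.conj hg hA e, h.cj.cas_xm hi, h.form (neg_mem hA), iv_neg, ← iv_conj hg e, iv_xm i hi,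
    sum_congr rfl fun t ht => h.form_xm (h.cj.ent hi (mem_range.1 ht)).1, ← mul_sum, ← Int.cast_sum, tab1 i hi]
  push_cast
  ring

/-- **(a)** -/
theorem Hy.cas2 (h : Hy f) (hA : A ∈ Wc C7) : Cas (Cas f) A = 81 * f A := by
  rw [cas_eq, sum_congr rfl fun t ht => h.cas (mul_mem (rf_mem (rr_mem (mem_range.1 ht))) hA), ← mul_sum]
  simp only [← mul_neg]
  rw [← cas_eq, h.cas (neg_mem hA), neg_neg]
  ring

theorem det_rf {a : Vec (Fin 7) × Vec (Fin 7)} (ha : a ∈ Rc C7) : (rfm a).det = -1 := by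
  rw [rfm, sub_eq_add_neg, ← neg_vecMulVec, vecMulVec_eq Unit, det_one_add_replicateCol_mul_replicateRow, dotProduct_neg, rs7.two a ha]
  rfl

theorem det_wd (w : ℕ) (h : ∀ s < Nat.mod w 128, fd 3 (Nat.shiftRight w 7) s < 7) :
    det (n := Fin 7) (tE7.wd (cT 2 7) w) = (-1) ^ Nat.mod w 128 := by
  rw [Tb.wd]
  generalize Nat.mod w 128 = m at h
  induction m with
  | zero => exact det_one
  | succ s ih =>
    refine (det_mul (n := Fin 7) _ _).trans ?_
    rw [pow_succ', ← ih fun s' c => h s' (c.trans s.lt_succ_self), dif_pos (show _ < tE7.n from h s s.lt_succ_self)]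
    exact congrArg (· * _) (det_rf (rs7.mem _))

theorem det_conj (hg : g ∈ Wc C7) (e : X * g = g * A) : X.det = A.det := by
  obtain ⟨v, -, e1, e2⟩ := rs7.inv g hg
  rw [← mul_one X, ← e2, ← mul_assoc, e, det_mul_comm, ← mul_assoc, e1, one_mul]

/-- **(b)** -/
theorem Hy.det (h : Hy f) (hA : A ∈ Wc C7) (h0 : f A ≠ 0) : A.det = 1 := by
  obtain ⟨i, hi, g, hg, e⟩ := cls hA
  have c := h.five hi (h.cj.conj hg hA e ▸ h0)
  have k : ∀ i ∈ [31, 32, 33, 37, 46], (∀ s < Nat.mod (fd 400 tE7.cw i) 128, fd 3 (Nat.shiftRight (fd 400 tE7.cw i) 7) s < 7) ∧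
      (-1 : ℤ) ^ Nat.mod (fd 400 tE7.cw i) 128 = 1 := by decide +kernel
  rw [← det_conj hg e, xm_wd hi]
  exact (det_wd _ (k i c).1).trans (k i c).2

end Cfsg.Agent.BZ.RT.Co.E7
end

private theorem dce_7bcf52cbd7dd : _root_.True := by
  try have : _root_.True := by simp only [_root_.Cfsg.Agent.BZ.RT.Co.E7.ng.eq_1]
  try have : _root_.True := by simp only [_root_.Cfsg.Agent.BZ.TA.cT.eq_1]
  try have : _root_.True := by simp only [_root_.Cfsg.Agent.BZ.RT.Co.E7.xm.eq_1]
  try have : _root_.True := by simp only [_root_.Cfsg.Agent.BZ.RT.Co.E7.P6.eq_1]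
  try have : _root_.True := by simp only [_root_.Cfsg.Agent.OM.Cu.Eng.Tb.wd.eq_1]
  try have : _root_.True := by simp only [_root_.Cfsg.Agent.BZ.RT.Co.E7.cnt.eq_1]
  try have : _root_.True := by simp only [_root_.Cfsg.Agent.BZ.RT.Co.E7.ph.eq_1]
  try have : _root_.True := by simp only [_root_.Cfsg.Agent.BZ.RT.Co.E7.iv.eq_1]
  exact _root_.True.intro
end

-- part: OM/Cu/Cp
section
prune_inst 0x4010000
set_option linter.all false
open scoped Cfsg.Agent.FastGrp

/-!
# OM / Cu : characteristic polynomials of the classes of a table (helper12)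
-/

set_option autoImplicit false
set_option linter.unusedSectionVars false

namespace Cfsg.Agent.OM.Cu.Cp

open Cfsg Matrix Cfsg.Agent.HZ.L Cfsg.Agent.BZ.TA Finset Polynomial

variable {R : Type} [Fintype R] [DecidableEq R]

/-- the formula of Jacobi -/
theorem jac (M : Matrix R R ℤ[X]) : derivative M.det = trace (M.adjugate * M.map derivative) := by
  rw [det_apply, map_sum, trace]
  have k : ∀ i, (M.adjugate * M.map derivative).diag i = (M.updateCol i fun j => derivative (M j i)).det := fun i => by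
    rw [← cramer_apply, cramer_eq_adjugate_mulVec]
    rfl
  simp only [k, det_apply]
  rw [sum_comm]
  refine sum_congr rfl fun σ _ => ?_
  rw [Units.smul_def, map_zsmul, derivative_prod_finset, smul_sum]
  refine sum_congr rfl fun i _ => ?_
  rw [Units.smul_def, ← mul_prod_erase _ _ (mem_univ i), updateCol_self, mul_comm]
  congr 2
  exact prod_congr rfl fun j hj => (updateCol_ne (ne_of_mem_erase hj)).symm

/-- **the identities of Newton** -/
theorem newton (A : Mat R) (j : ℕ) :
    (j + 1 : ℤ) * A.charpolyRev.coeff (j + 1) = -∑ m ∈ range (j + 1), trace (A ^ (m + 1)) * A.charpolyRev.coeff (j - m) := by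
  obtain ⟨M, hM⟩ : ∃ M, M = 1 - (X : ℤ[X]) • A.map C := ⟨_, rfl⟩
  obtain ⟨U, hU⟩ : ∃ U : ℕ → ℤ[X], ∀ k, U k = trace (M.adjugate * (A ^ k).map C) := ⟨_, fun _ => rfl⟩
  have hr : A.charpolyRev = M.det := hM ▸ rfl
  have h1 : derivative A.charpolyRev = -U 1 := by
    rw [hr, jac, hU, pow_one, ← trace_neg, ← Matrix.mul_neg, hM]
    congr 2
    ext a b : 2
    by_cases h : a = b <;> simp [h]
  have h2 : ∀ k, U k = C (trace (A ^ k)) * A.charpolyRev + X * U (k + 1) := fun k => by
    have e : (A ^ k).map C = M * (A ^ k).map C + (X : ℤ[X]) • (A ^ (k + 1)).map C := by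
      rw [pow_succ', Matrix.map_mul (f := (C : ℤ →+* ℤ[X])), hM, sub_mul, one_mul, smul_mul_assoc, sub_add_cancel]
    rw [hU, hU, e, mul_add, ← mul_assoc, adjugate_mul, trace_add, mul_smul_comm, smul_mul_assoc, one_mul, trace_smul, trace_smul,
      hr, smul_eq_mul, smul_eq_mul, mul_comm M.det, AddMonoidHom.map_trace (C : ℤ →+* ℤ[X])]
  have h3 : ∀ j k, (U k).coeff j = ∑ m ∈ range (j + 1), trace (A ^ (m + k)) * A.charpolyRev.coeff (j - m) := fun j => by
    induction j with
    | zero => exact fun k => by rw [h2, coeff_add, coeff_C_mul, coeff_X_mul_zero]; simp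
    | succ j ih =>
      intro k
      rw [h2, coeff_add, coeff_C_mul, coeff_X_mul, ih, sum_range_succ' _ (j + 1), add_comm, zero_add, Nat.sub_zero]
      congr 1
      exact sum_congr rfl fun m _ => by rw [Nat.add_sub_add_right, add_assoc, add_comm 1 k]
  rw [← h3, ← coeff_neg, ← h1, coeff_derivative, mul_comm]

theorem rev_coeff {A : Mat R} {L : ℕ → ℤ} {n : ℕ} (h0 : L 0 = 1)
    (h : ∀ j < n, (j + 1 : ℤ) * L (j + 1) = -∑ m ∈ range (j + 1), trace (A ^ (m + 1)) * L (j - m)) :
    ∀ j ≤ n, A.charpolyRev.coeff j = L j := fun j => by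
  induction j using Nat.strong_induction_on with
  | _ j ih =>
    intro hj
    cases j with
    | zero => rw [coeff_zero_eq_eval_zero, eval_charpolyRev, h0]
    | succ j =>
      refine mul_left_cancel₀ (a := (j + 1 : ℤ)) (by omega) ?_
      rw [newton, h j hj]
      exact congrArg _ (sum_congr rfl fun m _ => by rw [ih _ (by omega) (by omega)])

theorem rev_deg (A : Mat R) : A.charpolyRev.natDegree < Fintype.card R + 1 := by
  rw [← reverse_charpoly, ← charpoly_natDegree_eq_dim A]
  exact Nat.lt_succ_of_le (reverse_natDegree_le _)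

theorem det_rev (A : Mat R) (x : ℤ) : (x • A - 1).det = (-1) ^ Fintype.card R * A.charpolyRev.eval x := by
  rw [← neg_sub, det_neg, charpolyRev, ← coe_evalRingHom, RingHom.map_det]
  congr 2
  ext a b
  by_cases h : a = b <;> simp [h, -zsmul_eq_mul]

open Eng Eng.Tb

/-- the trace of `A_i ^ m` -/
noncomputable def tr (T : Tb) (i m : ℕ) : ℤ :=
  (Nat.mod (Nat.add (sL (fun j => dg (T.aP i m (pk (fun k => cond (Nat.beq k j) 1 0) T.n)) j) T.n) 1000) NN : ℤ) - 1000

/-- `L` is the list of the coefficients of `det (1 - x A_i)`, from the constant one -/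
noncomputable def cpk (T : Tb) (i : ℕ) (L : List ℤ) : Bool :=
  and (decide (L.getD 0 0 = 1)) (aL (fun j =>
    decide ((j + 1 : ℤ) * L.getD (j + 1) 0 = -zL (fun m => tr T i (m + 1) * L.getD (j - m) 0) (j + 1))) T.n)

variable {T : Tb} {c : ℕ → ℕ → ℤ} {d : Fin T.n → ℤ} {π : Equiv.Perm (Fin T.n)} (H : T.Ok c d π) {i : ℕ} {L : List ℤ}
include H

theorem tr_eq (i m : ℕ) : trace (T.AA c π i ^ m) = tr T i m := by
  have h1 : ∀ j : Fin T.n, (dg (T.aP i m (pk (fun k => cond (Nat.beq k j) 1 0) T.n)) j : ZMod NN) = (T.AA c π i ^ m) j j := fun j => by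
    rw [(H.rp_aP i m (rp_pk (g := fun k => cond (Nat.beq k j) 1 0) (u := Pi.single j 1) fun k => by
      rw [cond_fin, Pi.single_apply]
      by_cases e : j = k <;> simp [e, eq_comm])).eq, mulVec_single_one]
    rfl
  have h2 : |trace (T.AA c π i ^ m)| ≤ 120 := by
    refine (abs_sum_le_sum_abs _ _).trans ((sum_le_sum fun j _ => H.bs.bound H.rs (Nm.pow (H.nm i) m) j j).trans ?_)
    have := H.bs.n8
    rw [sum_const, card_univ, Fintype.card_fin, nsmul_eq_mul]
    omega
  have h3 : (1120 : ℤ) < NN := by decide +kernel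
  rw [tr, eq_sub_iff_add_eq, mod_eq, Nat.add_eq, sL_eq,
    ← Fin.sum_univ_eq_sum_range fun j => dg (T.aP i m (pk (fun k => cond (Nat.beq k j) 1 0) T.n)) j, Int.natCast_mod,
    ← Int.emod_eq_of_lt (a := trace (T.AA c π i ^ m) + 1000) (b := NN) (by rw [abs_le] at h2; omega) (by rw [abs_le] at h2; omega)]
  refine (ZMod.intCast_eq_intCast_iff' _ _ _).1 ?_
  push_cast [h1, trace, diag_apply]
  rfl

theorem rev_eq (h : cpk T i L = true) : ∀ j ≤ T.n, (T.AA c π i).charpolyRev.coeff j = L.getD j 0 := by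
  simp only [cpk, Bool.and_eq_true, aL_iff, decide_eq_true_eq, zL_eq, ← tr_eq H] at h
  exact rev_coeff h.1 h.2

/-- **the determinant** -/
theorem det_eq (h : cpk T i L = true) (x : ℤ) :
    (x • T.AA c π i - 1).det = (-1) ^ T.n * ∑ j ∈ range (T.n + 1), L.getD j 0 * x ^ j := by
  rw [det_rev, eval_eq_sum_range' (rev_deg _), Fintype.card_fin]
  exact congrArg _ (sum_congr rfl fun j hj => by rw [rev_eq H h j (Nat.le_of_lt_succ (mem_range.1 hj))])

end Cfsg.Agent.OM.Cu.Cp

private theorem dce_5d3bd5a84bf5 : _root_.True := by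
  try have : _root_.True := by simp only [_root_.Cfsg.Agent.OM.Cu.Cp.cpk.eq_1]
  try have : _root_.True := by simp only [_root_.Cfsg.Agent.OM.Cu.Cp.tr.eq_1]
  exact _root_.True.intro
end

-- part: BZ/RT/Co/E6x
section
prune_inst 0x610005d002ce2020000180012e2001a267000040200688000f8a203020246fe608843a8004a000d10102010400834000002100000400000000a0000000006052180004000c389030cae0009001083110000000000000000000000000000041000204010000
set_option linter.all false
open scoped Cfsg.Agent.FastGrp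

-- part: BZ/RT/Co/E6xD
section
/-!
# BZ / RT : the pair `(E₆, D₄)`, tables (helper95, generated)
-/

set_option autoImplicit false
set_option maxRecDepth 100000

namespace Cfsg.Agent.BZ.RT.Co.E6x

open Cfsg Matrix Cfsg.Agent.HZ.L Cfsg.Agent.BZ.TA Cfsg.Agent.BZ.TA.Cl Cfsg.Agent.OM.Cu Cfsg.Agent.OM.Cu.Eng Finset

/-- the class table; the classes of `W(D₄)` have words in the nodes `1 2 3 5` -/
def tE6 : Tb where
  n := 6
  K := 25
  R := 36
  nb := 0x662663642531620661
  ip := 0x543210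
  rt := 0x4333330021232100233433001123210033424300112221003343240011221100342343001112210033433200112210003233430010122100342424001112110034243200111210003234240010121100443234001111110032343200101210004432420011111000424234001011110024333400011111004433230011110000424242001011100024334200011110004323340010011100224334000011110042432300101100002434230001110000432342001001100022434200001110002324340000011100344233000110000043242300100100002244230000110000232442000001100033324400000011005332330010000000352333000100000032523300001000002325230000010000333252000000100033332500000001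
  nx := 0x2223232323230000232222212222000021211f222021000020201c20211e00001f1d211f1c1f00001e1e1b1e1e2000001d1f1d1d1a1d00001c1a20191f1b00001b181e171b1c00001a1c1a161d1800001516191c19170000181b1813181a00001213171b141900001019111a1613000019101515151200000e0f1414171400000c170d180f160000170c12120e1500000b111611110d000016150b10100c00000814090f130f000014080e0a120e0000070d130d091100001312070c08100000110b10060b0700000a03040e0a0a000002090f050d0900000f0e02030c0800000d070c01020b00000606060b00010000000505090505000004000a0404040000030a00080303000009020800070200000101010700060000000000000600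
  cw := 0x2886888d1a8868c6a980000000000000000000000000000000000000000000000000000000000000000000000000000000000000000d18d5443468e00000000000000000000000000000000000000000000000000000000000000000000000000000000000000000111a3510d0c000000000000000000000000000000000000000000000000000000000000000000000000000000000000000000000465458800000000000000000000000000000000000000000000000000000000000000000000000000000000000000000000000ca986000000000000000000000000000000000000000000000000000000000000000000000000000000000000000000000001728500000000000000000000000000000000000000000000000000000000000000000000000000000000000000000a2d19516a8d000000000000000000000000000000000000000000000000000000000000000000000000000000000000000000000025440500000000000000000000000000000000000000000000000000000000000000000000000000000000000000000000008d4587000000000000000000000000000000000000000000000000000000000000000000000000000000000000000000000001a98500000000000000000000000000000000000000000000000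0000000000000000000000000000000000000000000000001518500000000000000000000000000000000000000000000000000000000000000000000000000000000000000000145a3516a8c00000000000000000000000000000000000000000000000000000000000000000000000000000000000000000000000032840000000000000000000000000000000000000000000000000000000000000000000000000000000000000000000000002e040000000000000000000000000000000000000000000000000000000000000000000000000000000000000000000000002a0400000000000000000000000000000000000000000000000000000000000000000000000000000000000000000000008d4586000000000000000000000000000000000000000000000000000000000000000000000000000000000000000000000001a98400000000000000000000000000000000000000000000000000000000000000000000000000000000000000000000000029840000000000000000000000000000000000000000000000000000000000000000000000000000000000000000000000002e830000000000000000000000000000000000000000000000000000000000000000000000000000000000000000000000002a0300000000000000000000000000000000000000000000000000000000000000000000000000000000000000000000000029830000000000000000000000000000000000000000000000000000000000000000000000000000000000000000000000000582000000000000000000000000000000000000000000000000000000000000000000000000000000000000000000000000050200000000000000000000000000000000000000000000000000000000000000000000000000000000000000000000000000810000000000000000000000000000000000000000000000000000000000000000000000000000000000000000000000000000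
  od := 0x30606090c06040a0c08060206030404060502060402030201
  bd := 0x84c4800080e160656064e060e0a16124602060e16060a0602
  jt := 0x131313131313131313131313131313131313131313131313131313131313131313131313131311121213131312121111111111130e1113111113110e1312111111120e11111111110e0e10100e0e1010100e10100e101010100e0e100e1010100e10100e10100e10101010101111110e11110e110e100e10100f100f0e0e11100f0f10110e100e0e0f0f0f10110f0f101313111113131111110e11110e0f0f0f0f0e130f0e1111110e0f0f130f110e0f110f0f0f181817171717171717171417141414141414141414141414140c1414140c0b0c0c140c0c17171717170c17170c17170a0c17170d0a0d17170c0c0a0c170c0c0a0c170c0c0a0a0c171717171714171415141515141515141415150a1414150c150c140c150c0c0a07140a0a0a1515151615150a15160715071607161507150a090815090a0715070707070715070807091414151514140c15150a140c1507151507150c0807140a0a0714080c070a07140707080817141515141415151516151516150a15150b1407140a150a0b07150b0a0a14070a070707121212121212121212121206121212120612121206120606121206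060612061206060612131312121112111111110f110f0f0f0f0f0f110f0f0f110f1113110f110605051311060613130e0e0e0e0e0e0e0e0e0e0e0e0e0e0e0e0e0e0e0e0e0e0e050e0e0e051305050e0505121111110f110f100f100f0f100f0e0f100e110e0f0e110e050e110e060611040e0505051010101010101010101010041010101004101010041004041010040404100410040404100f0f100f0f0f0f100f0f0f060f100f1004100f0f040f0604100f0406040f040f0404040f110f10100f0f0f1010100f0f10100e0f100e0f040f0e1005050e100505050f0e040404040c0c0a0a0a0c0c0a0c0c0c0d0a0a0c0a080a0a0a080a08080a0c0808080c030c0308030c0c0a0a0a070c07070707070707070b0707070c0b07070a070a070a07030a0a020703030a0a080908080707090707080807070a070907070708070802070709030307080702020207060604040405050405050606050506050405050504050404050504040405060501040105050404040405040404040404040405040404050504040404040404040104040504010104030302020203020203020303020303020202030302020202030302020202030303020002010101010101010101010101010101010101010101010101010101010101010101010101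

theorem row0 : tE6.row 0 [0x139516a8a, 0x272a2d09, 0x4e54588, 0x9ca987, 0x9ca887, 0x9ca986, 0x13a886, 0x139506, 0x139505, 0x27505, 0x27285, 0x27504, 0x27284, 0x4e84, 0x4e04, 0x117285, 0x4e83, 0x4e03, 0xa83, 0x983, 0x22e84, 0x22e04, 0xa82, 0x982, 0x102, 0x116a05, 0x4683, 0x4583, 0x101, 0x1, 0x23504, 0x8b5186, 0x22d04, 0x882, 0x0, 0x82] = true := by decide +kernel

theorem row1 : tE6.row 1 [0x4e35516a8c, 0x9c6aa2d0b, 0x172a2189, 0x872a218a, 0x2e54408, 0x9c6aa2d0a, 0x5d4407, 0x10e54409, 0x4e346a2d0b, 0x21d4408, 0x511287, 0x271a3516a0c, 0x7283, 0xa2286, 0xa2206, 0x17284, 0xe82, 0xe02, 0x510e87, 0x14405, 0x2e83, 0x2e03, 0x281, 0x181, 0xa2186, 0x201, 0x682, 0x582, 0x0, 0x2104, 0x29d4408, 0x1182, 0x0, 0x81, 0x0, 0x503] = true := by decide +kernel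

theorem row2 : tE6.row 2 [0x2d11516a8b, 0x1111aa8b518d, 0x111aa8b518c, 0x11aa8b518b, 0x2a54408, 0x5a3516a8a, 0x554407, 0xa225440a, 0x231aa8b518c, 0x14454409, 0x16a54409, 0x118d1a8b518d, 0x31aa8b518b, 0x2d54408, 0x534407, 0x11aa8b518a, 0x18d1a8b518c, 0x201, 0x84d111a3516a92, 0x29a2208, 0x8d1a8b518b, 0x4603, 0x29d4408, 0x0, 0xa2186, 0xe02, 0xa21d440a, 0x882, 0x0, 0x10985, 0x14d54409, 0x0, 0x181, 0x101, 0x882, 0x2984] = true := by decide +kernel

theorem row3 : tE6.row 3 [0xa21a31a228e, 0x1443463440d, 0x5c7510e0b, 0x21c7510e0c, 0xc7510e0a, 0x72a2d07, 0x4268c6aa2d0f, 0x447510e0b, 0x172a2d08, 0xa68c6aa2d0e, 0x14e34409, 0x22d04, 0x7283, 0x4268c6a8b, 0xa8d5440a, 0x17284, 0xe82, 0xe02, 0xa68c6a8a, 0x84d18d0a, 0x2e83, 0x2e03, 0x281, 0x181, 0x14d18d09, 0xd18d06, 0x682, 0x582, 0x0, 0x84e06, 0x0, 0x2d18d07, 0x0, 0x81, 0x22d04, 0x14e05] = true := by decide +kernel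

theorem row4 : tE6.row 4 [0x4d11516a8c, 0x5111d440b, 0x9c68d4e0b, 0x2116a3440c, 0xc7510e0a, 0x518d11516a8e, 0x87516a8a, 0x14e34409, 0x28d11516a8d, 0x2135516a8b, 0x14e34409, 0x3a884, 0x88d11516a8e, 0x17516a88, 0x34404, 0x438d11516a8f, 0x2983, 0x234405, 0x17516a89, 0x4403, 0x2983, 0x22234408, 0x281, 0x0, 0x402, 0x4e34407, 0x0, 0x882, 0x0, 0x1, 0x0, 0xe34406, 0x181, 0xd02, 0x6883, 0x0] = true := by decide +kernel

theorem row5 : tE6.row 5 [0x221a31aa8b5190, 0x21a31aa8b518f, 0x1a31aa8b518e, 0x1a31aa8b518d, 0x71d4407, 0x221a3510d18ea2195, 0x11d4406, 0x871d4409, 0x9c688a8b518e, 0x111d4408, 0x171d4409, 0x9c688a8b518f, 0xc688a8b518e, 0x31d4408, 0x34404, 0x4688a8b518c, 0x44688a8b518f, 0xe34406, 0x4403, 0x4403, 0x4688a8b518d, 0x10e34408, 0x54404, 0x234405, 0x402, 0x2e34408, 0x454406, 0x2234407, 0x1182, 0x1, 0x154405, 0x0, 0x634407, 0x8d03, 0x46884, 0x0] = true := by decide +kernel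

theorem row6 : tE6.row 6 [0x45a8ea2d47510, 0x45a8ea2d4750f, 0x4d47510e0b, 0x4d47510e0c, 0xd47510e0a, 0x221ca8868c7510e14, 0x351d4408, 0xd47510e0b, 0x221ca8868c7510e15, 0x351d4409, 0x8d4e07, 0x0, 0x5510e07, 0x4d111a3510e0f, 0x8d4e06, 0x5510e08, 0x181, 0x1510e06, 0xd111a3510e0e, 0x4d111a3510e10, 0x582, 0x1510e07, 0x0, 0xe82, 0xd111a3510e0f, 0x88a8b51d440f, 0x81, 0x2e83, 0x281, 0xe03, 0x0, 0x88a8b51d440e, 0x29d4408, 0x682, 0x468d4e08, 0xe02] = true := by decide +kernel

theorem row7 : tE6.row 7 [0xd11516a8a, 0x14634454434690, 0x28c688a886a8f, 0x4438d11516a90, 0x14688a886a8e, 0x4438d11516a90, 0x1d4405, 0x28d11516a8d, 0x84438d11516a91, 0x84686, 0x88d11516a8e, 0x422d06, 0x1a8d11516a8e, 0x5503, 0x201, 0x438d11516a8f, 0x2984, 0x234405, 0x281, 0x2984, 0x2984, 0x422d06, 0x2283, 0x29a2208, 0x14e05, 0x7183, 0x0, 0x535187, 0x14d18d09, 0x53444688b, 0x0, 0x0, 0x503, 0x82, 0x1, 0x0] = true := by decide +kernel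

theorem row8 : tE6.row 8 [0x14a8868d4e0d, 0x146346a2d47510, 0x44468d4e0b, 0x18d1a8b518c, 0x4468d4e0a, 0x14e34454434635510d18, 0x154405, 0x4468d4e0a, 0x426a344544351d4416, 0xa6aa2189, 0x468d4e09, 0x4683, 0x21c688a8b51d4414, 0x4403, 0x468d4e08, 0x21c688a8b51d4414, 0x14d54409, 0x221c688a8b51d4415, 0x402, 0x1a984, 0x1a884, 0x18d11510d18ea2194, 0x0, 0x18d1a8b518c, 0x402, 0x5c688a8b51d4412, 0x2346a2e09, 0x982, 0x281, 0x1, 0x0, 0x5c688a8b51d4413, 0xa6aa218a, 0x535510d0b, 0x468d4e08, 0x0] = true := by decide +kernel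

theorem row9 : tE6.row 9 [0xca8868d4e0d, 0xa71a3516a0d, 0x28c68d45a8e8f, 0x118d1a8b518d, 0xc68d4e0a, 0x151a22a21a31aa886a18, 0x554406, 0x2346a2e0a, 0xd4688a8b51d4413, 0x22d05, 0xc68d4e09, 0xa21d440a, 0x145c688a8b51d4415, 0x51a986, 0x2346a2e09, 0x145c688a8b51d4414, 0x5503, 0x146344544351d4414, 0x1, 0x8d4586, 0x11a3516a0a, 0x171a22a21a31d4414, 0xc68d4e09, 0x118d1a8b518d, 0x683, 0x28d11510d18ea2194, 0x0, 0xa883, 0x682, 0x682, 0x535510d0b, 0xd4688a8b51d4412, 0x510ea218b, 0x2346a2e09, 0x29aa88688c, 0x0] = true := by decide +kernel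

theorem row10 : tE6.row 10 [0xc6a86, 0x145a31aa8868c6a94, 0x2d18d54434635513, 0x2d18d54434635514, 0x271a22a21a3190, 0x268c6aa21a31aa895, 0x271a22a21a3191, 0x9c688a8b518e, 0x8d11510d18d0f, 0x9c688a8b518f, 0xc688a8b518e, 0x8d11510d18d10, 0x23445443518d, 0x44688a8b518f, 0x0, 0x4688a8b518c, 0x23445443518e, 0x4403, 0x2284, 0x201, 0x4688a8b518d, 0x10884, 0x22285, 0x22204, 0x503, 0xe02, 0x102, 0x2d04, 0x31a2288, 0xc6a86, 0x403, 0x2984, 0x181, 0x82, 0x1, 0x0] = true := by decide +kernel

theorem row11 : tE6.row 11 [0x8868c6a8a, 0x110d18d09, 0x1c7510d18d0d, 0x7510d18d0b, 0x21c7510d18d0f, 0x9510d18d0b, 0x9a9510d18d0e, 0x87510d18d0d, 0x89510d18d0d, 0x17510d18d0d, 0x38e84, 0x35510d18d0c, 0x438e86, 0xe82, 0x7183, 0x135285, 0x10e84, 0x87185, 0x1282, 0x181, 0x2e84, 0x26a04, 0x11284, 0x2183, 0x201, 0x14e05, 0x6a83, 0x583, 0x2203, 0x34446888, 0x0, 0x2984, 0x503, 0xd02, 0x6888d07, 0xd18d06] = true := by decide +kernel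

theorem row12 : tE6.row 12 [0x138ea21a350d, 0x1352a21a350e, 0x108b8ea21a3511, 0x108b52a21a3511, 0x86888d1a8868ca995, 0x29ca8868c7510, 0x4344468d4434654e16, 0x16888d1a8868ca995, 0x6888d1a8868ca993, 0xb44468d4434654e16, 0x7183, 0x344468d4434654e14, 0x87185, 0x1182, 0x38e84, 0x17185, 0x11184, 0x438e86, 0x403, 0x8e83, 0x3184, 0x135185, 0x81, 0x88e85, 0x2284, 0x181, 0x1, 0x35184, 0x682, 0x3184, 0x503, 0x109a22346a21a3515, 0x0, 0x282, 0x1183, 0x1182] = true := by decide +kernel

theorem row13 : tE6.row 13 [0x53a886a8b, 0xa7510d0a, 0x14ea2189, 0x84ea218a, 0x29d4408, 0xa983, 0x539510d18ea2e13, 0x109d4409, 0x1502, 0xa72a21a31d4e12, 0x845d440a, 0x0, 0x281, 0x14e54434654e11, 0x422d5440b, 0x682, 0x101, 0x0, 0x29ca8868d4e10, 0x84e54434654e12, 0x882, 0x81, 0x982, 0xa82, 0x109ca8868d4e11, 0x502, 0x4583, 0x4683, 0x4e83, 0x845ca8868d4e12, 0x22d04, 0x2983, 0x23504, 0x22e84, 0x27504, 0x422d4a8868d4e13] = true := by decide +kernel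

theorem row14 : tE6.row 14 [0x4446a88, 0x71d443460b, 0x422e5440b, 0x845a8d0a, 0xe54406, 0x845a8d0a, 0x27510e08, 0x84686, 0x4e3a88688b, 0x15185, 0x5503, 0x4d4a8b518c, 0x0, 0x4a984, 0x0, 0x4d4a987, 0x15185, 0x34404, 0x281, 0x201, 0x15185, 0x135185, 0x2283, 0x1a2205, 0x181, 0x7183, 0x0, 0x982, 0x4d18d07, 0x134446889, 0x0, 0x0, 0x181, 0x38d04, 0x1c6885, 0xe34406] = true := by decide +kernel

theorem row15 : tE6.row 15 [0x463445440b, 0x110e346a2d0e, 0x22234454e0c, 0x422e3a98a, 0x11a2286, 0x22e3a989, 0xd11286, 0x84654e09, 0x1351d4434654e11, 0x1a22346a21a3292, 0x201, 0x3463a989, 0x35510e08, 0x17510d1a98d, 0x254e05, 0x27184, 0xd4406, 0xa7185, 0xe02, 0x1a985, 0x1a985, 0x27184, 0xd111a3510e0e, 0x6888d1a8b5190, 0x281, 0x7183, 0x82, 0x35184, 0x2ea2d08, 0x344468d4e0c, 0x0, 0x0, 0x2ea21a350c, 0x5d443468b, 0x1, 0x0] = true := by decide +kernel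

theorem row16 : tE6.row 16 [0x18d11508, 0x171a3510d1a991, 0x438d1a88688f, 0x2d47508, 0x231a2288, 0x1c68d458a, 0xb44468d4435291, 0x201, 0xa7185, 0x17510d1a98c, 0x45a2287, 0x454406, 0x8b8e87, 0x5503, 0x34404, 0x9aa986, 0x8d4587, 0xb8ea2d0a, 0x344468d4e0d, 0xaa886, 0x503, 0x6a2d07, 0x1, 0x86888d1a8b5191, 0x683, 0x7183, 0x0, 0xba986, 0x6a2d07, 0xba88688a, 0x5d443468b, 0x0, 0x2ea21a350b, 0x82, 0xba886a8a, 0x0] = true := by decide +kernel

theorem row17 : tE6.row 17 [0x9ca986, 0x139516a8a, 0x2a3445440b, 0x2a34407, 0xa3505, 0xa8e85, 0x519506, 0x14684, 0xa83, 0xa3285, 0x8a886, 0x5284, 0x102, 0xd54407, 0x10e54409, 0x403, 0xa03, 0x21ca888, 0x154406, 0x21d4408, 0x2204, 0x6a04, 0x88a887, 0x43a887, 0x4404, 0x10e05, 0x1, 0xd03, 0xa83, 0x23505, 0x102, 0x1510d1a98a, 0x2184, 0xa83, 0x5504, 0x2a885] = true := by decide +kernel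

theorem row18 : tE6.row 18 [0x518ea2e0a, 0x2883, 0x882, 0x118ea2e09, 0x4583, 0x221d44351d4411, 0x5c6a86, 0x8b8ea2e0a, 0x110d544351d4412, 0x86a3550a, 0x45c7516a0b, 0x1510e06, 0x886aa21a31d4413, 0x10d46a89, 0x9aa886, 0x46884, 0xa886a07, 0x0, 0x21c6a88, 0x1c6a85, 0x110d4a8868c6aa2196, 0x44351d44351d4413, 0x54435188, 0x221ca8b51d4410, 0x10885, 0x221a8ea21a31d4414, 0x221a9510d18d54415, 0xaa21a328b, 0x110d4a8b51d4411, 0x10884, 0x4435510d18d54414, 0x110d47510d18ea2195, 0x5510d1950c, 0x5510d18e8c, 0x886a3a8b51d4412, 0x21c6a87] = true := by decide +kernel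

theorem row19 : tE6.row 19 [0x281, 0x0, 0x82, 0x402, 0x3184, 0x0, 0x2e04, 0x11184, 0x1182, 0x10e04, 0x7183, 0xe02, 0x87185, 0x181, 0x38e84, 0x17185, 0x2183, 0x438e86, 0x201, 0xe82, 0x583, 0x26a04, 0x2203, 0x10e84, 0x1282, 0xe02, 0x603, 0x2e84, 0x6884, 0x222a2d4750d, 0x0, 0x181, 0x0, 0xd02, 0x111516a3a88e, 0x88a8b51d440f] = true := by decide +kernel

theorem row20 : tE6.row 20 [0x45a225440b, 0x510d4a8b518e, 0x2d111aa8b5190, 0x5a2235510d19513, 0x1a2285, 0x45ca988, 0x10d11289, 0xb44468d443463a996, 0x351d443468d, 0x2ea21a328c, 0x403, 0xb463a98a, 0xd4406, 0x201, 0xc688a8b518e, 0x1c688a88a, 0x8d1a988, 0x3a8b5189, 0x181, 0x44688a8b528f, 0x1aa985, 0x1ca986, 0x86888d1a8868c6aa2d1a, 0x16888d54434635510e19, 0x281, 0x7183, 0x171a22a2d47511, 0x982, 0x71a2287, 0x21a22346a21a31aa88689c, 0x0, 0x0, 0x2184, 0x38d04, 0xb8d11516a3a892, 0x5c688a8b51d4413] = true := by decide +kernel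

theorem row21 : tE6.row 21 [0x11688950a, 0x1168ca8868ca991, 0x116888d54435292, 0x17510d1950c, 0x21a22346a21a31d4597, 0x134654589, 0x4d5443528b, 0x102, 0x454406, 0x201, 0x5503, 0x468d4589, 0xb8d11509, 0x223445458b, 0x9c688a8b518e, 0x2e344545a8e90, 0x2d54587, 0xe3a8b518b, 0x5a22346a21a31aa88689b, 0x14688a8b528e, 0x8d11516a0c, 0x1c688a889, 0x1a8d11516a3a891, 0x16888d54434635510e18, 0x683, 0x7183, 0x0, 0xba986, 0x71a2288, 0x1c6a85, 0x38d04, 0x0, 0x983, 0x171a22a2d47511, 0x1c6885, 0xd4688a8b51d4412] = true := by decide +kernel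

theorem row22 : tE6.row 22 [0xc6aa2e09, 0x2146aa21a328f, 0x14e05, 0x88d5443518d, 0x87285, 0x225443460b, 0x29c688a88688f, 0x10e34689, 0x108c688a8868c7515, 0x8b5510d0b, 0x14688a8b51d4411, 0x222346a21a3190, 0x0, 0x8c68d4e0a, 0x23445443518d, 0x1c6885, 0x1a8d11516a8e, 0xd4406, 0x1d45a8e8a, 0x14634454435290, 0x5ca886a8a, 0xe3445440b, 0x438e86, 0x138d1a98a, 0x1c7510d18d0e, 0x6a344545a8e8f, 0xb8d11509, 0x10e3a988, 0x38d54408, 0xe35507, 0x3a8b5189, 0x2984, 0x4688a886a0c, 0x21c7507, 0x8463445443463a896, 0xe34406] = true := by decide +kernel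

theorem row23 : tE6.row 23 [0x22e54e09, 0x116a54e0a, 0xd47506, 0x502, 0x84e54e0a, 0x0, 0x45aa88688b, 0x45aa8b518b, 0x29ca8868c7510, 0x84ea218a, 0x1a32a2d09, 0x1a22346a21a3511, 0x1a22346a21a31aa896, 0x1a31d443468e, 0xd19516a8a, 0x26885, 0xa886a08, 0x344468d443463a895, 0x8b445440a, 0x3463a88688d, 0x1ca885, 0x134686, 0x344468d4435191, 0x54435289, 0x134454409, 0xa72a21a31d4e12, 0x6888ea21a3510, 0xd4a886, 0x1a22346a21a8e92, 0x10884, 0x9510d18d0b, 0xd111a3510d19512, 0x6888d1a8868ca993, 0xd18ea21a350f, 0x6a3a887, 0x351d4408] = true := by decide +kernel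

theorem row24 : tE6.row 24 [0x110d18d09, 0x0, 0x4d11507, 0x4d1a887, 0x13444a989, 0x134454409, 0x134454e09, 0x134654589, 0x4d112a218b, 0x1346a2e09, 0x221a32a2d0d, 0x4d11510e0b, 0x8868c7510d0f, 0x221a9516a0d, 0x45aa988, 0x8868ca88688f, 0x886a3a886a0f, 0x116aa218a, 0x8868ca8b518f, 0x45a9508, 0x886a5443460f, 0x110d5458a, 0x886a35516a8e, 0x116a5440a, 0x116a54e0a, 0x4d4a8868d4e10, 0x8b444a886a8e, 0x110d4a88a, 0x45a9510e0c, 0xa22a2d4750d, 0x8868c6a8a, 0x9a9510d1a98f, 0x1352a21a350e, 0x44352a2e0c, 0x511516a3a88e, 0x288a8b51d440f] = true := by decide +kernel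

private noncomputable def _root_.Cfsg.Agent.LsF.f205681_0 : {f // @Cfsg.Agent.OM.Cu.Eng.aL = f} := ⟨_, by first | (delta Cfsg.Agent.OM.Cu.Eng.aL; rewrite [Cfsg.Agent.LsF.and_eq]; exact rfl) | exact rfl⟩
private noncomputable def _root_.Cfsg.Agent.LsF.f205681_1 : {f // @Cfsg.Agent.OM.Cu.Eng.zL = f} := ⟨_, by first | (delta Cfsg.Agent.OM.Cu.Eng.zL; rewrite [Cfsg.Agent.LsF.iadd_pat]; exact rfl) | exact rfl⟩
private noncomputable def _root_.Cfsg.Agent.LsF.f205681_2 : {f // @Cfsg.Agent.OM.Cu.Eng.eL = f} := ⟨_, by first | (delta Cfsg.Agent.OM.Cu.Eng.eL; rewrite [Cfsg.Agent.LsF.or_eq]; exact rfl) | exact rfl⟩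
private noncomputable def _root_.Cfsg.Agent.LsF.f205681_3 : {f // @Cfsg.Agent.OM.Cu.Eng.Tb.bas = f} := ⟨_, by first | (delta Cfsg.Agent.OM.Cu.Eng.Tb.bas; rewrite [Cfsg.Agent.LsF.f205681_0.2, Cfsg.Agent.LsF.f205681_1.2, Cfsg.Agent.LsF.f205681_2.2, Cfsg.Agent.LsF.nadd_pat, Cfsg.Agent.LsF.nmul_pat, Cfsg.Agent.LsF.iadd_pat, Cfsg.Agent.LsF.imul_pat, Cfsg.Agent.LsF.isub_pat, Cfsg.Agent.LsF.icast_pat, Cfsg.Agent.LsF.and_eq, Cfsg.Agent.LsF.or_eq, Cfsg.Agent.LsF.cond_eq, Cfsg.Agent.LsF.instIDecEq_eq, Cfsg.Agent.LsF.decide_eq]; exact rfl) | exact rfl⟩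
private noncomputable def _root_.Cfsg.Agent.LsF.f205681_4 : {f // @Cfsg.Agent.BZ.TA.cT = f} := ⟨_, by first | (delta Cfsg.Agent.BZ.TA.cT; rewrite [Cfsg.Agent.LsF.nadd_pat, Cfsg.Agent.LsF.ineg_pat, Cfsg.Agent.LsF.instDecEq_eq, Cfsg.Agent.LsF.decLt_eq, Cfsg.Agent.LsF.dAnd_eq, Cfsg.Agent.LsF.dOr_eq, Cfsg.Agent.LsF.ite_eq]; exact rfl) | exact rfl⟩
theorem bas : tE6.bas (cT 2 6) = true := by ((try (rewrite [Cfsg.Agent.LsF.f205681_3.2, Cfsg.Agent.LsF.f205681_4.2])); decide +kernel)

theorem cls_ok : _root_.Cfsg.Agent.OM.Cu.Eng.aL tE6.cls tE6.K = true := by decide +kernel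

theorem rowOk (i : ℕ) (hK : i < 25) : tE6.RowOk i := by
  interval_cases i
  exacts [Tb.row_ok row0, Tb.row_ok row1, Tb.row_ok row2, Tb.row_ok row3, Tb.row_ok row4, Tb.row_ok row5, Tb.row_ok row6, Tb.row_ok row7, Tb.row_ok row8, Tb.row_ok row9, Tb.row_ok row10, Tb.row_ok row11, Tb.row_ok row12, Tb.row_ok row13, Tb.row_ok row14, Tb.row_ok row15, Tb.row_ok row16, Tb.row_ok row17, Tb.row_ok row18, Tb.row_ok row19, Tb.row_ok row20, Tb.row_ok row21, Tb.row_ok row22, Tb.row_ok row23, Tb.row_ok row24]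

theorem ok : tE6.Ok (cT 2 6) ![1, 1, 1, 1, 1, 1] 1 :=
  ⟨Tb.bs_of bas, boxRs _ _ carE6, by decide +kernel, fun _ _ => rfl, rowOk, aL_iff.1 cls_ok⟩

/-- the matrices of the classes, entries plus 7 -/
def XD : ℕ := 0x577877668777567877477877577868677867687867778767787857797857787858777867887686786786796786896696896687886777786868776877786877795878886778886777786787776877786877886787886778886777677877768777767877777877777868777867687778677787686788687689677779777778778776768777778777878776777876777786786868787777786877795878886778886777786787787777786877886787886778886777877777776877786877886787886778886777687778787777796778797679787769777778677877768777778777777877777868777867877777768777767877777877777868777867877777768777778777878687878678878677786868787777786877795878886778777778786787787777786877886787886778777778877777787777786877886787886778886777677877787777786877777877777868777778877777768777778777878687878678777778877777787777786877886787886778777778877777787777786877777877777868777778877777787777778777878687878678777778877777787777778777777877777868777778877777787777778777777877777787777778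

/-- the certificates, entries plus 128 -/
def YD : ℕ := 0x8080807f8080817f7f80808082817e7f80808380807d80808280807f7f7f8180807f817e7d7d7d808383807c7c828282807e78818484807a7a7d8686807c7c7f8282807e7e7e847e7d7d80837d83807c82817e81807b81827c827d7a83837a837d7c82847b817d7e81827f7f7d7d867d837d7f7c857e817e7e7b877c827c7d7a8c7a837a7c7c887e817b7e7e847f827c7a7d86837d7d7d7c85817e7e7a7b87827c7c777a8c837a7a7a7c88847b7b7d7e84827f7c808080808080817f7f80808082817e808080838080808080828080807f7f81808080817e808080808080847e80807e8085827d807f808683807d8080848480807e80828280808280808080808080847d807f7f7f8880807e7e7e8680807a80808480807c7c828280807e7e7e80808080808083807d827d8283807d817d81838080807d80808080827d7f80808081807e80808080808085807d7d828284807d7d81818380807d8080828080807f7f81808080817e808080808080807b847f7f7f807c827e7e7e807d867d7d7d807e84827c7c807f8281817b80808080808080808080808080808080808080808080808080808080808080808080808080808080808080808080808080838080808083808080808082808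0807f7f81808080817e808080808080808080808080808380808080808383808080808282807f7f80818180817e8080808080808080808080808084808080808083807f7f7f808280827e7e80818081817d80808080808080808080808080808080808080808080808080808080808080808080808080808080808080808080808080808080808080808080808080808080808080808080808080808080808080808080808080807f7f7f7f8080837e7e7e808082827d7d80808181817c8080808180808080808082808080808181808080808280808080808080818080807e80828080808180808080808081808080808082808080808080818080807f7e828080807e7c83808080818080808080808180808080808081808080807f828080807f7e838080807e7d848080808080808080808180808080808081808080807f8280808080808081808080817e82808080808080808080818080808080808180808080808081808080807f82808080807e83808080808080808080808080808080818080808080808180808080808081808080807f82808080808080808080808080808080808080808080818080808080808180808080808081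

/-- the matrix of the class `i` -/
def xm (i : ℕ) : Mat (Fin 6) := Matrix.of fun j k => (fd 4 XD (36 * i + 6 * j + k) : ℤ) - 7

/-- the certificate of the class `i` -/
def ym (i : ℕ) : Mat (Fin 6) := Matrix.of fun j k => (fd 8 YD (36 * i + 6 * j + k) : ℤ) - 128

/-- three columns of the certificate -/
def y3 (i : ℕ) : Matrix (Fin 6) (Fin 3) ℤ := Matrix.of fun j k => ym i j (k.castLE (by decide))

/-- the invariant -/
def iv (g : Mat (Fin 6)) : ℤ := trace g + 13 * trace (g * g) + 169 * trace (g * (g * g)) + 2197 * trace (g * g * (g * g))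

/-- the invariant of the class `i` -/
def li (i : ℕ) : ℤ := ([14280, 13940, 7647, 13600, 13548, 7307, 13260, 2380, 6293, 13496, 13208, 1014, 6967, 12920, 0, -4368, 6241, 2040, 12868, 674, -6241, -507, -6967, -340, -5619] : List ℤ).getD i 0

/-- the induced function -/
def f0 (i : ℕ) : ℤ := ([0, 0, 0, 0, 0, 0, 0, 0, -1, 2, 0, 0, 0, 8, 0, 0, 0, 0, 0, 0, 0, 0, 0, 0, 0] : List ℤ).getD i 0

/-- its image under the sum of the reflections -/
def f1 (i : ℕ) : ℤ := ([0, 0, 0, 0, 0, 0, 0, 0, 0, 0, 0, 0, 0, 0, 0, -4, 4, 0, 16, 0, 0, 0, 0, 0, 0] : List ℤ).getD i 0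

/-- the second image -/
def f2 (i : ℕ) : ℤ := ([0, 0, 0, 0, 0, 0, 0, 0, -48, 96, 0, 0, 0, 384, 0, 0, 0, 0, 0, 0, -48, 0, 96, 96, 0] : List ℤ).getD i 0

/-- the coefficients of `det (1 - x A)` -/
def cpL (i : ℕ) : List ℤ := ([[1, -6, 15, -20, 15, -6, 1], [1, -4, 5, 0, -5, 4, -1], [1, -3, 3, -2, 3, -3, 1], [1, -2, -1, 4, -1, -2, 1], [1, -2, 1, 0, -1, 2, -1], [1, -1, -1, 0, 1, 1, -1], [1, 0, -3, 0, 3, 0, -1], [1, -1, 0, 0, 0, -1, 1], [1, -1, -1, 2, -1, -1, 1], [1, -2, 3, -4, 3, -2, 1], [1, 0, -1, 0, -1, 0, 1], [1, 0, 0, -2, 0, 0, 1], [1, 1, -1, -2, -1, 1, 1], [1, 2, -1, -4, -1, 2, 1], [1, 0, 0, 0, 0, 0, -1], [1, 0, -1, 0, 1, 0, -1], [1, -1, 1, 0, -1, 1, -1], [1, 1, 0, 0, 0, -1, -1], [1, 2, 1, 0, -1, -2, -1], [1, 2, 2, 0, -2, -2, -1], [1, 1, 0, -1, 0, 1, 1], [1, 0, 0, 1, 0, 0, 1], [1, -1, 2, -1, 2, -1, 1], [1, 2, 2, 2, 2, 2, 1], [1, 3, 6, 7, 6, 3, 1]] : List (List ℤ)).getD i []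

/-- the check of the matrix of the class `i` -/
noncomputable def cx (i : ℕ) : Bool := tE6.eqv (tE6.aA i tE6.v0)
  (pk (fun j => sL (fun k => (fd 4 XD (36 * i + 6 * j + k) + 7 * NM) * 65536 ^ k) 6) 6)

theorem cx_ok : _root_.Cfsg.Agent.OM.Cu.Eng.aL cx 25 = true := by decide +kernel

private noncomputable def _root_.Cfsg.Agent.LsF.f205681_6 : {f // @Cfsg.Agent.OM.Cu.Eng.Tb.aw = f} := ⟨_, by first | (delta Cfsg.Agent.OM.Cu.Eng.Tb.aw; rewrite [Cfsg.Agent.LsF.cond_eq]; exact rfl) | exact rfl⟩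
private noncomputable def _root_.Cfsg.Agent.LsF.f205681_7 : {f // @Cfsg.Agent.OM.Cu.Eng.Tb.aA = f} := ⟨_, by first | (delta Cfsg.Agent.OM.Cu.Eng.Tb.aA; rewrite [Cfsg.Agent.LsF.f205681_6.2]; exact rfl) | exact rfl⟩
private noncomputable def _root_.Cfsg.Agent.LsF.f205681_8 : {f // @Cfsg.Agent.OM.Cu.Eng.Tb.aP = f} := ⟨_, by first | (delta Cfsg.Agent.OM.Cu.Eng.Tb.aP; rewrite [Cfsg.Agent.LsF.f205681_7.2]; exact rfl) | exact rfl⟩
private noncomputable def _root_.Cfsg.Agent.LsF.f205681_13 : {f // @Cfsg.Agent.OM.Cu.Cp.tr = f} := ⟨_, by first | (delta Cfsg.Agent.OM.Cu.Cp.tr; rewrite [Cfsg.Agent.LsF.f205681_8.2, Cfsg.Agent.LsF.isub_pat, Cfsg.Agent.LsF.icast_pat, Cfsg.Agent.LsF.cond_eq]; exact rfl) | exact rfl⟩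
private noncomputable def _root_.Cfsg.Agent.LsF.f205681_14 : {f // @Cfsg.Agent.OM.Cu.Cp.cpk = f} := ⟨_, by first | (delta Cfsg.Agent.OM.Cu.Cp.cpk; rewrite [Cfsg.Agent.LsF.f205681_0.2, Cfsg.Agent.LsF.f205681_1.2, Cfsg.Agent.LsF.f205681_13.2, Cfsg.Agent.LsF.nadd_pat, Cfsg.Agent.LsF.nsub_pat, Cfsg.Agent.LsF.iadd_pat, Cfsg.Agent.LsF.imul_pat, Cfsg.Agent.LsF.ineg_pat, Cfsg.Agent.LsF.icast_pat, Cfsg.Agent.LsF.and_eq, Cfsg.Agent.LsF.getD_eq, Cfsg.Agent.LsF.instIDecEq_eq, Cfsg.Agent.LsF.decide_eq]; exact rfl) | exact rfl⟩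
private noncomputable def _root_.Cfsg.Agent.LsF.f205681_15 : {f // @Cfsg.Agent.BZ.RT.Co.E6x.cpL = f} := ⟨_, by first | (delta Cfsg.Agent.BZ.RT.Co.E6x.cpL; rewrite [Cfsg.Agent.LsF.ineg_pat, Cfsg.Agent.LsF.getD_eq]; exact rfl) | exact rfl⟩
theorem cp_ok : _root_.Cfsg.Agent.OM.Cu.Eng.aL (fun i => Cp.cpk tE6 i (cpL i)) 25 = true := by ((try (rewrite [Cfsg.Agent.LsF.f205681_0.2, Cfsg.Agent.LsF.f205681_14.2, Cfsg.Agent.LsF.f205681_15.2])); decide +kernel)

private noncomputable def _root_.Cfsg.Agent.LsF.f205681_16 : {f // @Cfsg.Agent.BZ.RT.Co.E6x.iv = f} := ⟨_, by first | (delta Cfsg.Agent.BZ.RT.Co.E6x.iv Matrix.trace; rewrite [Cfsg.Agent.LsF.mmulF_pat, Cfsg.Agent.LsF.sumF_pat, Cfsg.Agent.LsF.iadd_pat, Cfsg.Agent.LsF.imul_pat, Cfsg.Agent.LsF.iACM_eq]; exact rfl) | exact rfl⟩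
private noncomputable def _root_.Cfsg.Agent.LsF.f205681_17 : {f // @Cfsg.Agent.BZ.RT.Co.E6x.xm = f} := ⟨_, by first | (delta Cfsg.Agent.BZ.RT.Co.E6x.xm; rewrite [Cfsg.Agent.LsF.mof_pat, Cfsg.Agent.LsF.nadd_pat, Cfsg.Agent.LsF.nmul_pat, Cfsg.Agent.LsF.isub_pat, Cfsg.Agent.LsF.icast_pat]; exact rfl) | exact rfl⟩
private noncomputable def _root_.Cfsg.Agent.LsF.f205681_18 : {f // @Cfsg.Agent.BZ.RT.Co.E6x.li = f} := ⟨_, by first | (delta Cfsg.Agent.BZ.RT.Co.E6x.li; rewrite [Cfsg.Agent.LsF.ineg_pat, Cfsg.Agent.LsF.getD_eq]; exact rfl) | exact rfl⟩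
theorem iv_xm : ∀ i < 25, iv (xm i) = li i := by (refine of_decide_eq_true ?_; (try (rewrite [Cfsg.Agent.LsF.f205681_16.2, Cfsg.Agent.LsF.f205681_17.2, Cfsg.Agent.LsF.f205681_18.2, Cfsg.Agent.LsF.instIDecEq_eq, Cfsg.Agent.LsF.dBallLT_eq, Cfsg.Agent.LsF.decide_eq])); decide +kernel)

theorem li_inj : ∀ i < 25, ∀ j < 25, li i = li j → i = j := by decide +kernel

/-- three independent fixed vectors -/
noncomputable def c0 (i : ℕ) : Bool := _root_.Cfsg.Agent.OM.Cu.Eng.aL (fun b => decide (∀ a : Fin 6, ∑ l, xm i a l * ym i l (Fin.ofNat 6 b) = ym i a (Fin.ofNat 6 b)) &&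
  eL (fun a => decide (ym i (Fin.ofNat 6 a) (Fin.ofNat 6 b) ≠ 0) &&
    _root_.Cfsg.Agent.OM.Cu.Eng.aL (fun b' => decide (b' = b ∨ ym i (Fin.ofNat 6 a) (Fin.ofNat 6 b') = 0)) 3) 6) 3

theorem cert0 : _root_.Cfsg.Agent.OM.Cu.Eng.aL c0 7 = true := by decide +kernel

theorem y3_eq (i : ℕ) (a : Fin 6) (b : Fin 3) : y3 i a b = ym i a (Fin.ofNat 6 b) := by fin_cases b <;> rfl

theorem cert1 (i : ℕ) (hi : i < 7) (a : Fin 6) (b : Fin 3) : ∑ l, xm i a l * y3 i l b = y3 i a b := by
  simp only [y3_eq]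
  exact of_decide_eq_true (Bool.and_eq_true_iff.1 (aL_iff.1 (aL_iff.1 cert0 i hi) b b.2)).1 a

theorem cert1' (i : ℕ) (hi : i < 7) (j : Fin 3) : ∃ a, y3 i a j ≠ 0 ∧ ∀ j', j' ≠ j → y3 i a j' = 0 := by
  obtain ⟨a, -, h⟩ := eL_iff.1 (Bool.and_eq_true_iff.1 (aL_iff.1 (aL_iff.1 cert0 i hi) j j.2)).2
  simp only [y3_eq]
  exact ⟨_, of_decide_eq_true (Bool.and_eq_true_iff.1 h).1, fun j' c =>
    (of_decide_eq_true (aL_iff.1 (Bool.and_eq_true_iff.1 h).2 j' j'.2)).resolve_left fun e => c (Fin.ext e)⟩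

theorem cert2 : ∀ i < 25, i < 7 ∨ i ∈ [8, 9, 13] ∨ ((∀ a b, a ≠ b → ((xm i - 1) * ym i) a b = 0) ∧
    ∃ k k' : Fin 6, k < k' ∧ (k, k') ≠ (0, 4) ∧ ∀ b, b ≠ k → b ≠ k' → ((xm i - 1) * ym i) b b ≠ 0) := by (set_option synthInstance.maxSize 100000 in exact Cfsg.Agent.Lib.Refl.of (by decide +kernel))

theorem small : ∀ k k' : Fin 6, k < k' → (k, k') ≠ (0, 4) → ∀ a ∈ [(-1 : ℤ), 0, 1], ∀ b ∈ [(-1 : ℤ), 0, 1], ∀ c ∈ [(-1 : ℤ), 0, 1],
    ∀ d ∈ [(-1 : ℤ), 0, 1], a * d - b * c = 0 ∨ ∃ t < 36, 1 < |a * tE6.co t k + b * tE6.co t k'| ∨ 1 < |c * tE6.co t k + d * tE6.co t k'| ∨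
      1 < |(a - c) * tE6.co t k + (b - d) * tE6.co t k'| := by (set_option synthInstance.maxSize 100000 in exact Cfsg.Agent.Lib.Refl.of (by decide +kernel))

theorem wit : ∀ i ∈ [4, 6], ∃ k : Fin 6, xm i *ᵥ (fun j => ym i j k) = (fun j => ym i j k) ∧
    ∃ j, j ≠ 0 ∧ j ≠ 4 ∧ (sp (cm 6 (cT 2 6)) j).1 ⬝ᵥ (fun j => ym i j k) ≠ 0 := by decide +kernel

theorem no04 : ∀ i ∈ [4, 6], ∀ s < Nat.mod (fd 400 tE6.cw i) 128, fd 3 (Nat.shiftRight (fd 400 tE6.cw i) 7) s ≠ 0 ∧
    fd 3 (Nat.shiftRight (fd 400 tE6.cw i) 7) s ≠ 4 := by decide +kernel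

theorem inj : ∀ t < tE6.R, ∀ t' < tE6.R, (∀ j < tE6.n, tE6.co t j = tE6.co t' j) → t = t' := by (set_option synthInstance.maxSize 100000 in exact Cfsg.Agent.Lib.Refl.of (by decide +kernel))

theorem co04 : ∀ t < 36, tE6.co t 0 ≤ 1 ∧ tE6.co t 4 ≤ 1 := by decide +kernel

private noncomputable def _root_.Cfsg.Agent.LsF.f205681_19 : {f // @Cfsg.Agent.BZ.RT.Co.E6x.f2 = f} := ⟨_, by first | (delta Cfsg.Agent.BZ.RT.Co.E6x.f2; rewrite [Cfsg.Agent.LsF.ineg_pat, Cfsg.Agent.LsF.getD_eq]; exact rfl) | exact rfl⟩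
private noncomputable def _root_.Cfsg.Agent.LsF.f205681_20 : {f // @Cfsg.Agent.BZ.RT.Co.E6x.f1 = f} := ⟨_, by first | (delta Cfsg.Agent.BZ.RT.Co.E6x.f1; rewrite [Cfsg.Agent.LsF.ineg_pat, Cfsg.Agent.LsF.getD_eq]; exact rfl) | exact rfl⟩
private noncomputable def _root_.Cfsg.Agent.LsF.f205681_21 : {f // @Cfsg.Agent.BZ.RT.Co.E6x.f0 = f} := ⟨_, by first | (delta Cfsg.Agent.BZ.RT.Co.E6x.f0; rewrite [Cfsg.Agent.LsF.ineg_pat, Cfsg.Agent.LsF.getD_eq]; exact rfl) | exact rfl⟩
theorem tab1 : ∀ i < 25, ∑ t ∈ range 36, f0 (tE6.jj i t) = f1 i ∧ ∑ t ∈ range 36, f1 (tE6.jj i t) = f2 i ∧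
    ∑ t ∈ range 36, f2 (tE6.jj i t) = 144 * f1 i := by (set_option synthInstance.maxSize 100000 in exact Cfsg.Agent.Lib.Refl.of (by ((try (rewrite [Cfsg.Agent.LsF.f205681_19.2, Cfsg.Agent.LsF.f205681_20.2, Cfsg.Agent.LsF.f205681_21.2])); decide +kernel)))

theorem tab2 : ∀ i < 25, (i ∈ [8, 9, 13] ∨ f0 i = 0) ∧ (i < 14 → f1 i = 0 ∧ f2 i = 48 * f0 i) := by decide +kernel

/-- the number of the roots of `D₄` which lead from the class `i` to the class `j` -/
def cnt (i j : ℕ) : ℕ := (((range 36).filter fun t => tE6.co t 0 = 0 ∧ tE6.co t 4 = 0).filter fun t => tE6.jj i t = j).card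

theorem tab3 : [4, 6].map (fun i => [8, 9, 13].map (cnt i)) = [[4, 2, 0], [8, 0, 1]] := by decide +kernel

/-- the number of the roots which lead from the class `i` to the class `j` -/
def mm (i j : ℕ) : ℕ := ((range 36).filter fun t => tE6.jj i t = j).card

theorem tab4 : [(13, 18), (13, 6), (6, 8), (8, 15), (8, 16), (16, 9), (15, 20), (16, 22), (18, 23)].map
    (fun x => (mm x.1 x.2, mm x.2 x.1)) = [(24, 2), (12, 1), (8, 3), (18, 4), (6, 2), (3, 24), (8, 12), (4, 24), (16, 6)] := by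
  decide +kernel

end Cfsg.Agent.BZ.RT.Co.E6x
end

-- part: BZ/RT/Co/E6x
section
/-!
# BZ / RT : the pair `(E₆, D₄)`, the induced function (helper95)

`Hy f` : `f` is a class function on `W(E₆)` which lives on the conjugates of the elliptic elements of `W(D₄)` and is killed by the sum
of the reflections of `D₄`.  `Hy.form` : `f` is a multiple of an explicit function.
-/

set_option autoImplicit false
set_option maxRecDepth 100000

namespace Cfsg.Agent.BZ.RT.Co.E6x

open Cfsg Matrix Cfsg.Agent.HZ.L Cfsg.Agent.BZ.TA Cfsg.Agent.BZ.TA.Cl Cfsg.Agent.OM.Cu Cfsg.Agent.OM.Cu.Eng Finset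

/-- the Cartan matrix -/
abbrev C6 : Mat (Fin 6) := cm 6 (cT 2 6)

/-- the standard `D₄` -/
def P4 : RS (Fin 6) := {a | a ∈ Rc C6 ∧ a.2 0 = 0 ∧ a.2 4 = 0}

/-- the sum over the reflections -/
noncomputable def Cas (g : Mat (Fin 6) → ℂ) (A : Mat (Fin 6)) : ℂ := ∑ᶠ ρ ∈ rfm '' Rc C6, g (ρ * A)

/-- class functions -/
def Cf (f : Mat (Fin 6) → ℂ) : Prop := ∀ u ∈ Wc C6, ∀ A ∈ Wc C6, f (u * A) = f (A * u)

/-- the hypotheses -/
structure Hy (f : Mat (Fin 6) → ℂ) : Prop where
  cj : Cf f
  sup : ∀ A ∈ Wc C6, f A ≠ 0 → ∃ v ∈ Wc C6, ∃ u ∈ WW P4, ¬ Eig P4 u 1 ∧ v * A = u * v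
  rel : ∀ u ∈ WW P4, Eig P4 u 1 → ∑ᶠ ρ ∈ rfm '' P4, f (ρ * u) = 0

/-- the root `t` -/
def rr (t : ℕ) : Vec (Fin 6) × Vec (Fin 6) := tE6.rr t

variable {f : Mat (Fin 6) → ℂ} {A X g u : Mat (Fin 6)} {i t : ℕ}

theorem rs6 : Rs C6 ![1, 1, 1, 1, 1, 1] := ok.rs

theorem rr_mem (ht : t < 36) : rr t ∈ Rc C6 := ok.bs.rr_mem ok.rs t ht

theorem rr_all {a : Vec (Fin 6) × Vec (Fin 6)} (ha : a ∈ Rc C6) : ∃ t < 36, a = rr t ∨ a = -rr t := ok.bs.rr_all ok.rs ha

theorem rr_inj {t' : ℕ} (ht : t < 36) (ht' : t' < 36) (e : rfm (rr t) = rfm (rr t')) : t = t' := Ext.rf_inj ok.bs ok.rs inj ht ht' e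

theorem rf_mem {a : Vec (Fin 6) × Vec (Fin 6)} (ha : a ∈ Rc C6) : rfm a ∈ Wc C6 :=
  rs6.ww ▸ Submonoid.subset_closure ⟨a, ha, rfl⟩

theorem aa_eq (hi : i < 25) : tE6.AA (cT 2 6) 1 i = xm i := by
  refine sub_eq_zero.1 (one_vec (n := 6) (by decide) (fun a b => ?_) fun a => ?_)
  · have k1 := ok.bs.bound ok.rs (ok.nm i) a b
    have k2 := fd_lt 4 XD (36 * i + 6 * a + b)
    rw [abs_le] at k1
    show |tE6.AA (cT 2 6) 1 i a b - ((fd 4 XD (36 * i + 6 * a + b) : ℤ) - 7)| < 65536
    rw [abs_lt]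
    omega
  · have k := (Tb.eqv_iff (ok.rp_aA i Tb.rp_v0) (rp_pk (n := 6) (u := xm i *ᵥ tv 6) fun j => ?_)).1 (aL_iff.1 cx_ok i hi) a
    · obtain ⟨Z, hZ⟩ : ∃ Z : Mat (Fin 6), Z = tE6.AA (cT 2 6) 1 i := ⟨_, rfl⟩
      have k' : (((Z *ᵥ tv 6) a : ℤ) : ZMod NN) = ((xm i *ᵥ tv 6) a : ℤ) := hZ ▸ k
      have k2 : ((((Z - xm i) *ᵥ tv 6) a : ℤ) : ZMod NN) = 0 := by rw [sub_mulVec, Pi.sub_apply, Int.cast_sub, k', sub_self]
      subst hZ
      exact k2
    · rw [sL_eq, Finset.sum_range, mulVec, dotProduct]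
      push_cast
      refine sum_congr rfl fun k _ => ?_
      simp only [NM_eq, xm, tv, of_apply]
      push_cast
      ring

theorem xm_wd (hi : i < 25) : xm i = tE6.wd (cT 2 6) (fd 400 tE6.cw i) := by
  rw [← aa_eq hi, Tb.AA, pm_one, mul_one]

theorem xm_mem (hi : i < 25) : xm i ∈ Wc C6 := xm_wd hi ▸ Tb.wd_mem (T := tE6) _

theorem cls (hA : A ∈ Wc C6) : ∃ i < 25, ∃ g ∈ Wc C6, xm i * g = g * A := by
  obtain ⟨i, hi, g, hg, e⟩ := ok.closure (A := A) ⟨A, rs6.ww.symm ▸ hA, by rw [pm_one]; exact (mul_one _).symm⟩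
  exact ⟨i, hi, g, hg, aa_eq hi ▸ e⟩

theorem Cf.conj (h : Cf f) (hg : g ∈ Wc C6) (hA : A ∈ Wc C6) (e : X * g = g * A) : f X = f A := by
  obtain ⟨v, hv, e1, e2⟩ := rs6.inv g hg
  rw [← mul_one X, ← e2, ← mul_assoc, e, mul_assoc, h g hg _ (mul_mem hA hv), mul_assoc, e1, mul_one]

theorem Cf.ent (h : Cf f) (hi : i < 25) (ht : t < 36) : tE6.jj i t < 25 ∧ f (rfm (rr t) * xm i) = f (xm (tE6.jj i t)) := by
  obtain ⟨k, g, hg, e⟩ := ok.ent hi ht
  rw [aa_eq hi, aa_eq k] at e
  exact ⟨k, (h.conj hg (mul_mem (rf_mem (rr_mem ht)) (xm_mem hi)) e).symm⟩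

theorem sum_rf (p : Vec (Fin 6) → Prop) (hp : ∀ v, p (-v) ↔ p v) [DecidablePred p] (φ : Mat (Fin 6) → ℂ) :
    ∑ᶠ ρ ∈ rfm '' {a | a ∈ Rc C6 ∧ p a.2}, φ ρ = ∑ t ∈ (range 36).filter fun t => p (rr t).2, φ (rfm (rr t)) := by
  have e : rfm '' {a | a ∈ Rc C6 ∧ p a.2} = (fun t => rfm (rr t)) '' ((range 36).filter fun t => p (rr t).2 : Finset ℕ) := by
    ext ρ
    constructor
    · rintro ⟨a, ⟨h1, h2⟩, rfl⟩
      obtain ⟨t, ht, rfl | rfl⟩ := rr_all h1
      · exact ⟨t, mem_coe.2 (mem_filter.2 ⟨mem_range.2 ht, h2⟩), rfl⟩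
      · exact ⟨t, mem_coe.2 (mem_filter.2 ⟨mem_range.2 ht, (hp _).1 h2⟩), (rfm_neg _).symm⟩
    · rintro ⟨t, ht, rfl⟩
      have := mem_filter.1 (mem_coe.1 ht)
      exact ⟨_, ⟨rr_mem (mem_range.1 this.1), this.2⟩, rfl⟩
  rw [e, finsum_mem_image fun t a t' b => rr_inj (mem_range.1 (mem_filter.1 (mem_coe.1 a)).1)
    (mem_range.1 (mem_filter.1 (mem_coe.1 b)).1), finsum_mem_coe_finset]

theorem cas_eq (f : Mat (Fin 6) → ℂ) (A : Mat (Fin 6)) : Cas f A = ∑ t ∈ range 36, f (rfm (rr t) * A) := by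
  have e := sum_rf (fun _ => True) (fun _ => Iff.rfl) fun ρ => f (ρ * A)
  simp only [and_true, Set.ofPred_mem_eq, filter_true] at e
  exact e

theorem Cf.cas_xm (h : Cf f) (hi : i < 25) : Cas f (xm i) = ∑ t ∈ range 36, f (xm (tE6.jj i t)) :=
  (cas_eq f _).trans (sum_congr rfl fun _ ht => (h.ent hi (mem_range.1 ht)).2)

theorem Cf.cas (h : Cf f) : Cf (Cas f) := fun u hu A hA => by
  obtain ⟨v, hv, e1, e2⟩ := rs6.inv u hu
  have k : ∀ u ∈ Wc C6, ∀ v, u * v = 1 → Set.MapsTo (fun ρ => u * ρ * v) (rfm '' Rc C6) (rfm '' Rc C6) := by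
    rintro u hu v e _ ⟨a, ha, rfl⟩
    obtain ⟨b, hb, k1, k2⟩ := rs6.nm u hu a ha
    exact ⟨b, hb, show _ = u * rfm a * v by rw [mul_rfm k1 k2, mul_assoc, e, mul_one]⟩
  refine (finsum_mem_eq_of_bijOn (fun ρ => u * ρ * v) (Set.InvOn.bijOn (f' := fun ρ => v * ρ * u) ⟨fun ρ _ => ?_, fun ρ _ => ?_⟩
    (k u hu v e2) (k v hv u e1)) ?_).symm
  · show v * (u * ρ * v) * u = ρ
    rw [mul_assoc u, ← mul_assoc, e1, one_mul, mul_assoc, e1, mul_one]
  · show u * (v * ρ * u) * v = ρ
    rw [mul_assoc v, ← mul_assoc, e2, one_mul, mul_assoc, e2, mul_one]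
  · rintro _ ⟨a, ha, rfl⟩
    show f (rfm a * (A * u)) = f (u * rfm a * v * (u * A))
    rw [← mul_assoc, ← h u hu _ (mul_mem (rf_mem ha) hA), mul_assoc _ v, ← mul_assoc v, e1, one_mul, mul_assoc]

theorem iv_conj (hg : g ∈ Wc C6) (e : X * g = g * A) : iv X = iv A := by
  obtain ⟨v, -, e1, e2⟩ := rs6.inv g hg
  have k : ∀ {X A : Mat (Fin 6)}, X * g = g * A → trace X = trace A := fun {X A} e => by
    rw [← mul_one X, ← e2, ← mul_assoc, e, trace_mul_comm, ← mul_assoc, e1, one_mul]
  have m : ∀ {X A X' A' : Mat (Fin 6)}, X * g = g * A → X' * g = g * A' → X * X' * g = g * (A * A') := fun e e' => by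
    rw [mul_assoc, e', ← mul_assoc, e, mul_assoc]
  rw [iv, iv, k e, k (m e e), k (m e (m e e)), k (m (m e e) (m e e))]

theorem det_conj (hg : g ∈ Wc C6) (e : X * g = g * A) : X.det = A.det := by
  obtain ⟨v, -, e1, e2⟩ := rs6.inv g hg
  rw [← mul_one X, ← e2, ← mul_assoc, e, det_mul_comm, ← mul_assoc, e1, one_mul]

theorem minu {a : Vec (Fin 6) × Vec (Fin 6)} (ha : a ∈ Rc C6) : |a.2 0| ≤ 1 ∧ |a.2 4| ≤ 1 ∧ |a.2 0 - a.2 4| ≤ 1 := by
  obtain ⟨t, ht, rfl | rfl⟩ := rr_all ha
  · have := co04 t ht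
    show |(tE6.co t 0 : ℤ)| ≤ 1 ∧ |(tE6.co t 4 : ℤ)| ≤ 1 ∧ |(tE6.co t 0 : ℤ) - (tE6.co t 4 : ℤ)| ≤ 1
    simp only [abs_le]
    omega
  · have := co04 t ht
    show |-(tE6.co t 0 : ℤ)| ≤ 1 ∧ |-(tE6.co t 4 : ℤ)| ≤ 1 ∧ |-(tE6.co t 0 : ℤ) - -(tE6.co t 4 : ℤ)| ≤ 1
    simp only [abs_le]
    omega

theorem sp_mem {j : Fin 6} (h0 : j ≠ 0) (h4 : j ≠ 4) : sp C6 j ∈ P4 :=
  ⟨rs6.mem j, Pi.single_eq_of_ne h0.symm 1, Pi.single_eq_of_ne h4.symm 1⟩

theorem sub4 (hu : u ∈ WW P4) : u ∈ Wc C6 := rs6.ww ▸ Submonoid.closure_mono (Set.image_mono fun _ h => h.1) hu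

theorem fix04 (hu : u ∈ WW P4) (x : Vec (Fin 6)) : (u *ᵥ x) 0 = x 0 ∧ (u *ᵥ x) 4 = x 4 := by
  induction hu using Submonoid.closure_induction generalizing x with
  | mem y hy =>
    obtain ⟨a, ha, rfl⟩ := hy
    simp only [rfm_mulVec, Pi.sub_apply, Pi.smul_apply, ha.2.1, ha.2.2, smul_zero, sub_zero, and_self]
  | one => rw [one_mulVec]; exact ⟨rfl, rfl⟩
  | mul y z _ _ h1 h2 => rw [← mulVec_mulVec, (h1 _).1, (h1 _).2]; exact h2 x

theorem ev_cast (a v : Vec (Fin 6)) : ev a (fun i => (v i : ℂ)) = (a ⬝ᵥ v : ℤ) := by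
  simp only [ev, dotProduct]
  push_cast
  rfl

theorem eig_of {v : Vec (Fin 6)} (h : u *ᵥ v = v) {j : Fin 6} (h0 : j ≠ 0) (h4 : j ≠ 4) (h1 : (sp C6 j).1 ⬝ᵥ v ≠ 0) : Eig P4 u 1 := by
  refine ⟨fun i => v i, funext fun i => ?_, _, sp_mem h0 h4, by rw [ev_cast]; exact Int.cast_ne_zero.2 h1⟩
  rw [one_smul, ← congrFun h i]
  exact ev_cast (u i) v

theorem zero_of {v : Vec (Fin 6)} (h : ∀ j, j ≠ 0 → j ≠ 4 → (sp C6 j).1 ⬝ᵥ v = 0) (h0 : v 0 = 0) (h4 : v 4 = 0) : v = 0 := by
  have h1 := h 1 (by decide) (by decide)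
  have h2 := h 2 (by decide) (by decide)
  have h3 := h 3 (by decide) (by decide)
  have h5 := h 5 (by decide) (by decide)
  simp only [sp, cm, cT, dotProduct, Fin.sum_univ_succ, _root_.Nat.reduceEqDiff, _root_.Int.reduceNeg, _root_.Fin.isValue, _root_.Matrix.of_apply, _root_.Fin.coe_ofNat_eq_mod, _root_.Nat.one_mod, _root_.Nat.add_eq_right, _root_.Fin.val_eq_zero_iff, _root_.Nat.reduceAdd, _root_.Nat.reduceLT, _root_.and_true, _root_.OfNat.one_ne_ofNat, _root_.and_false, _root_.false_and, _root_.or_self, _root_.or_false, _root_.ite_mul, _root_.neg_mul, _root_.one_mul, _root_.MulZeroClass.zero_mul, _root_.Nat.zero_mod, _root_.zero_ne_one, ↓ _root_.reduceIte, _root_.OfNat.ofNat_ne_zero, _root_.zero_add, _root_.Nat.one_lt_ofNat, _root_.Fin.val_succ, _root_.Fin.succ_ne_zero, _root_.false_or, _root_.Fin.succ_zero_eq_one, _root_.and_self, _root_.Fin.succ_one_eq_two, _root_.Finset.sum_const_zero, _root_.add_zero, _root_.Nat.reduceMod, _root_.true_and, _root_.OfNat.zero_ne_ofNat,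 _root_.Fin.reduceSucc, _root_.Finset.univ_unique, _root_.Fin.default_eq_zero, _root_.Fin.val_eq_zero, _root_.Finset.sum_neg_distrib, _root_.Finset.sum_singleton, _root_.Nat.succ_ne_self, _root_.Nat.lt_add_one, _root_.lt_self_iff_false, _root_.Nat.mod_succ, _root_.OfNat.ofNat_eq_ofNat, _root_.or_true] at h1 h2 h3 h5
  funext i
  fin_cases i <;> simp <;> omega

/-- the classes which meet `W(D₄)` -/
theorem meet {v : Mat (Fin 6)} (hi : i < 25) (hv : v ∈ Wc C6) (hu : u ∈ WW P4) (e : v * xm i = u * v) : i < 7 ∨ i ∈ [8, 9, 13] := by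
  obtain ⟨v', -, e1, e2⟩ := rs6.inv v hv
  refine or_assoc.2 (cert2 i hi) |>.resolve_right ?_
  rintro ⟨a1, k, k', a2, a3, a4⟩
  have k1 : ∀ s : Fin 6, s = 0 ∨ s = 4 → ∀ x, v s ⬝ᵥ x = v s k * x k + v s k' * x k' := fun s hs x => by
    have k2 : ∀ b, b ≠ k → b ≠ k' → v s b = 0 := fun b hb hb' => by
      have k3 : (v * ((xm i - 1) * ym i)) s b = 0 := by
        rw [← mul_assoc, mul_sub, e, mul_one, sub_mul, mul_assoc, Matrix.sub_apply, sub_eq_zero]
        rcases hs with rfl | rfl
        exacts [(fix04 hu fun a => (v * ym i) a b).1, (fix04 hu fun a => (v * ym i) a b).2]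
      rw [mul_apply, sum_eq_single b (fun a _ c => mul_eq_zero_of_right _ (a1 a b c)) fun c => absurd (mem_univ b) c] at k3
      exact (mul_eq_zero.1 k3).resolve_right (a4 b hb hb')
    exact Fintype.sum_eq_add k k' a2.ne fun b hb => mul_eq_zero_of_left (k2 b hb.1 hb.2) _
  have k4 : ∀ a ∈ Rc C6, |v 0 ⬝ᵥ a.2| ≤ 1 ∧ |v 4 ⬝ᵥ a.2| ≤ 1 ∧ |v 0 ⬝ᵥ a.2 - v 4 ⬝ᵥ a.2| ≤ 1 := fun a ha => by
    obtain ⟨b, hb, k5, -⟩ := rs6.nm v hv a ha
    have k6 := minu hb
    rw [← k5] at k6
    exact k6
  have k5 : ∀ j, v 0 j ∈ [(-1 : ℤ), 0, 1] ∧ v 4 j ∈ [(-1 : ℤ), 0, 1] := fun j => by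
    have k6 := k4 _ (rs6.mem j)
    simp only [sp, dotProduct_single, mul_one, abs_le] at k6
    simp only [List.mem_cons, List.not_mem_nil, or_false]
    omega
  rcases small k k' a2 a3 _ (k5 k).1 _ (k5 k').1 _ (k5 k).2 _ (k5 k').2 with c | ⟨t, ht, c⟩
  · have b1 := k1 0 (.inl rfl) fun a => v' a 0
    have b2 := k1 0 (.inl rfl) fun a => v' a 4
    have b3 := k1 4 (.inr rfl) fun a => v' a 0
    have b4 := k1 4 (.inr rfl) fun a => v' a 4
    rw [show (v 0 ⬝ᵥ fun a => v' a 0) = 1 from congrFun₂ e2 0 0] at b1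
    rw [show (v 0 ⬝ᵥ fun a => v' a 4) = 0 from congrFun₂ e2 0 4] at b2
    rw [show (v 4 ⬝ᵥ fun a => v' a 0) = 0 from congrFun₂ e2 4 0] at b3
    rw [show (v 4 ⬝ᵥ fun a => v' a 4) = 1 from congrFun₂ e2 4 4] at b4
    have b5 : (1 : ℤ) * 1 - 0 * 0 = (v 0 k * v 4 k' - v 0 k' * v 4 k) * (v' k 0 * v' k' 4 - v' k 4 * v' k' 0) := by
      nth_rw 1 [b1, b4, b2, b3]
      ring
    rw [c] at b5
    omega
  · obtain ⟨c1, c2, c3⟩ := k4 _ (rr_mem ht)
    rw [k1 0 (.inl rfl)] at c1 c3
    rw [k1 4 (.inr rfl)] at c2 c3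
    refine c.elim (not_lt.2 c1) fun c => c.elim (not_lt.2 c2) (not_lt.2 (le_of_eq_of_le (congrArg _ ?_) c3))
    show _ = v 0 k * tE6.co t k + v 0 k' * tE6.co t k' - (v 4 k * tE6.co t k + v 4 k' * tE6.co t k')
    ring

/-- the support -/
theorem Hy.three (h : Hy f) (hi : i < 25) (h0 : f (xm i) ≠ 0) : i ∈ [8, 9, 13] := by
  obtain ⟨v, hv, u, hu, h1, e⟩ := h.sup _ (xm_mem hi) h0
  obtain ⟨v', -, e1, e2⟩ := rs6.inv v hv
  refine (meet hi hv hu e).resolve_left fun h7 => ?_
  have k := LinearMap.finrank_le_finrank_of_injective (f := ((v * y3 i).submatrix ![0, 4] id).mulVecLin)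
    ((injective_iff_map_eq_zero _).2 fun c hc => funext fun j => ?_)
  · simp at k
  have a1 : xm i * y3 i = y3 i := Matrix.ext (cert1 i h7)
  have a2 : v *ᵥ (y3 i *ᵥ c) = 0 := zero_of (fun j c0 c4 => not_not.1 fun c5 => h1 (eig_of (by
    rw [mulVec_mulVec, ← e, ← mulVec_mulVec, mulVec_mulVec c (xm i), a1]) c0 c4 c5))
    (by rw [mulVec_mulVec]; exact congrFun hc 0) (by rw [mulVec_mulVec]; exact congrFun hc 1)
  have a3 : y3 i *ᵥ c = 0 := by rw [← one_mulVec (y3 i *ᵥ c), ← e1, ← mulVec_mulVec, a2, mulVec_zero]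
  obtain ⟨a, a4, a5⟩ := cert1' i h7 j
  have a6 : ∑ b, y3 i a b * c b = 0 := congrFun a3 a
  rw [sum_eq_single j (fun b _ c => mul_eq_zero_of_left (a5 b c) _) fun c => absurd (mem_univ j) c] at a6
  exact (mul_eq_zero.1 a6).resolve_left a4

theorem lt25 : ∀ i ∈ [4, 6], i < 25 := by decide

theorem xm_four (hi : i ∈ [4, 6]) : xm i ∈ WW P4 := by
  have k := no04 i hi
  rw [xm_wd (lt25 i hi), Tb.wd]
  generalize Nat.mod (fd 400 tE6.cw i) 128 = m at k
  induction m with
  | zero => exact one_mem _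
  | succ s ih =>
    refine mul_mem ?_ (ih fun s' c => k s' (c.trans s.lt_succ_self))
    split_ifs
    exacts [Submonoid.subset_closure ⟨_, sp_mem (fun c => (k s s.lt_succ_self).1 (congrArg Fin.val c))
      fun c => (k s s.lt_succ_self).2 (congrArg Fin.val c), rfl⟩, one_mem _]

theorem Hy.row (h : Hy f) (hi : i ∈ [4, 6]) : cnt i 8 * f (xm 8) + cnt i 9 * f (xm 9) + cnt i 13 * f (xm 13) = 0 := by
  obtain ⟨k, a1, j, a2, a3, a4⟩ := wit i hi
  have e := h.rel _ (xm_four hi) (eig_of a1 a2 a3 a4)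
  rw [P4, sum_rf (fun v => v 0 = 0 ∧ v 4 = 0) (fun _ => and_congr neg_eq_zero neg_eq_zero) fun ρ => f (ρ * xm i),
    filter_congr (p := fun t => (rr t).2 0 = 0 ∧ (rr t).2 4 = 0) (q := fun t => tE6.co t 0 = 0 ∧ tE6.co t 4 = 0)
      fun t _ => and_congr Int.natCast_eq_zero Int.natCast_eq_zero] at e
  rw [← e]
  simp only [cnt, card_filter _ ((range 36).filter _), Nat.cast_sum, sum_mul, ← sum_add_distrib]
  refine sum_congr rfl fun t ht => ?_
  obtain ⟨b1, b2⟩ := h.cj.ent (lt25 i hi) (mem_range.1 (mem_filter.1 ht).1)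
  rw [b2]
  generalize tE6.jj i t = j at b1
  by_cases c : f (xm j) = 0
  · rw [c]
    split_ifs <;> simp_all only [_root_.List.mem_cons, _root_.List.not_mem_nil, _root_.or_false, _root_.Fin.isValue, _root_.ne_eq, _root_.Finset.mem_filter, _root_.Finset.mem_range, _root_.Nat.reduceLT, _root_.Nat.succ_ne_self, _root_.Nat.reduceEqDiff, _root_.not_false_eq_true, _root_.Nat.cast_one, _root_.MulZeroClass.mul_zero, _root_.CharP.cast_eq_zero, _root_.MulZeroClass.zero_mul, _root_.add_zero]
  · have c2 := h.three b1 c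
    simp only [List.mem_cons, List.not_mem_nil, or_false] at c2
    rcases c2 with rfl | rfl | rfl <;> simp

/-- **the explicit form** -/
theorem Hy.form (h : Hy f) (hi : i < 25) : f (xm i) = -f (xm 8) * f0 i := by
  have e := tab3
  simp only [List.map_cons, List.map_nil, List.cons.injEq, and_true] at e
  have h1 := h.row (i := 4) (by decide)
  have h2 := h.row (i := 6) (by decide)
  simp only [e, Nat.cast_ofNat, Nat.cast_zero, Nat.cast_one] at h1 h2
  by_cases c : i ∈ [8, 9, 13]
  · simp only [List.mem_cons, List.not_mem_nil, or_false] at c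
    rcases c with rfl | rfl | rfl
    · rw [show f0 8 = -1 from rfl]; push_cast; ring
    · rw [show f0 9 = 2 from rfl]; push_cast; linear_combination h1 / 2
    · rw [show f0 13 = 8 from rfl]; push_cast; linear_combination h2
  · rw [(tab2 i hi).1.resolve_left c, Int.cast_zero, mul_zero]
    exact not_not.1 fun c2 => c (h.three hi c2)

theorem Cf.step (h : Cf f) {z : ℂ} {F : ℕ → ℤ} (e : ∀ i < 25, f (xm i) = z * F i) (hi : i < 25) :
    Cas f (xm i) = z * (∑ t ∈ range 36, F (tE6.jj i t) : ℤ) := by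
  rw [h.cas_xm hi, sum_congr rfl fun t ht => e _ (h.ent hi (mem_range.1 ht)).1, ← mul_sum, Int.cast_sum]

theorem Hy.form1 (h : Hy f) (hi : i < 25) : Cas f (xm i) = -f (xm 8) * f1 i := (tab1 i hi).1 ▸ h.cj.step (fun _ => h.form) hi

theorem Hy.form2 (h : Hy f) (hi : i < 25) : Cas (Cas f) (xm i) = -f (xm 8) * f2 i :=
  (tab1 i hi).2.1 ▸ h.cj.cas.step (fun _ => h.form1) hi

/-- the eigenvalues -/
theorem Hy.cas3 (h : Hy f) (hA : A ∈ Wc C6) : Cas (Cas (Cas f)) A = 144 * Cas f A := by
  obtain ⟨i, hi, g, hg, e⟩ := cls hA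
  rw [← h.cj.cas.cas.cas.conj hg hA e, ← h.cj.cas.conj hg hA e, h.cj.cas.cas.step (fun _ => h.form2) hi, (tab1 i hi).2.2, h.form1 hi]
  push_cast
  ring

/-- the values on `W(D₄)` -/
theorem Hy.top (h : Hy f) (hu : u ∈ WW P4) : Cas f u = 0 ∧ Cas (Cas f) u = 48 * f u := by
  obtain ⟨i, hi, g, hg, e⟩ := cls (sub4 hu)
  obtain ⟨v, hv, e1, e2⟩ := rs6.inv g hg
  have k : i < 14 := by
    have := meet hi hv hu (by rw [← mul_one (v * xm i), ← e2, ← mul_assoc, mul_assoc v, e, ← mul_assoc, e1, one_mul])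
    simp only [List.mem_cons, List.not_mem_nil, or_false] at this
    omega
  rw [← h.cj.cas.cas.conj hg (sub4 hu) e, ← h.cj.cas.conj hg (sub4 hu) e, ← h.cj.conj hg (sub4 hu) e, h.form hi, h.form1 hi,
    h.form2 hi, ((tab2 i hi).2 k).1, ((tab2 i hi).2 k).2]
  push_cast
  exact ⟨mul_zero _, by ring⟩

theorem det_xm (hi : i < 25) (y : ℤ) : (y • xm i - 1).det = ∑ j ∈ range 7, (cpL i).getD j 0 * y ^ j := by
  have k : det (n := Fin 6) (y • tE6.AA (cT 2 6) 1 i - 1) = (-1) ^ 6 * ∑ j ∈ range 7, (cpL i).getD j 0 * y ^ j :=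
    Cp.det_eq ok (aL_iff.1 cp_ok i hi) y
  rw [← aa_eq hi]
  exact k.trans (by ring)

theorem det_rf {a : Vec (Fin 6) × Vec (Fin 6)} (ha : a ∈ Rc C6) : (rfm a).det = -1 := by
  rw [rfm, sub_eq_add_neg, ← neg_vecMulVec, vecMulVec_eq Unit, det_one_add_replicateCol_mul_replicateRow, dotProduct_neg, rs6.two a ha]
  rfl

theorem det_wd (w : ℕ) (h : ∀ s < Nat.mod w 128, fd 3 (Nat.shiftRight w 7) s < 6) :
    det (n := Fin 6) (tE6.wd (cT 2 6) w) = (-1) ^ Nat.mod w 128 := by
  rw [Tb.wd]
  generalize Nat.mod w 128 = m at h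
  induction m with
  | zero => exact det_one
  | succ s ih =>
    refine (det_mul (n := Fin 6) _ _).trans ?_
    rw [pow_succ', ← ih fun s' c => h s' (c.trans s.lt_succ_self), dif_pos (show _ < tE6.n from h s s.lt_succ_self)]
    exact congrArg (· * _) (det_rf (rs6.mem _))

/-- the support is even -/
theorem Hy.det (h : Hy f) (hA : A ∈ Wc C6) (h0 : f A ≠ 0) : A.det = 1 := by
  obtain ⟨i, hi, g, hg, e⟩ := cls hA
  have c := h.three hi (h.cj.conj hg hA e ▸ h0)
  have k : ∀ i ∈ [8, 9, 13], (∀ s < Nat.mod (fd 400 tE6.cw i) 128, fd 3 (Nat.shiftRight (fd 400 tE6.cw i) 7) s < 6) ∧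
      (-1 : ℤ) ^ Nat.mod (fd 400 tE6.cw i) 128 = 1 := by decide +kernel
  rw [← det_conj hg e, xm_wd hi]
  exact (det_wd _ (k i c).1).trans (k i c).2

end Cfsg.Agent.BZ.RT.Co.E6x
end

private theorem dce_0151c910b166 : _root_.True := by
  try have : _root_.True := by simp only [_root_.Cfsg.Agent.BZ.TA.cT.eq_1]
  try have : _root_.True := by simp only [_root_.Cfsg.Agent.BZ.RT.Co.E6x.iv.eq_1]
  try have : _root_.True := by simp only [_root_.Cfsg.Agent.BZ.RT.Co.E6x.xm.eq_1]
  try have : _root_.True := by simp only [_root_.Cfsg.Agent.BZ.RT.Co.E6x.P4.eq_1]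
  try have : _root_.True := by simp only [_root_.Cfsg.Agent.OM.Cu.Eng.Tb.wd.eq_1]
  try have : _root_.True := by simp only [_root_.Cfsg.Agent.BZ.RT.Co.E6x.cnt.eq_1]
  exact _root_.True.intro
end

-- part: BZ/RT/Co/E6xc
section
prune_inst 0x630007d042ce2000000180012a2003a227000059200688000f0a20b460246f160a842a8004ea00d1210660e100804000002100040402000000a0000000006050108281006c58902088a0000003084400000000000000000000000000000041000200000000
set_option linter.all false
open scoped Cfsg.Agent.FastGrp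

/-!
# BZ / RT : the pair `(E₆, D₄)`, the generic degrees (helper95)

`Hy.sum0`, `Hy.sum1`, `Hy.sum2` : the sums of `f`, `Cas f`, `Cas (Cas f)` against `1 / det (x A - 1)`.
-/

set_option autoImplicit false
set_option maxRecDepth 100000

namespace Cfsg.Agent.BZ.RT.Co.E6x

open Cfsg Matrix Cfsg.Agent.HZ.L Cfsg.Agent.BZ.TA Cfsg.Agent.BZ.TA.Cl Cfsg.Agent.OM.Cu Cfsg.Agent.OM.Cu.Eng Finset

theorem finW : (Wc C6 : Set (Mat (Fin 6))).Finite :=
  (Set.Finite.pi' fun _ : Fin 6 => Set.Finite.pi' fun _ : Fin 6 => Set.finite_Icc (-15 : ℤ) 15).subset fun w hw i j =>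
    abs_le.1 (ok.bs.bound ok.rs (rs6.nm w hw) i j)

/-- the Weyl group as a finite set -/
noncomputable def SW : Finset (Mat (Fin 6)) := finW.toFinset

variable {f φ : Mat (Fin 6) → ℂ} {A : Mat (Fin 6)}

theorem mem_SW : A ∈ SW ↔ A ∈ Wc C6 := finW.mem_toFinset

theorem sum_SW (φ : Mat (Fin 6) → ℂ) : ∑ᶠ A ∈ Wc C6, φ A = ∑ A ∈ SW, φ A := finsum_mem_eq_finite_toFinset_sum φ finW

theorem adj (f φ : Mat (Fin 6) → ℂ) : ∑ A ∈ SW, Cas f A * φ A = ∑ A ∈ SW, f A * Cas φ A := by
  simp only [cas_eq, sum_mul, mul_sum]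
  rw [sum_comm, sum_comm (s := SW)]
  refine sum_congr rfl fun t ht => ?_
  have h := rr_mem (mem_range.1 ht)
  have k : ∀ A, rfm (rr t) * (rfm (rr t) * A) = A := fun A => by rw [← mul_assoc, rfm_sq (rs6.two _ h), one_mul]
  exact sum_nbij' (rfm (rr t) * ·) (rfm (rr t) * ·) (fun _ c => mem_SW.2 (mul_mem (rf_mem h) (mem_SW.1 c)))
    (fun _ c => mem_SW.2 (mul_mem (rf_mem h) (mem_SW.1 c))) (fun A _ => k A) (fun A _ => k A) fun A _ => by rw [k]

/-- the indicator of a class -/
noncomputable def ind (i : ℕ) (A : Mat (Fin 6)) : ℂ := if iv A = li i then 1 else 0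

/-- the size of a class -/
noncomputable def nn (i : ℕ) : ℂ := ∑ A ∈ SW, ind i A

theorem ind_cf (i : ℕ) : Cf (ind i) := fun u hu A _ => by rw [ind, ind, iv_conj (X := u * A) (A := A * u) hu (mul_assoc _ _ _)]

theorem ind_xm {i j : ℕ} (hi : i < 25) (hj : j < 25) : ind i (xm j) = if j = i then 1 else 0 := by
  rw [ind, iv_xm j hj]
  exact if_congr ⟨li_inj j hj i hi, congrArg li⟩ rfl rfl

theorem Cf.mul (hf : Cf f) (hφ : Cf φ) : Cf fun A => f A * φ A := fun u hu A hA => congrArg₂ (· * ·) (hf u hu A hA) (hφ u hu A hA)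

theorem Cf.sum (h : Cf φ) : ∑ A ∈ SW, φ A = ∑ i ∈ range 25, nn i * φ (xm i) := by
  simp only [nn, sum_mul]
  rw [sum_comm]
  refine sum_congr rfl fun A hA => ?_
  obtain ⟨i, hi, g, hg, e⟩ := cls (mem_SW.1 hA)
  rw [← h.conj hg (mem_SW.1 hA) e, sum_eq_single_of_mem i (mem_range.2 hi) fun j hj c => ?_, ← (ind_cf i).conj hg (mem_SW.1 hA) e,
    ind_xm hi hi, if_pos rfl, one_mul]
  rw [← (ind_cf j).conj hg (mem_SW.1 hA) e, ind_xm (mem_range.1 hj) hi, if_neg c.symm, zero_mul]

theorem bal {i j : ℕ} (hi : i < 25) (hj : j < 25) : nn i * mm i j = nn j * mm j i := by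
  have k : ∀ {i j : ℕ}, i < 25 → j < 25 → ∑ A ∈ SW, ind i A * Cas (ind j) A = nn i * mm i j := fun {i j} hi hj => by
    rw [((ind_cf i).mul (ind_cf j).cas).sum, sum_eq_single_of_mem i (mem_range.2 hi) fun a ha c => by
      rw [ind_xm hi (mem_range.1 ha), if_neg c, zero_mul, mul_zero], ind_xm hi hi, if_pos rfl, one_mul, (ind_cf j).cas_xm hi, mm,
      card_filter, Nat.cast_sum, sum_congr rfl fun t ht => ind_xm hj ((ind_cf j).ent hi (mem_range.1 ht)).1]
    simp only [Nat.cast_ite, Nat.cast_one, Nat.cast_zero]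
  rw [← k hi hj, ← k hj hi, ← adj]
  exact sum_congr rfl fun _ _ => mul_comm _ _

theorem sizes : nn 8 = 32 * nn 13 ∧ nn 9 = 12 * nn 13 ∧ nn 15 = 144 * nn 13 ∧ nn 16 = 96 * nn 13 ∧ nn 18 = 12 * nn 13 ∧
    nn 20 = 96 * nn 13 ∧ nn 22 = 16 * nn 13 ∧ nn 23 = 32 * nn 13 := by
  have e := tab4
  simp only [List.map_cons, List.map_nil, List.cons.injEq, Prod.mk.injEq, and_true] at e
  have h1 := bal (i := 13) (j := 18) (by decide) (by decide)
  have h2 := bal (i := 13) (j := 6) (by decide) (by decide)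
  have h3 := bal (i := 6) (j := 8) (by decide) (by decide)
  have h4 := bal (i := 8) (j := 15) (by decide) (by decide)
  have h5 := bal (i := 8) (j := 16) (by decide) (by decide)
  have h6 := bal (i := 16) (j := 9) (by decide) (by decide)
  have h7 := bal (i := 15) (j := 20) (by decide) (by decide)
  have h8 := bal (i := 16) (j := 22) (by decide) (by decide)
  have h9 := bal (i := 18) (j := 23) (by decide) (by decide)
  simp only [e, Nat.cast_ofNat, Nat.cast_one] at h1 h2 h3 h4 h5 h6 h7 h8 h9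
  have a18 : nn 18 = 12 * nn 13 := by linear_combination -h1 / 2
  have a8 : nn 8 = 32 * nn 13 := by linear_combination -h3 / 3 - 8 / 3 * h2
  have a15 : nn 15 = 144 * nn 13 := by linear_combination -h4 / 4 + 9 / 2 * a8
  have a16 : nn 16 = 96 * nn 13 := by linear_combination -h5 / 2 + 3 * a8
  exact ⟨a8, by linear_combination -h6 / 24 + a16 / 8, a15, a16, a18, by linear_combination -h7 / 12 + 2 / 3 * a15,
    by linear_combination -h8 / 24 + a16 / 6, by linear_combination -h9 / 6 + 8 / 3 * a18⟩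

theorem nn_ne : nn 13 ≠ 0 := by
  simp only [nn, ind, sum_boole]
  exact Nat.cast_ne_zero.2 (card_pos.2 ⟨_, mem_filter.2 ⟨mem_SW.2 (xm_mem (by decide)), iv_xm 13 (by decide)⟩⟩).ne'

theorem Cf.sum_det (h : Cf f) {z : ℂ} {F : ℕ → ℤ} (e : ∀ i < 25, f (xm i) = z * F i) (y : ℤ) :
    ∑ᶠ A ∈ Wc C6, f A * (((y • A - 1).det : ℤ) : ℂ)⁻¹ =
      z * ∑ i ∈ range 25, nn i * F i * ((∑ j ∈ range 7, (cpL i).getD j 0 * y ^ j : ℤ) : ℂ)⁻¹ := by
  rw [sum_SW, (h.mul (φ := fun A => (((y • A - 1).det : ℤ) : ℂ)⁻¹) fun u hu A _ =>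
    congrArg (fun v : ℤ => (v : ℂ)⁻¹) (det_conj (X := y • (u * A) - 1) (A := y • (A * u) - 1) hu
      (by rw [sub_mul, mul_sub, smul_mul_assoc, mul_smul_comm, mul_assoc, one_mul, mul_one]))).sum, mul_sum]
  refine sum_congr rfl fun i hi => ?_
  rw [e i (mem_range.1 hi), det_xm (mem_range.1 hi)]
  ring

theorem cp_eq (y : ℤ) : ∑ j ∈ range 7, (cpL 8).getD j 0 * y ^ j = (y - 1) ^ 2 * (y + 1) ^ 2 * (y ^ 2 - y + 1) ∧
    ∑ j ∈ range 7, (cpL 9).getD j 0 * y ^ j = (y - 1) ^ 2 * (y ^ 2 + 1) ^ 2 ∧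
    ∑ j ∈ range 7, (cpL 13).getD j 0 * y ^ j = (y - 1) ^ 2 * (y + 1) ^ 4 ∧
    ∑ j ∈ range 7, (cpL 15).getD j 0 * y ^ j = -((y - 1) * (y + 1) * (y ^ 4 + 1)) ∧
    ∑ j ∈ range 7, (cpL 16).getD j 0 * y ^ j = -((y - 1) * (y + 1) * (y ^ 2 + 1) * (y ^ 2 - y + 1)) ∧
    ∑ j ∈ range 7, (cpL 18).getD j 0 * y ^ j = -((y - 1) * (y + 1) ^ 3 * (y ^ 2 + 1)) ∧
    ∑ j ∈ range 7, (cpL 20).getD j 0 * y ^ j = (y ^ 2 + y + 1) * (y ^ 4 - y ^ 2 + 1) ∧
    ∑ j ∈ range 7, (cpL 22).getD j 0 * y ^ j = (y ^ 2 + y + 1) * (y ^ 2 - y + 1) ^ 2 ∧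
    ∑ j ∈ range 7, (cpL 23).getD j 0 * y ^ j = (y ^ 2 + y + 1) * (y ^ 2 - y + 1) * (y + 1) ^ 2 := by
  simp only [cpL, sum_range_succ, sum_range_zero, List.getD_cons_zero, List.getD_cons_succ]
  refine ⟨?_, ?_, ?_, ?_, ?_, ?_, ?_, ?_, ?_⟩ <;> ring

theorem ne_all {y : ℤ} (hy : 1 < |y|) : (y : ℂ) ≠ 0 ∧ (y : ℂ) - 1 ≠ 0 ∧ (y : ℂ) + 1 ≠ 0 ∧ (y : ℂ) ^ 2 + y + 1 ≠ 0 ∧ (y : ℂ) ^ 2 + 1 ≠ 0 ∧
    (y : ℂ) ^ 2 - y + 1 ≠ 0 ∧ (y : ℂ) ^ 4 + 1 ≠ 0 ∧ (y : ℂ) ^ 4 - y ^ 2 + 1 ≠ 0 ∧ (y : ℂ) ^ 8 - y ^ 4 + 1 ≠ 0 := by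
  have k : y ≠ 0 ∧ y - 1 ≠ 0 ∧ y + 1 ≠ 0 := by rcases lt_abs.1 hy with h | h <;> omega
  have a3 : 0 < y ^ 2 + y + 1 := by nlinarith [sq_nonneg (2 * y + 1)]
  have a4 : 0 < y ^ 2 + 1 := by positivity
  have a6 : 0 < y ^ 2 - y + 1 := by nlinarith [sq_nonneg (2 * y - 1)]
  have a8 : 0 < y ^ 4 + 1 := by positivity
  have a12 : 0 < y ^ 4 - y ^ 2 + 1 := by nlinarith [sq_nonneg (2 * y ^ 2 - 1)]
  have a24 : 0 < y ^ 8 - y ^ 4 + 1 := by nlinarith [sq_nonneg (2 * y ^ 4 - 1)]
  exact ⟨by exact_mod_cast k.1, by exact_mod_cast k.2.1, by exact_mod_cast k.2.2, by exact_mod_cast a3.ne', by exact_mod_cast a4.ne',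
    by exact_mod_cast a6.ne', by exact_mod_cast a8.ne', by exact_mod_cast a12.ne', by exact_mod_cast a24.ne'⟩

/-- the constant -/
noncomputable def mc (f : Mat (Fin 6) → ℂ) : ℂ := -f (xm 8) * nn 13

theorem Hy.mc_ne (h : Hy f) (h0 : ∃ A ∈ Wc C6, f A ≠ 0) : mc f ≠ 0 := by
  obtain ⟨A, hA, h0⟩ := h0
  obtain ⟨i, hi, g, hg, e⟩ := cls hA
  rw [← h.cj.conj hg hA e, h.form hi] at h0
  exact mul_ne_zero (left_ne_zero_of_mul h0) nn_ne

theorem low {F : List ℤ} {g : ℕ → ℂ} : ∑ i ∈ range 7, nn i * (((0 :: 0 :: 0 :: 0 :: 0 :: 0 :: 0 :: F).getD i 0 : ℤ) : ℂ) * g i = 0 := by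
  simp only [sum_range_succ, sum_range_zero, List.getD_cons_zero, List.getD_cons_succ, Int.cast_zero, mul_zero, zero_mul, add_zero]

theorem Hy.sum1 (h : Hy f) {y : ℤ} (hy : 1 < |y|) : ∑ᶠ A ∈ Wc C6, Cas f A * (((y • A - 1).det : ℤ) : ℂ)⁻¹ =
    1152 * mc f * y ^ 3 / ((y - 1) * (y + 1) ^ 3 * (y ^ 2 + 1) * (y ^ 2 - y + 1) * (y ^ 4 + 1)) := by
  obtain ⟨s8, s9, s15, s16, s18, s20, s22, s23⟩ := sizes
  obtain ⟨c8, c9, c13, c15, c16, c18, c20, c22, c23⟩ := cp_eq y
  obtain ⟨-, a1, a2, a3, a4, a6, a8, a12, -⟩ := ne_all hy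
  have e2 : 576 * ((y : ℂ) + 1) ^ 2 * (y ^ 2 + 1) * (y ^ 2 - y + 1) - 384 * (y + 1) ^ 2 * (y ^ 4 + 1) - 192 * (y ^ 2 - y + 1) * (y ^ 4 + 1) =
      1152 * y ^ 3 := by ring
  rw [h.cj.cas.sum_det (fun _ => h.form1), mc]
  simp only [sum_range_succ (n := 24), sum_range_succ (n := 23), sum_range_succ (n := 22), sum_range_succ (n := 21), sum_range_succ (n := 20),
    sum_range_succ (n := 19), sum_range_succ (n := 18), sum_range_succ (n := 17), sum_range_succ (n := 16), sum_range_succ (n := 15),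
    sum_range_succ (n := 14), sum_range_succ (n := 13), sum_range_succ (n := 12), sum_range_succ (n := 11), sum_range_succ (n := 10),
    sum_range_succ (n := 9), sum_range_succ (n := 8), sum_range_succ (n := 7), f1, List.getD_cons_zero, List.getD_cons_succ, Int.cast_zero,
    mul_zero, zero_mul, add_zero, zero_add, c8, c9, c13, c15, c16, c18, c20, c22, c23, s8, s9, s15, s16, s18, s20, s22, s23, low]
  clear s8 s9 s15 s16 s18 s20 s22 s23 c8 c9 c13 c15 c16 c18 c20 c22 c23
  push_cast
  generalize (y : ℂ) ^ 2 + y + 1 = b3 at *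
  generalize (y : ℂ) ^ 2 - y + 1 = b6 at *
  generalize (y : ℂ) ^ 4 - y ^ 2 + 1 = b12 at *
  generalize (y : ℂ) ^ 2 + 1 = b4 at *
  generalize (y : ℂ) ^ 4 + 1 = b8 at *
  generalize (y : ℂ) - 1 = b1 at *
  generalize (y : ℂ) + 1 = b2 at *
  field_simp
  linear_combination (-f (xm 8) * nn 13) * e2

theorem Hy.sum2 (h : Hy f) {y : ℤ} (hy : 1 < |y|) : ∑ᶠ A ∈ Wc C6, Cas (Cas f) A * (((y • A - 1).det : ℤ) : ℂ)⁻¹ =
    -13824 * mc f * (y ^ 3 * (y ^ 8 - y ^ 4 + 1)) /
      ((y - 1) ^ 2 * (y + 1) ^ 4 * (y ^ 2 + y + 1) * (y ^ 2 + 1) ^ 2 * (y ^ 2 - y + 1) ^ 2 * (y ^ 4 - y ^ 2 + 1)) := by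
  obtain ⟨s8, s9, s15, s16, s18, s20, s22, s23⟩ := sizes
  obtain ⟨c8, c9, c13, c15, c16, c18, c20, c22, c23⟩ := cp_eq y
  obtain ⟨-, a1, a2, a3, a4, a6, a8, a12, -⟩ := ne_all hy
  have e2 : -1536 * ((y : ℂ) + 1) ^ 2 * (y ^ 2 + y + 1) * (y ^ 2 + 1) ^ 2 * (y ^ 2 - y + 1) * (y ^ 4 - y ^ 2 + 1) +
      1152 * (y + 1) ^ 4 * (y ^ 2 + y + 1) * (y ^ 2 - y + 1) ^ 2 * (y ^ 4 - y ^ 2 + 1) +
      384 * (y ^ 2 + y + 1) * (y ^ 2 + 1) ^ 2 * (y ^ 2 - y + 1) ^ 2 * (y ^ 4 - y ^ 2 + 1) -
      4608 * (y - 1) ^ 2 * (y + 1) ^ 4 * (y ^ 2 + 1) ^ 2 * (y ^ 2 - y + 1) ^ 2 +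
      1536 * (y - 1) ^ 2 * (y + 1) ^ 4 * (y ^ 2 + 1) ^ 2 * (y ^ 4 - y ^ 2 + 1) +
      3072 * (y - 1) ^ 2 * (y + 1) ^ 2 * (y ^ 2 + 1) ^ 2 * (y ^ 2 - y + 1) * (y ^ 4 - y ^ 2 + 1) =
      -13824 * (y ^ 3 * (y ^ 8 - y ^ 4 + 1)) := by ring
  rw [h.cj.cas.cas.sum_det (fun _ => h.form2), mc]
  simp only [sum_range_succ (n := 24), sum_range_succ (n := 23), sum_range_succ (n := 22), sum_range_succ (n := 21), sum_range_succ (n := 20),
    sum_range_succ (n := 19), sum_range_succ (n := 18), sum_range_succ (n := 17), sum_range_succ (n := 16), sum_range_succ (n := 15),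
    sum_range_succ (n := 14), sum_range_succ (n := 13), sum_range_succ (n := 12), sum_range_succ (n := 11), sum_range_succ (n := 10),
    sum_range_succ (n := 9), sum_range_succ (n := 8), sum_range_succ (n := 7), f2, List.getD_cons_zero, List.getD_cons_succ, Int.cast_zero,
    mul_zero, zero_mul, add_zero, zero_add, c8, c9, c13, c15, c16, c18, c20, c22, c23, s8, s9, s15, s16, s18, s20, s22, s23, low]
  clear s8 s9 s15 s16 s18 s20 s22 s23 c8 c9 c13 c15 c16 c18 c20 c22 c23
  push_cast
  generalize (y : ℂ) ^ 2 + y + 1 = b3 at *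
  generalize (y : ℂ) ^ 2 - y + 1 = b6 at *
  generalize (y : ℂ) ^ 4 - y ^ 2 + 1 = b12 at *
  generalize (y : ℂ) ^ 2 + 1 = b4 at *
  generalize (y : ℂ) ^ 4 + 1 = b8 at *
  generalize (y : ℂ) - 1 = b1 at *
  generalize (y : ℂ) + 1 = b2 at *
  field_simp
  linear_combination (-f (xm 8) * nn 13) * e2

/-- the odd and the even part have non zero sums -/
theorem Hy.ne (h : Hy f) (h0 : ∃ A ∈ Wc C6, f A ≠ 0) (y : ℤ) (hy : 1 < |y|) :
    ∑ᶠ A ∈ Wc C6, Cas f A * (((y • A - 1).det : ℤ) : ℂ)⁻¹ ≠ 0 ∧ ∑ᶠ A ∈ Wc C6, Cas (Cas f) A * (((y • A - 1).det : ℤ) : ℂ)⁻¹ ≠ 0 := by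
  obtain ⟨a0, a1, a2, a3, a4, a6, a8, a12, a24⟩ := ne_all hy
  have m := h.mc_ne h0
  rw [h.sum1 hy, h.sum2 hy]
  simp [*]

end Cfsg.Agent.BZ.RT.Co.E6x

private theorem dce_7610fcde39d4 : _root_.True := by
  try have : _root_.True := by simp only [_root_.Cfsg.Agent.BZ.RT.Co.E6x.ind.eq_1]
  try have : _root_.True := by simp only [_root_.Cfsg.Agent.BZ.RT.Co.E6x.mc.eq_1]
  try have : _root_.True := by simp only [_root_.Cfsg.Agent.BZ.RT.Co.E6x.cpL.eq_1]
  try have : _root_.True := by simp only [_root_.Cfsg.Agent.BZ.RT.Co.E6x.f1.eq_1]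
  try have : _root_.True := by simp only [_root_.Cfsg.Agent.BZ.RT.Co.E6x.mm.eq_1]
  try have : _root_.True := by simp only [_root_.Cfsg.Agent.BZ.RT.Co.E6x.f0.eq_1]
  try have : _root_.True := by simp only [_root_.Cfsg.Agent.BZ.RT.Co.E6x.f2.eq_1]
  try have : _root_.True := by simp only [_root_.Cfsg.Agent.BZ.RT.Co.E6x.nn.eq_1]
  exact _root_.True.intro
end

-- part: BZ/RT/Cc/Pure
section
prune_inst 0x63420750408e202000018001242003c469200049000288000c8a20e4406806f20a843a02184000110800002440030000813100060420000000a0000000118008088081004c1890008000000000000400000000000000000000000000000000000000000000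
set_option linter.all false
open scoped Cfsg.Agent.FastGrp

/-!
# BZ / RT / Cc : signed permutations, eigenvectors (helper27)

* `IsV`, `Ei` : eigenvectors, the coordinates which they meet; `ei_iff`, `ei_mod`;
* `kill` : a cuspidal eigenfunction has no reflection on these coordinates;
* `twist`, `core` : an eigenvector modulo `l` with a given support which is fixed by an `l`-group.
-/

set_option autoImplicit false
set_option linter.unusedSectionVars false

namespace Cfsg.Agent.BZ.RT.Cc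

open Equiv Cfsg.Agent.LV.Cl Cfsg.Agent.LV.Cl.Ey

variable {n : ℕ} {F : Type} [Field F] {g h t : SG n} {μ ν : F} {y : Fin n → F} {i j a b : Fin n}

/-- eigenvectors -/
def IsV (g : SG n) (μ : F) (y : Fin n → F) : Prop := ∀ j, ((g.s j : ℤ) : F) * y j = μ * y (g.π j)

/-- the coordinates which are met by an eigenvector -/
def Ei (g : SG n) (μ : F) (j : Fin n) : Prop := ∃ y, IsV g μ y ∧ y j ≠ 0

theorem us (s : ℤˣ) : ((s : ℤ) : F) ≠ 0 := fun e => by
  have := congrArg (fun u : ℤˣ => ((u : ℤ) : F)) (Int.units_mul_self s)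
  simp only [Units.val_mul, Int.cast_mul, e, zero_mul, Units.val_one, Int.cast_one] at this
  exact zero_ne_one this

theorem pow_π (g : SG n) (m : ℕ) : (g ^ m).π = g.π ^ m := by
  induction m with
  | zero => rfl
  | succ m ih => rw [pow_succ, pow_succ, mul_π, ih]

theorem IsV.mul (h1 : IsV g μ y) (h2 : IsV h ν y) : IsV (g * h) (μ * ν) y := fun j => by
  rw [mul_s, mul_π, Perm.mul_apply, Units.val_mul, Int.cast_mul, mul_assoc, h2, mul_left_comm, h1]
  ring

theorem IsV.pow (h1 : IsV g μ y) (m : ℕ) : IsV (g ^ m) (μ ^ m) y := by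
  induction m with
  | zero => exact fun j => by simp
  | succ m ih => rw [pow_succ, pow_succ]; exact ih.mul h1

theorem IsV.ne (h1 : IsV g μ y) (hμ : μ ≠ 0) : y (g.π j) ≠ 0 ↔ y j ≠ 0 :=
  ⟨fun h2 e => mul_ne_zero hμ h2 (by rw [← h1, e, mul_zero]), fun h2 e => mul_ne_zero (us _) h2 (by rw [h1, e, mul_zero])⟩

theorem IsV.res (h1 : IsV g μ y) {C : Set (Fin n)} (hC : ∀ j, g.π j ∈ C ↔ j ∈ C) : IsV g μ (C.indicator y) := fun j => by
  by_cases e : j ∈ C
  · rw [Set.indicator_of_mem e, Set.indicator_of_mem ((hC j).2 e), h1]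
  · rw [Set.indicator_of_notMem e, Set.indicator_of_notMem (mt (hC j).1 e), mul_zero, mul_zero]

theorem IsV.add {z : Fin n → F} (h1 : IsV g μ y) (h2 : IsV g μ z) : IsV g μ (y + z) := fun j => by
  rw [Pi.add_apply, Pi.add_apply, mul_add, mul_add, h1, h2]

theorem isV_sw {s : ℤˣ} : IsV (sw a b s) (1 : F) y ↔ ((s : ℤ) : F) * y a = y b := by
  refine ⟨fun h => by simpa [sw_s, sw_π] using h a, fun h j => ?_⟩
  rw [sw_s, sw_π, one_mul]
  by_cases h1 : j = a
  · rw [h1, if_pos (.inl rfl), swap_apply_left, h]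
  by_cases h2 : j = b
  · rw [h2, if_pos (.inr rfl), swap_apply_right, ← h, ← mul_assoc, ← Int.cast_mul, ← Units.val_mul, Int.units_mul_self]
    simp
  · rw [if_neg (by tauto), swap_apply_of_ne_of_ne h1 h2]
    simp

theorem isV_tt (h : y a = 0) : IsV (tt a) (1 : F) y := fun j => by
  rw [tt_s, tt_π, Perm.one_apply]
  split_ifs with e
  · rw [e, h, mul_zero, mul_zero]
  · simp

theorem inv_of {π : Perm (Fin n)} {C : Set (Fin n)} (h : ∀ j ∈ C, π j ∈ C) (j : Fin n) : π j ∈ C ↔ j ∈ C :=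
  ⟨fun e => by
    have k : ∀ m, (π ^ m) (π j) ∈ C := fun m => by
      induction m with
      | zero => exact e
      | succ m ih => rw [pow_succ', Perm.mul_apply]; exact h _ ih
    have := k (orderOf π - 1)
    rwa [← Perm.mul_apply, ← pow_succ, Nat.sub_add_cancel (orderOf_pos π), pow_orderOf_eq_one] at this, h j⟩

/-- the eigenvector of a cycle -/
theorem exists_V (hμ : μ ≠ 0) {k : ℕ} (k0 : 0 < k) (h1 : (g.π ^ k) j = j) (h2 : ∀ m, 0 < m → m < k → (g.π ^ m) j ≠ j)
    (h3 : μ ^ k = (((g ^ k).s j : ℤ) : F)) : Ei g μ j := by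
  classical
  let z : ℕ → Fin n → F := fun m => Pi.single ((g.π ^ m) j) ((((g ^ m).s j : ℤ) : F) * μ ^ (k - m))
  have h4 : ∀ m, m < k → ∀ i, ((g.s i : ℤ) : F) * z m i = μ * z (m + 1) (g.π i) := fun m hm i => by
    simp only [z, Pi.single_apply, pow_succ' g.π, Perm.mul_apply, EmbeddingLike.apply_eq_iff_eq]
    split_ifs with e
    · rw [pow_succ' g, mul_s, pow_π, ← e, show k - m = k - (m + 1) + 1 by omega, pow_succ μ]
      push_cast
      ring
    · rw [mul_zero, mul_zero]
  have h5 : z k = z 0 := by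
    simp only [z, h1, Nat.sub_self, pow_zero, mul_one, Perm.one_apply, one_s, Nat.sub_zero, h3, Units.val_one, Int.cast_one, one_mul]
  refine ⟨∑ m ∈ Finset.range k, z m, fun i => ?_, ?_⟩
  · rw [Finset.sum_apply, Finset.sum_apply, Finset.mul_sum, Finset.sum_congr rfl fun m hm => h4 m (Finset.mem_range.1 hm) i,
      ← Finset.mul_sum]
    congr 1
    have := Finset.sum_range_succ' (fun m => z m (g.π i)) k
    rw [Finset.sum_range_succ, h5] at this
    exact (add_right_cancel this).symm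
  · rw [Finset.sum_apply, Finset.sum_eq_single_of_mem 0 (Finset.mem_range.2 k0) fun m hm e =>
      Pi.single_eq_of_ne (h2 m (Nat.pos_of_ne_zero e) (Finset.mem_range.1 hm)).symm _]
    exact (Pi.single_eq_same (M := fun _ => F) j _).trans_ne (mul_ne_zero (us _) (pow_ne_zero _ hμ))

theorem exists_per (π : Perm (Fin n)) (j : Fin n) : ∃ k, 0 < k ∧ (π ^ k) j = j ∧ ∀ m, 0 < m → m < k → (π ^ m) j ≠ j := by
  classical
  have h : ∃ k, 0 < k ∧ (π ^ k) j = j := ⟨_, orderOf_pos π, by rw [pow_orderOf_eq_one, Perm.one_apply]⟩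
  exact ⟨_, (Nat.find_spec h).1, (Nat.find_spec h).2, fun m h1 h2 e => Nat.find_min h h2 ⟨h1, e⟩⟩

theorem Ei.per (h : Ei g μ j) {k : ℕ} (h1 : (g.π ^ k) j = j) : μ ^ k = (((g ^ k).s j : ℤ) : F) := by
  obtain ⟨y, h2, h3⟩ := h
  have := h2.pow k j
  rw [pow_π, h1] at this
  exact (mul_right_cancel₀ h3 this).symm

theorem pow_iff {F' : Type} [Field F'] {ν : F'} (h2 : (2 : F) ≠ 0) (h : ∀ k : ℕ, μ ^ k = 1 ↔ ν ^ k = 1) {k : ℕ} {s : ℤˣ}
    (e : μ ^ k = ((s : ℤ) : F)) : ν ^ k = ((s : ℤ) : F') := by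
  rcases Int.units_eq_one_or s with rfl | rfl
  · simpa using (h k).1 (by simpa using e)
  · have h1 : μ ^ k = -1 := by simpa using e
    have h3 := (h (k * 2)).1 (by rw [pow_mul, h1, neg_one_sq])
    rw [pow_mul, sq_eq_one_iff] at h3
    refine h3.elim (fun h4 => (h2 ?_).elim) fun h4 => by simpa using h4
    linear_combination h1 - (h k).2 h4

/-- eigenvalues of the same order meet the same coordinates -/
theorem Ei.tr {F' : Type} [Field F'] {ν : F'} (h1 : Ei g μ j) (h2 : (2 : F) ≠ 0) (hν : ν ≠ 0) (h : ∀ k : ℕ, μ ^ k = 1 ↔ ν ^ k = 1) :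
    Ei g ν j :=
  let ⟨_, k0, k1, k2⟩ := exists_per g.π j
  exists_V hν k0 k1 k2 (pow_iff h2 h (h1.per k1))

theorem sw_sq (i l : Fin n) (e : ℤˣ) : sw i l e * sw i l e = 1 := by
  refine SG.ext (swap_mul_self i l) (funext fun x => ?_)
  rw [mul_s, sw_s, sw_s, sw_π, one_s]
  by_cases h1 : x = i
  · rw [h1, swap_apply_left, if_pos (.inr rfl), if_pos (.inl rfl), Int.units_mul_self]
  by_cases h2 : x = l
  · rw [h2, swap_apply_right, if_pos (.inl rfl), if_pos (.inr rfl), Int.units_mul_self]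
  · rw [swap_apply_of_ne_of_ne h1 h2, if_neg (by tauto), mul_one]

/-- the multiplicity function of a cuspidal character; `R` is the set of the reflections of the label -/
structure Cu (R : Finset (SG n)) (ζ : ℂ) (f : SG n → ℂ) : Prop where
  ne : ζ ≠ 0
  mem : ∀ t ∈ R, (∃ i l e, i ≠ l ∧ t = sw i l e) ∨ ∃ i, t = tt i
  cl : ∀ t ∈ R, ∀ u ∈ R, t * u * t⁻¹ ∈ R
  inv : ∀ t ∈ R, ∀ h, f (t * h * t) = f h
  bad : ∀ h y, IsV h ζ y → ∀ t ∈ R, ¬ IsV t 1 y → f h = 0
  cas : ∀ h y, IsV h ζ y → ∀ t ∈ R, ¬ IsV t 1 y → ∑ t ∈ R, f (t * h) = 0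

variable {R : Finset (SG n)} {ζ : ℂ} {f : SG n → ℂ}

theorem Cu.sq (H : Cu R ζ f) (ht : t ∈ R) : t * t = 1 := by
  obtain ⟨i, l, e, -, rfl⟩ | ⟨i, rfl⟩ := H.mem t ht
  exacts [sw_sq i l e, tt_mul_self i]

theorem Cu.orb (H : Cu R ζ f) (hh : h ∈ Subgroup.normalizer (R : Set (SG n))) (ht : t ∈ R) (m : ℕ) :
    f (h ^ m * t * (h ^ m)⁻¹ * h) = f (t * h) := by
  induction m with
  | zero => simp
  | succ m ih =>
    have h1 : h ^ m * t * (h ^ m)⁻¹ ∈ R := (pow_mem hh m t).1 ht
    rw [← ih, ← H.inv _ h1, show h ^ (m + 1) * t * (h ^ (m + 1))⁻¹ * h = h * (h ^ m * t * (h ^ m)⁻¹) by group, mul_assoc,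
      mul_assoc h, H.sq h1, mul_one]

theorem Cu.no_sw (H : Cu R ζ f) (hg : ∀ t ∈ R, g * t * g⁻¹ ∈ R) (h0 : f g ≠ 0) {y : Fin n → ℂ} (hy : IsV g ζ y) {a b : Fin n}
    {e : ℤˣ} (hab : a ≠ b) (hR : sw a b e ∈ R) (ha : y a ≠ 0) : False := by
  classical
  let N := Subgroup.normalizer (R : Set (SG n))
  have gN : g ∈ N := Subgroup.mem_normalizer_fintype hg
  have tN : ∀ t ∈ R, t ∈ N := fun t ht => Subgroup.mem_normalizer_fintype (H.cl t ht)
  have cj : ∀ h ∈ N, ∀ {x z s}, sw x z s ∈ R → sw (h.π x) (h.π z) (s * h.s x * h.s z) ∈ R := fun h hh _ _ _ k =>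
    conj_sw h _ _ _ ▸ (hh _).1 k
  have fx : ∀ {z}, IsV g ζ z → ∀ t ∈ R, IsV t 1 z := fun hz t ht => by_contra fun k => h0 (H.bad g _ hz t ht k)
  let C : Set (Fin n) := {x | ∃ m : ℕ, (g.π ^ m) a = x}
  have hC : ∀ j, g.π j ∈ C ↔ j ∈ C := inv_of fun j ⟨m, k⟩ => ⟨m + 1, by rw [pow_succ', Perm.mul_apply, k]⟩
  have h1 := hy.res hC
  have h2 : ∀ x, C.indicator y x ≠ 0 ↔ x ∈ C := fun x => ⟨fun k => by_contra fun k' => k (Set.indicator_of_notMem k' _), by
    rintro ⟨m, rfl⟩
    rw [← pow_π, (h1.pow m).ne (pow_ne_zero _ H.ne), Set.indicator_of_mem (show a ∈ C from ⟨0, rfl⟩)]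
    exact ha⟩
  generalize C.indicator y = z at h1 h2
  clear hy ha y
  have h3 : ∀ {x w s}, sw x w s ∈ R → x ∈ C → w ∈ C := fun k k' => by
    rw [← h2, ← isV_sw.1 (fx h1 _ k)]
    exact mul_ne_zero (us _) ((h2 _).2 k')
  have h4 : ∀ {x w s s'}, sw x w s ∈ R → sw x w s' ∈ R → x ∈ C → s = s' := fun k k' hx => Units.ext (Int.cast_injective (α := ℂ)
    (mul_right_cancel₀ ((h2 _).2 hx) ((isV_sw.1 (fx h1 _ k)).trans (isV_sw.1 (fx h1 _ k')).symm)))
  let r : ℕ → Prop := fun m => (g.π ^ m) a = a ∨ ∃ s, sw a ((g.π ^ m) a) s ∈ R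
  obtain ⟨k, k0, k1, k2⟩ := exists_per g.π a
  have h5 : ∃ m, 0 < m ∧ r m := ⟨k, k0, .inl k1⟩
  obtain ⟨c, ⟨c0, c1⟩, c2⟩ : ∃ c, (0 < c ∧ r c) ∧ ∀ m, 0 < m → m < c → ¬ r m :=
    ⟨_, Nat.find_spec h5, fun m h6 h7 h8 => Nat.find_min h5 h7 ⟨h6, h8⟩⟩
  have c3 : (g.π ^ c) a ≠ a := fun h6 => by
    obtain ⟨m, hm⟩ := h3 hR ⟨0, rfl⟩
    have h7 : (g.π ^ (m % c)) a = b := by
      rw [← hm]
      conv_rhs => rw [← Nat.mod_add_div m c, pow_add, Perm.mul_apply, pow_mul, Perm.pow_apply_eq_self_of_apply_eq_self h6]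
    refine c2 (m % c) (Nat.pos_of_ne_zero fun h8 => hab ?_) (Nat.mod_lt _ c0) (.inr ⟨e, h7 ▸ hR⟩)
    rwa [h8] at h7
  obtain ⟨s, hs⟩ := c1.resolve_left c3
  clear hR hab e b
  generalize hb : (g.π ^ c) a = b at hs c3
  let C₁ : Set (Fin n) := {x | ∃ m < c, (g.π ^ m) a = x}
  have d1 : ∀ i j, i < j → j ≤ c → ((g.π ^ i) a = (g.π ^ j) a ∨ ∃ s, sw ((g.π ^ i) a) ((g.π ^ j) a) s ∈ R) → i = 0 ∧ j = c :=
    fun i j h6 h7 h8 => by
      have h9 : (g.π ^ i)⁻¹ ((g.π ^ j) a) = (g.π ^ (j - i)) a := by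
        rw [Perm.inv_eq_iff_eq, ← Perm.mul_apply, ← pow_add, Nat.add_sub_cancel' h6.le]
      have h10 : r (j - i) := h8.imp (fun h10 => by rw [← h9, ← h10, inv_ap]) fun ⟨s, h10⟩ => by
        have := cj _ (inv_mem (pow_mem gN i)) h10
        rw [inv_π, pow_π, inv_ap, h9] at this
        exact ⟨_, this⟩
      have := c2 (j - i) (by omega)
      by_contra h11
      exact this (by omega) h10
  have d2 : b ∉ C₁ := fun ⟨m, h6, h7⟩ => c3 (by
    obtain ⟨rfl, -⟩ := d1 m c h6 le_rfl (.inl (h7.trans hb.symm))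
    exact h7.symm)
  let g' := sw a b s * g
  have g1 : g' ∈ N := mul_mem (tN _ hs) gN
  have g2 : ∀ x, g'.π x = swap a b (g.π x) := fun _ => rfl
  have d3 : ∀ x, g'.π x ∈ C₁ ↔ x ∈ C₁ := inv_of (by
    rintro _ ⟨m, h6, rfl⟩
    rw [g2, ← Perm.mul_apply g.π, ← pow_succ']
    rcases (show m + 1 = c ∨ m + 1 < c by omega) with h7 | h7
    · rw [h7, hb, swap_apply_right]
      exact ⟨0, c0, rfl⟩
    · rw [swap_apply_of_ne_of_ne (fun h8 => c2 _ m.succ_pos h7 (.inl h8)) fun h8 => d2 ⟨_, h7, h8⟩]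
      exact ⟨_, h7, rfl⟩)
  have d4 : ∀ x ∈ C, x ∈ C₁ ∨ ∃ m : ℕ, (g'.π ^ m) b = x := by
    rintro _ ⟨m, rfl⟩
    induction m with
    | zero => exact .inl ⟨0, c0, rfl⟩
    | succ m ih =>
      rw [pow_succ', Perm.mul_apply]
      generalize (g.π ^ m) a = x at ih
      by_cases h6 : g.π x = a
      · exact .inl ⟨0, c0, h6.symm⟩
      by_cases h7 : g.π x = b
      · exact .inr ⟨0, h7.symm⟩
      rw [← swap_apply_of_ne_of_ne h6 h7, ← g2]
      exact ih.imp (d3 x).2 fun ⟨m, h8⟩ => ⟨m + 1, by rw [pow_succ', Perm.mul_apply, h8]⟩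
  have a1 : a ∈ C₁ := ⟨0, c0, rfl⟩
  have v1 : IsV g' ζ (C₁.indicator z) := (one_mul ζ ▸ (fx h1 _ hs).mul h1 : IsV g' ζ z).res d3
  have v2 : ¬ IsV (sw a b s) 1 (C₁.indicator z) := fun h6 => by
    have := isV_sw.1 h6
    rw [Set.indicator_of_mem a1, Set.indicator_of_notMem d2] at this
    exact mul_ne_zero (us _) ((h2 a).2 ⟨0, rfl⟩) this
  have v3 : f (sw a b s * g') = f g := by rw [← mul_assoc, sw_sq, one_mul]
  have key : ∀ x w u, sw x w u ∈ R → x ∈ C₁ → w ∉ C₁ → f (sw x w u * g') = f g := fun x w u h6 h7 h8 => by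
    have xC : x ∈ C := let ⟨m, _, e⟩ := h7; ⟨m, e⟩
    obtain ⟨m, rfl⟩ := (d4 w (h3 h6 xC)).resolve_left h8
    have h9 := cj _ (pow_mem g1 m) hs
    rw [pow_π] at h9
    have h10 : (g'.π ^ m) a ∈ C₁ := by
      clear h9 h8 h6
      induction m with
      | zero => exact a1
      | succ m ih => rw [pow_succ', Perm.mul_apply]; exact (d3 _).2 ih
    have h11 : (g'.π ^ m) a = x := by_contra fun h11 => by
      have h12 := cj _ (tN _ h9) h6
      rw [sw_π, swap_apply_right, swap_apply_of_ne_of_ne (Ne.symm h11) fun e : x = (g'.π ^ m) b => h8 (e ▸ h7)] at h12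
      obtain ⟨i, i1, rfl⟩ := h7
      obtain ⟨j, j1, j2⟩ := h10
      rw [← j2] at h12 h11
      rcases lt_trichotomy i j with h13 | rfl | h13
      · exact j1.ne (d1 i j h13 j1.le (.inr ⟨_, h12⟩)).2
      · exact h11 rfl
      · exact i1.ne (d1 j i h13 i1.le (.inr ⟨_, sw_comm _ _ _ ▸ h12⟩)).2
    rw [← v3, ← H.orb g1 hs m, conj_sw, pow_π, h11]
    rw [h11] at h9
    rw [h4 h6 h9 xC]
  have h6 := H.cas g' _ v1 _ hs v2
  rw [← Finset.sum_filter_add_sum_filter_not R fun t => IsV t 1 (C₁.indicator z), Finset.sum_eq_zero fun t ht =>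
    H.bad _ _ (one_mul ζ ▸ (Finset.mem_filter.1 ht).2.mul v1) _ hs v2, zero_add, Finset.sum_congr rfl (g := fun _ => f g)
    fun t ht => ?_, Finset.sum_const, nsmul_eq_mul] at h6
  · exact mul_ne_zero (Nat.cast_ne_zero.2 (Finset.card_ne_zero.2 ⟨_, Finset.mem_filter.2 ⟨hs, v2⟩⟩)) h0 h6
  obtain ⟨h7, h8⟩ := Finset.mem_filter.1 ht
  obtain ⟨x, w, u, -, rfl⟩ | ⟨x, rfl⟩ := H.mem t h7
  · have h9 := isV_sw.1 (fx h1 _ h7)
    rw [isV_sw] at h8
    by_cases h10 : x ∈ C₁ <;> by_cases h11 : w ∈ C₁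
    · rw [Set.indicator_of_mem h10, Set.indicator_of_mem h11] at h8
      exact (h8 h9).elim
    · exact key x w u h7 h10 h11
    · rw [sw_comm] at h7 ⊢
      exact key w x u h7 h11 h10
    · rw [Set.indicator_of_notMem h10, Set.indicator_of_notMem h11, mul_zero] at h8
      exact (h8 rfl).elim
  · refine (h8 (isV_tt ?_)).elim
    have h9 := fx h1 _ h7 x
    rw [tt_s, if_pos rfl, tt_π, Perm.one_apply] at h9
    have h10 : z x = 0 := by
      push_cast at h9
      linear_combination (-1 / 2 : ℂ) * h9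
    exact Set.indicator_apply_eq_zero.2 fun _ => h10

/-- **the reflections are trivial on the coordinates of the eigenvectors** -/
theorem Cu.kill (H : Cu R ζ f) (hg : ∀ t ∈ R, g * t * g⁻¹ ∈ R) (h0 : f g ≠ 0) (hi : Ei g ζ i) (ht : t ∈ R) :
    t.π i = i ∧ t.s i = 1 := by
  obtain ⟨y, h1, h2⟩ := hi
  obtain ⟨a, b, e, h3, rfl⟩ | ⟨a, rfl⟩ := H.mem t ht
  · have h4 : i ≠ a := fun e => H.no_sw hg h0 h1 h3 ht (e ▸ h2)
    have h5 : i ≠ b := fun e => H.no_sw hg h0 h1 h3.symm (sw_comm _ _ _ ▸ ht) (e ▸ h2)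
    exact ⟨swap_apply_of_ne_of_ne h4 h5, if_neg (by tauto)⟩
  · refine ⟨rfl, if_neg fun e => h2 ?_⟩
    have h3 : IsV (tt a) 1 y := by_contra fun k => h0 (H.bad g _ h1 _ ht k)
    have h4 := h3 a
    rw [tt_s, if_pos rfl, tt_π, Perm.one_apply] at h4
    push_cast at h4
    rw [e]
    linear_combination (-1 / 2 : ℂ) * h4

theorem exists_max_image' (p : (Fin n → F) → Prop) (h : p 0 := by exact ⟨fun _ => by simp, fun _ h => (h rfl).elim⟩) :
    ∃ x, p x ∧ ∀ z, p z → (∀ i, x i ≠ 0 → z i ≠ 0) → ∀ j, z j ≠ 0 → x j ≠ 0 := by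
  obtain ⟨x, h1, h2⟩ := Set.Finite.exists_maximalFor' (fun x : Fin n → F => {i | x i ≠ 0}) {x | p x} (Set.toFinite _) ⟨0, h⟩
  exact ⟨x, h1, fun z hz h3 => h2 hz h3⟩

/-- an eigenvector with a prescribed support -/
theorem exists_supp (hμ : μ ≠ 0) {I : Set (Fin n)} (hI : ∀ j, g.π j ∈ I ↔ j ∈ I) (hE : ∀ j ∈ I, Ei g μ j) :
    ∃ x, IsV g μ x ∧ ∀ j, x j ≠ 0 ↔ j ∈ I := by
  classical
  obtain ⟨x, ⟨h1, h2⟩, h3⟩ := exists_max_image' (fun x : Fin n → F => IsV g μ x ∧ ∀ j, x j ≠ 0 → j ∈ I)
  refine ⟨x, h1, fun j => ⟨h2 j, fun hj => by_contra fun h4 => ?_⟩⟩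
  obtain ⟨y, h5, h6⟩ := hE j hj
  have h7 : ∀ i, g.π i ∈ I ∩ {i | x i = 0} ↔ i ∈ I ∩ {i | x i = 0} := fun i => and_congr (hI i) (not_iff_not.1 (h1.ne hμ))
  have h8 : ∀ i, x i ≠ 0 → (x + (I ∩ {i | x i = 0}).indicator y) i = x i := fun i h8 => by
    rw [Pi.add_apply, Set.indicator_of_notMem fun h9 => h8 h9.2, add_zero]
  refine h3 _ ⟨h1.add (h5.res h7), fun i h9 => by_contra fun h10 => h9 ?_⟩ (fun i h9 => (h8 i h9).trans_ne h9) j ?_ (not_not.1 h4)
  · rw [Pi.add_apply, Set.indicator_of_notMem fun h11 => h10 h11.1, add_zero]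
    exact by_contra fun h11 => h10 (h2 i h11)
  · rw [Pi.add_apply, Set.indicator_of_mem (show j ∈ I ∩ {i | x i = 0} from ⟨hj, not_not.1 h4⟩), not_not.1 h4, zero_add]
    exact h6

/-- the action on vectors -/
def ac (v : SG n) (x : Fin n → F) : Fin n → F := fun j => ((v.s (v.π⁻¹ j) : ℤ) : F) * x (v.π⁻¹ j)

theorem ac_ap (v : SG n) (x : Fin n → F) (j : Fin n) : ac v x (v.π j) = ((v.s j : ℤ) : F) * x j := by rw [ac, inv_ap]

theorem ac_one (x : Fin n → F) : ac 1 x = x := funext fun j => by simpa using ac_ap 1 x j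

theorem ac_mul (v w : SG n) (x : Fin n → F) : ac (v * w) x = ac v (ac w x) := funext <| (v * w).π.surjective.forall.2 fun j => by
  rw [ac_ap, mul_π, Perm.mul_apply, ac_ap, ac_ap, mul_s]
  push_cast
  ring

theorem isV_ac : IsV g μ y ↔ ac g y = μ • y :=
  ⟨fun h => funext <| g.π.surjective.forall.2 fun j => (ac_ap g y j).trans (h j), fun h j => (ac_ap g y j).symm.trans (congrFun h _)⟩

theorem ac_smul (v : SG n) (c : F) (x : Fin n → F) : ac v (c • x) = c • ac v x := funext fun _ => mul_left_comm _ _ _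

/-- **the twist** -/
theorem twist {l : ℕ} [Fact l.Prime] {q : ZMod l} (hq : q ≠ 0) {I : Set (Fin n)} (hI : ∀ j, g.π j ∈ I ↔ j ∈ I)
    (hE : ∀ j ∈ I, Ei g q j) (Γ : Subgroup (SG n)) (h1 : ∀ v ∈ Γ, ∀ j, v.π j ∈ I ↔ j ∈ I)
    (h2 : ∀ v ∈ Γ, ∀ x, IsV g q x → IsV g q (ac v x)) (h3 : ∀ v ∈ Γ, ∃ k, ∀ x, IsV g q x → IsV (v ^ l ^ k) 1 x) :
    ∃ x : Fin n → ZMod l, IsV g q x ∧ (∀ j, x j ≠ 0 ↔ j ∈ I) ∧ ∀ v ∈ Γ, IsV v 1 x := by
  classical
  let Ω := {x : Fin n → ZMod l // IsV g q x ∧ ∀ j, x j ≠ 0 ↔ j ∈ I}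
  obtain ⟨x₀, k0⟩ := exists_supp hq hI hE
  have h4 : ¬ l ∣ Nat.card Ω := by
    let Λ : Subgroup (Fin n → (ZMod l)ˣ) :=
      { carrier := {u | ∀ j, u (g.π j) = u j}
        one_mem' := fun _ => rfl
        mul_mem' := fun ha hb j => by rw [Pi.mul_apply, ha, hb, Pi.mul_apply]
        inv_mem' := fun ha j => by rw [Pi.inv_apply, ha, Pi.inv_apply] }
    let _ : MulAction Λ Ω :=
      { smul := fun u x => ⟨fun j => u.1 j * x.1 j, fun j => by
          beta_reduce
          rw [mul_left_comm, x.2.1 j, u.2 j, mul_left_comm], fun j => by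
          rw [← x.2.2 j, mul_ne_zero_iff, and_iff_right (Units.ne_zero _)]⟩
        one_smul := fun x => Subtype.ext (funext fun j => one_mul _)
        mul_smul := fun u u' x => Subtype.ext (funext fun j => mul_assoc _ _ _) }
    have h4 : MulAction.orbit Λ (⟨x₀, k0⟩ : Ω) = Set.univ := Set.eq_univ_of_forall fun x => by
      refine ⟨⟨fun j => if h : j ∈ I then Units.mk0 (x.1 j / x₀ j) (div_ne_zero ((x.2.2 j).2 h) ((k0.2 j).2 h)) else 1, fun j => ?_⟩,
        Subtype.ext (funext fun j => ?_)⟩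
      · beta_reduce
        by_cases h : j ∈ I
        · rw [dif_pos h, dif_pos ((hI j).2 h), Units.ext_iff, Units.val_mk0, Units.val_mk0, ← mul_div_mul_left _ _ hq, ← x.2.1 j,
            ← k0.1 j, mul_div_mul_left _ _ (us _)]
        · rw [dif_neg h, dif_neg (mt (hI j).1 h)]
      · show ((if h : j ∈ I then _ else 1 : (ZMod l)ˣ) : ZMod l) * x₀ j = x.1 j
        split_ifs with h
        · rw [Units.val_mk0, div_mul_cancel₀ _ ((k0.2 j).2 h)]
        · rw [not_not.1 (mt (k0.2 j).1 h), not_not.1 (mt (x.2.2 j).1 h), mul_zero]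
    have h5 := MulAction.index_stabilizer Λ (⟨x₀, k0⟩ : Ω)
    rw [h4, Set.ncard_univ] at h5
    intro h6
    have h7 := (h6.trans (h5 ▸ Subgroup.index_dvd_card _)).trans (Subgroup.card_subgroup_dvd_card Λ)
    rw [Nat.card_pi, Finset.prod_const, Nat.card_eq_fintype_card, ZMod.card_units] at h7
    have h8 := (Fact.out : l.Prime).one_lt
    exact absurd (Nat.le_of_dvd (by omega) ((Fact.out : l.Prime).dvd_of_dvd_pow h7)) (by omega)
  let _ : MulAction Γ Ω :=
    { smul := fun v x => ⟨ac v.1 x.1, h2 _ v.2 _ x.2.1,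
          v.1.π.surjective.forall.2 fun j => by rw [ac_ap, mul_ne_zero_iff, and_iff_right (us _), x.2.2, h1 _ v.2]⟩
      one_smul := fun x => Subtype.ext (ac_one _)
      mul_smul := fun u v x => Subtype.ext (ac_mul _ _ _) }
  have h5 : IsPGroup l (MulAction.toPermHom Γ Ω).range := by
    rintro ⟨_, v, rfl⟩
    obtain ⟨k, hk⟩ := h3 _ v.2
    refine ⟨k, Subtype.ext ?_⟩
    rw [Subgroup.coe_pow, ← map_pow]
    exact Equiv.ext fun x => Subtype.ext ((isV_ac.1 (hk _ x.2.1)).trans (one_smul _ _))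
  obtain ⟨x, hx⟩ := h5.nonempty_fixed_point_of_prime_not_dvd_card Ω h4
  exact ⟨x.1, x.2.1, x.2.2, fun v hv => isV_ac.2 ((congrArg Subtype.val (hx ⟨_, ⟨v, hv⟩, rfl⟩)).trans (one_smul _ _).symm)⟩

theorem IsV.cl {T : Set (SG n)} (h1 : ∀ t ∈ T, IsV t 1 y) (h2 : h ∈ Subgroup.closure T) : IsV h 1 y := by
  induction h2 using Subgroup.closure_induction with
  | mem t k => exact h1 t k
  | one => exact fun j => by simp
  | mul a b _ _ k k' => exact one_mul (1 : F) ▸ k.mul k'
  | inv a _ k =>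
    rw [isV_ac, one_smul] at k ⊢
    conv_lhs => rw [← k, ← ac_mul, inv_mul_cancel, ac_one]

/-- an element which fixes all eigenvectors keeps the invariant sets of their coordinates -/
theorem keep (h1 : ∀ y, IsV g μ y → IsV h 1 y) {C : Set (Fin n)} (hC : ∀ j, g.π j ∈ C ↔ j ∈ C) (hj : j ∈ C) (h2 : Ei g μ j) :
    h.π j ∈ C ∧ Ei g μ (h.π j) := by
  obtain ⟨y, h3, h4⟩ := h2
  have h5 : C.indicator y (h.π j) ≠ 0 := by
    rw [← one_mul (C.indicator y _), ← h1 _ (h3.res hC) j, Set.indicator_of_mem hj]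
    exact mul_ne_zero (us _) h4
  exact ⟨by_contra fun e => h5 (Set.indicator_of_notMem e _), _, h3.res hC, h5⟩

/-- from one eigenvalue to another one of the same order -/
theorem fix {F' : Type} [Field F'] {ν : F'} (h2 : (2 : F) ≠ 0) (h2' : (2 : F') ≠ 0) (hμ : μ ≠ 0)
    (e : ∀ k : ℕ, μ ^ k = 1 ↔ ν ^ k = 1) (h1 : ∀ y, IsV g μ y → IsV h 1 y) {x : Fin n → F'} (hx : IsV g ν x) : IsV h 1 x := fun j => by
  have k : ∀ i, ¬ Ei g μ i → x i = 0 := fun i k => by_contra fun k' => k (Ei.tr ⟨x, hx, k'⟩ h2' hμ fun m => (e m).symm)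
  by_cases h3 : Ei g μ j
  · obtain ⟨m, hm⟩ := (keep h1 (j := j) (C := {i | ∃ m : ℕ, (g.π ^ m) j = i})
      (inv_of fun j ⟨m, k⟩ => ⟨m + 1, by rw [pow_succ', Perm.mul_apply, k]⟩) ⟨0, rfl⟩ h3).1
    obtain ⟨y, h4, h5⟩ := h3
    have h6 := h4.pow m j
    have h7 := hx.pow m j
    rw [pow_π, hm] at h6 h7
    rw [← one_mul (y (h.π j)), ← h1 y h4 j, ← mul_assoc] at h6
    have h8 : ∀ (K : Type) [Field K], ((h.s j : ℤ) : K) * ((h.s j : ℤ) : K) = 1 := fun K _ => by
      rw [← Int.cast_mul, Int.units_coe_mul_self, Int.cast_one]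
    have h9 : μ ^ m = (((g ^ m).s j * h.s j : ℤˣ) : ℤ) := by
      push_cast
      rw [mul_right_cancel₀ h5 h6, mul_assoc, h8, mul_one]
    rw [pow_iff h2 e h9] at h7
    push_cast at h7
    rw [mul_assoc] at h7
    rw [mul_left_cancel₀ (us _) h7, ← mul_assoc, h8]
  · rw [k j h3, k _ (mt (inv_of (C := {i | Ei g μ i}) (fun i hi => (keep h1 (C := Set.univ) (fun _ => Iff.rfl) trivial hi).2) j).1 h3),
      mul_zero, mul_zero]

/-- **the twist of a label** -/
theorem core {l : ℕ} [Fact l.Prime] {q : ℤ} (hq : (q : ZMod l) ≠ 0) {M : Type} [CommGroup M] {η : Fin n → M} {m : ℕ}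
    (hη : ∀ j, η j ^ l ^ m = 1) (fx : ∀ j, η (g.π j) ^ (q * g.s j) = η j) {T : Set (SG n)}
    (hT : ∀ t ∈ T, ∀ x, IsV g (q : ZMod l) x → IsV t 1 x) (V : Submonoid (SG n)) (v1 : ∀ v ∈ V, ∀ t ∈ T, v * t * v⁻¹ ∈ T)
    (v2 : ∀ v ∈ V, ∃ h ∈ Subgroup.closure T, v * g = h * g * v) (v3 : ∀ v ∈ V, ∃ i, v ^ l ^ i ∈ Subgroup.closure T)
    (v4 : ∀ v ∈ V, ∃ h ∈ Subgroup.closure T, ∀ j, η ((h * v).π j) ^ ((h * v).s j : ℤ) = η j) :
    (∀ j, η j ≠ 1 → Ei g (q : ZMod l) j) ∧ ∃ x : Fin n → ZMod l, IsV g (q : ZMod l) x ∧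
      (∀ j, x j ≠ 0 ↔ Ei g (q : ZMod l) j ∧ η j = 1) ∧ ∀ v ∈ V, IsV v 1 x := by
  have k0 : ∀ h ∈ Subgroup.closure T, ∀ x, IsV g (q : ZMod l) x → IsV h 1 x := fun h k x hx => IsV.cl (fun t ht => hT t ht x hx) k
  let Γ : Subgroup (SG n) :=
    { V with
      inv_mem' := fun {v} hv => by
        obtain ⟨i, e⟩ := mem_powers_iff_mem_zpowers.2 (inv_mem (Subgroup.mem_zpowers v))
        exact e ▸ V.pow_mem hv i }
  have k1 : ∀ v ∈ Γ, ∀ x, IsV g (q : ZMod l) x → IsV g (q : ZMod l) (ac v x) := fun v hv x hx => by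
    obtain ⟨h, h1, h2⟩ := v2 v hv
    have h3 : IsV h⁻¹ 1 (ac v x) := IsV.cl (fun t ht => by
      have h4 := isV_ac.1 (hT _ (v1 _ (Γ.inv_mem hv) t ht) x hx)
      rw [isV_ac, ← ac_mul, show t * v = v * (v⁻¹ * t * v⁻¹⁻¹) by group, ac_mul, h4, one_smul, one_smul]) (inv_mem h1)
    rw [isV_ac, ← ac_mul, show g * v = h⁻¹ * (v * g) by rw [h2]; group, ac_mul, ac_mul, isV_ac.1 hx, ac_smul, ac_smul, isV_ac.1 h3,
      one_smul]
  have k2 : ∀ j, Ei g (q : ZMod l) (g.π j) ↔ Ei g (q : ZMod l) j := fun j => exists_congr fun x => and_congr_right fun e => e.ne hq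
  refine ⟨fun j h1 => ?_, ?_⟩
  · obtain ⟨k, k3, k4, k5⟩ := exists_per g.π j
    have h2 : ∀ i : ℕ, η ((g.π ^ i) j) ^ (q ^ i * (g ^ i).s j) = η j := fun i => by
      induction i with
      | zero => simp
      | succ i ih =>
        rw [← ih, ← fx ((g.π ^ i) j), ← zpow_mul, pow_succ' g.π, Perm.mul_apply, pow_succ' g, mul_s, pow_π]
        congr 1
        push_cast
        ring
    have h3 := h2 k
    rw [k4] at h3
    refine exists_V hq k3 k4 k5 (by_contra fun h4 => h1 ?_)
    have h5 : η j ^ (q ^ k * (g ^ k).s j - 1) = 1 := by rw [zpow_sub, h3, zpow_one, mul_inv_cancel]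
    have h6 : IsCoprime (q ^ k * (g ^ k).s j - 1) ((l : ℤ) ^ m) := by
      refine IsCoprime.pow_right (((Nat.prime_iff_prime_int.1 Fact.out).irreducible.coprime_iff_not_dvd.2 fun h7 => h4 ?_).symm)
      have h8 := (ZMod.intCast_zmod_eq_zero_iff_dvd _ l).2 (h7.mul_right ((g ^ k).s j))
      rw [sub_mul, mul_assoc, Int.units_coe_mul_self] at h8
      push_cast at h8
      linear_combination h8
    obtain ⟨a, b, h7⟩ := h6
    rw [← zpow_one (η j), ← h7, zpow_add, mul_comm a, zpow_mul, h5, mul_comm b, zpow_mul, ← Nat.cast_pow, zpow_natCast, hη, one_zpow,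
      one_zpow, mul_one]
  have k3 : ∀ j, g.π j ∈ {j | Ei g (q : ZMod l) j ∧ η j = 1} ↔ j ∈ {j | Ei g (q : ZMod l) j ∧ η j = 1} := fun j =>
    (inv_of (π := g.π⁻¹) (C := {j | Ei g (q : ZMod l) j ∧ η j = 1}) (g.π.surjective.forall.2 fun i hi => by
      rw [inv_ap]
      exact ⟨(k2 i).1 hi.1, by rw [← fx, hi.2, one_zpow]⟩) (g.π j)).symm.trans (by rw [inv_ap])
  refine twist hq k3 (fun j h => h.1) Γ (fun v hv => inv_of fun j h1 => ?_) k1 fun v hv => (v3 v hv).imp fun i e => k0 _ e
  obtain ⟨h, h2, h3⟩ := v4 v hv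
  have h4 : Ei g (q : ZMod l) (v.π j) := let ⟨x, a, b⟩ := h1.1
    ⟨_, k1 v hv x a, by rw [ac_ap]; exact mul_ne_zero (us _) b⟩
  have h5 := keep (k0 _ (inv_mem h2)) k3 (j := (h * v).π j) ⟨(keep (k0 _ h2) (C := Set.univ) (fun _ => Iff.rfl) trivial h4).2, by
    have := congrArg (· ^ ((h * v).s j : ℤ)) (h3 j)
    simpa only [← zpow_mul, Int.units_coe_mul_self, zpow_one, h1.2, one_zpow] using this⟩
    (keep (k0 _ h2) (C := Set.univ) (fun _ => Iff.rfl) trivial h4).2
  rw [inv_π, mul_π, Perm.mul_apply, inv_ap] at h5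
  exact h5.1

end Cfsg.Agent.BZ.RT.Cc

private theorem dce_71882b57101c : _root_.True := by
  try have : _root_.True := by simp only [_root_.Cfsg.Agent.BZ.RT.Cc.ac.eq_1]
  exact _root_.True.intro
end

-- part: BZ/D3/Two
section
prune_inst 0x21420590004c0020000000000c0003e26e2000090002b8000c8400a4406812d2208000620a490010000c2220400300040000000600010000000000000011c048108001004d281010ca60008000080410000000000000000000000000000000000204010000
set_option linter.all false
open scoped Cfsg.Agent.FastGrp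

-- part: BZ/D3/Abs
section
/-!
# BZ, defining characteristic, two degrees: the abstract part (helper48)

* `DLo p H` : what is used from the theory of Deligne and Lusztig; `Fm p ι π j` : `H` is isogenous to a cover of `S`;
* `NoE S n` : no element of order `n`; `Two p S m` : the two primes;
* `xt_one` (trivial centre), `xt_of` (the two primes).
-/

set_option autoImplicit false
set_option linter.unusedSectionVars false

namespace Cfsg.Agent.BZ.D3

open Cfsg Subgroup Cfsg.Agent.Characters.Core Cfsg.Agent.BZ.T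
open scoped ComplexConjugate

/-- `χ` lies over `ν` -/
def Ov {H : Type} [Group H] (Z : Subgroup H) (ν : Z →* ℂˣ) (χ : H → ℂ) : Prop := ∀ z : Z, χ z = ν z * χ 1

/-- no element of order `n` -/
def NoE (S : Type) [Group S] (n : ℕ) : Prop := ∀ g : S, orderOf g ≠ n

/-- characters in general position, and the degrees of the constituents -/
structure DLo (p : ℕ) (H : Type) [Group H] : Prop where
  gp : ∀ r : ℕ, r.Prime → r ≠ p → NoE H (r * p) → ∀ x : H, orderOf x = r → ∀ Z : Subgroup H, Z ≤ center H → x ∉ Z →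
    ∀ ν : Z →* ℂˣ, ∃ χ, IsIrrCharacter H χ ∧ Ov Z ν χ ∧
      charDegree χ * Nat.card (centralizer ({x} : Set H)) = ordCompl[p] (Nat.card H)
  tw : ∀ y : H, ¬ p ∣ orderOf y → ∃ T : Subgroup H, y ∈ T ∧ center H ≤ T ∧ ¬ p ∣ Nat.card T ∧
    ∀ Z : Subgroup H, Z ≤ center H → ∀ ν : Z →* ℂˣ, ∃ χ, IsIrrCharacter H χ ∧ Ov Z ν χ ∧ ¬ p ∣ charDegree χ ∧
      charDegree χ * Nat.card T ∣ Nat.card H

/-- the two primes; `r` is prime to `m`, `s` is prime to `j` -/
def Two (p : ℕ) (S : Type) [Group S] (m j : ℕ) : Prop :=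
  ∃ r s : ℕ, r.Prime ∧ s.Prime ∧ r ≠ p ∧ s ≠ p ∧ r ≠ s ∧ r ∣ Nat.card S ∧ s ∣ Nat.card S ∧ NoE S (r * p) ∧ NoE S (r * s) ∧
    ¬ r ∣ m ∧ ¬ s ∣ j

theorem NoE.of_equiv {S S' : Type} [Group S] [Group S'] (e : S ≃* S') {n : ℕ} (h : NoE S' n) : NoE S n :=
  fun g hg => h (e g) (by rw [MulEquiv.orderOf_eq, hg])

theorem Two.of_equiv {p m j : ℕ} {S S' : Type} [Group S] [Group S'] (e : S ≃* S') (h : Two p S' m j) : Two p S m j := by
  obtain ⟨r, s, a, b, c, d, f, g, h, i, k, l⟩ := h
  rw [← Nat.card_congr e.toEquiv] at g h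
  exact ⟨r, s, a, b, c, d, f, g, h, i.of_equiv e, k.of_equiv e, l⟩

theorem Two.mono {p m j m' j' : ℕ} {S : Type} [Group S] (h : Two p S m j) (hm : m' ∣ m) (hj : j' ∣ j) : Two p S m' j' := by
  obtain ⟨r, s, a, b, c, d, f, g, h, i, k, l, n⟩ := h
  exact ⟨r, s, a, b, c, d, f, g, h, i, k, fun e => l (e.trans hm), fun e => n (e.trans hj)⟩

section chars

variable {H : Type} [Group H] {p : ℕ}

theorem exists_cc [Finite H] {Z : Subgroup H} (hZ : Z ≤ center H) {χ : H → ℂ} (hχ : IsIrrCharacter H χ) :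
    ∃ μ : Z →* ℂˣ, Ov Z μ χ := by
  obtain ⟨μ, h⟩ := MK.T.exists_cc (K := ⊤) le_top hZ (isIrr_comp (topEquiv (G := H)).toMonoidHom topEquiv.surjective hχ)
  exact ⟨μ, h⟩

/-- a virtual character which is regular on `Z` has constituents over every `ν` -/
theorem exists_ov [Fintype H] {Z : Subgroup H} (hZ : Z ≤ center H) (ν : Z →* ℂˣ) {Ψ : H → ℂ}
    (hΨ : IsGeneralizedCharacter H Ψ) (h0 : ∀ z ∈ Z, z ≠ 1 → Ψ z = 0) {m : ℤ} (h1 : Ψ 1 = m) (hm : ¬ (p : ℤ) ∣ m) :
    ∃ χ, IsIrrCharacter H χ ∧ Ov Z ν χ ∧ ¬ p ∣ charDegree χ ∧ classInner χ Ψ ≠ 0 := by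
  classical
  have := @Fintype.ofFinite _ (finite_irr (G := H))
  have := Fintype.ofFinite Z
  by_contra! hn
  choose a ha using fun χ : IrrCharacter H =>
    OddOrderCharacters.CoherenceBasic.gen_inner_int hΨ (DL.Uni.gen_of_irr χ.2)
  choose μ hμ using fun χ : IrrCharacter H => exists_cc hZ χ.2
  have hc : IsClassFunction H Ψ := by
    obtain ⟨u, v, hu, hv, rfl⟩ := hΨ
    exact fun x y => by rw [Pi.sub_apply, Pi.sub_apply, isCharacter_isClassFunction hu, isCharacter_isClassFunction hv]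
  have h2 : ∀ z : Z, Ψ z = ∑ χ : IrrCharacter H, (a χ : ℂ) * ((μ χ z : ℂ) * (charDegree (χ : H → ℂ) : ℂ)) := fun z => by
    conv_lhs => rw [classFunction_eq_sum hc]
    rw [Finset.sum_apply]
    exact Finset.sum_congr rfl fun χ _ => by rw [Pi.smul_apply, smul_eq_mul, ha, hμ χ z, H672.coe_charDegree χ.2]
  have h3 : ∑ z : Z, ((ν z)⁻¹ : ℂˣ) * Ψ z = m := by
    rw [Finset.sum_eq_single 1 (fun z _ hz => by rw [h0 z z.2 fun e => hz (Subtype.ext e), mul_zero]) (by simp only [_root_.Finset.mem_univ, _root_.not_true_eq_false, _root_.map_one, _root_.inv_one, _root_.Units.val_one, _root_.OneMemClass.coe_one, _root_.one_mul, _root_.IsEmpty.forall_iff])]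
    simpa only [_root_.map_one, _root_.inv_one, _root_.Units.val_one, _root_.OneMemClass.coe_one, _root_.one_mul] using h1
  have h4 : ∀ χ : IrrCharacter H, ∃ k : ℤ, ∑ z : Z, ((ν z)⁻¹ : ℂˣ) * (a χ * (μ χ z * charDegree (χ : H → ℂ)) : ℂ) = p * k := by
    intro χ
    by_cases e : μ χ = ν
    · by_cases e' : p ∣ charDegree (χ : H → ℂ)
      · obtain ⟨k, hk⟩ := e'
        refine ⟨Fintype.card Z * a χ * k, ?_⟩
        rw [Finset.sum_congr rfl (g := fun _ => (a χ : ℂ) * (p * k)) fun z _ => by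
          rw [e, hk, mul_left_comm, Units.inv_mul_cancel_left, Nat.cast_mul]]
        simp only [Finset.sum_const, Finset.card_univ, nsmul_eq_mul]
        push_cast
        ring
      · have h5 := congrArg conj (hn χ χ.2 (e ▸ hμ χ) e')
        rw [classInner_conj_symm, ha, map_zero] at h5
        exact ⟨0, by simp only [h5, _root_.Units.val_inv_eq_inv_val, _root_.MulZeroClass.zero_mul, _root_.MulZeroClass.mul_zero, _root_.Finset.sum_const_zero, _root_.Int.cast_zero]⟩
    · refine ⟨0, ?_⟩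
      have h5 := sum_hom_units_eq_zero ((Units.coeHom ℂ).comp (μ χ / ν)) fun h => e (MonoidHom.ext fun z => by
        have := DFunLike.congr_fun h z
        exact div_eq_one.1 (Units.val_eq_one.1 this))
      rw [Finset.sum_congr rfl (g := fun z => (a χ : ℂ) * charDegree (χ : H → ℂ) * ((Units.coeHom ℂ).comp (μ χ / ν)) z)
        fun z _ => by simp only [div_eq_mul_inv, _root_.Units.val_inv_eq_inv_val, _root_.MonoidHom.coe_comp, _root_.Function.comp_apply, _root_.MonoidHom.div_apply, _root_.Units.coeHom_apply, _root_.Units.val_mul]; ring, ← Finset.mul_sum, h5]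
      simp
  choose k hk using h4
  simp only [h2, Finset.mul_sum] at h3
  rw [Finset.sum_comm, Finset.sum_congr rfl fun χ _ => hk χ, ← Finset.mul_sum] at h3
  exact hm ⟨∑ χ, k χ, by exact_mod_cast h3.symm⟩

end chars

variable {p : ℕ} [hp : Fact p.Prime] {M : Ideal AlgInt} {K S : Type} [Group K] [Finite K] [Group S] {σ : K →* S}
  {B : Set (IrrCharacter K)} {D : Subgroup K}

/-- **trivial centre** -/
theorem xt_one (H : Hyp p M B D σ) (h : BHZ.Spor.RegTriv p (D.map σ)) (hc : center K = ⊥) : ¬ XT p K B := by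
  have hf : ∀ χ : K → ℂ, ∀ z ∈ center K, χ z = χ 1 → z = 1 := fun χ z hz _ => by rwa [hc] at hz
  have h2 : charDegree (1 : K → ℂ) = 1 := H672.charDegree_of_eq (by simp)
  obtain ⟨χ, h3, h4⟩ := H678.Codeg.exists_not_dvd hp.out
    (((dvd_pow_self p three_ne_zero).trans H.cube_dvd).trans (card_subgroup_dvd_card D))
  refine H.not_XT h χ ⟨_, isIrr_one⟩ (hf _) (hf _) h4 (h2 ▸ hp.out.one_lt.ne' ∘ Nat.dvd_one.1) fun e => h3 ?_
  refine H689.eq_one_of_perfect H.qs.1.commutator_eq_top χ.2 ?_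
  rw [← H672.coe_charDegree χ.2, e, h2, Nat.cast_one]

/-- `L` is a central extension of `S` and normal in `G` -/
structure Fm {G L S : Type} [Group G] [Group L] [Group S] (ι : L →* G) (π : L →* S) (m j : ℕ) : Prop where
  inj : Function.Injective ι
  nrm : ι.range.Normal
  surj : Function.Surjective π
  ker : ∀ l, π l = 1 ↔ ι l ∈ center G
  hm : ι.range.index * Nat.card π.ker ∣ m
  hj : (ι.range ⊔ center G).index ∣ j

section Fm

variable {G L : Type} [Group G] [Finite G] [Group L] {ι : L →* G} {π : L →* S} {m j : ℕ}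

theorem mem_of_coprime {N : Subgroup G} [N.Normal] {g : G} {n : ℕ} (h : g ^ n ∈ N) (hn : n.Coprime N.index) : g ∈ N := by
  rw [← QuotientGroup.eq_one_iff] at h ⊢
  rw [QuotientGroup.mk_pow] at h
  exact orderOf_eq_one_iff.1 (Nat.eq_one_of_dvd_coprimes hn (orderOf_dvd_of_pow_eq_one h) (_root_.orderOf_dvd_natCard _))

theorem Fm.ord (F : Fm ι π m j) (l : L) (h : (orderOf l).Coprime m) : orderOf (π l) = orderOf l := by
  have := Finite.of_injective _ F.inj
  refine Nat.dvd_antisymm (orderOf_map_dvd π l) ?_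
  have h1 : l ^ orderOf (π l) ∈ π.ker := by rw [MonoidHom.mem_ker, map_pow, pow_orderOf_eq_one]
  have h2 : (l ^ orderOf (π l)) ^ Nat.card π.ker = 1 := congrArg Subtype.val (pow_card_eq_one' (x := (⟨_, h1⟩ : π.ker)))
  rw [← pow_mul] at h2
  exact (h.coprime_dvd_right ((dvd_mul_left _ _).trans F.hm)).dvd_of_dvd_mul_right (orderOf_dvd_of_pow_eq_one h2)

theorem Fm.noE (F : Fm ι π m j) {n : ℕ} (h : NoE S n) (hn : n.Coprime m) : NoE G n := fun g hg => by
  have := F.nrm
  obtain ⟨l, rfl⟩ : g ∈ ι.range := mem_of_coprime (n := n) (by rw [← hg, pow_orderOf_eq_one]; exact one_mem _)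
    (hn.coprime_dvd_right ((dvd_mul_right _ _).trans F.hm))
  rw [orderOf_injective ι F.inj] at hg
  exact h (π l) (by rw [F.ord l (hg ▸ hn), hg])

/-- the characters over `ν` descend to the cover -/
theorem Fm.desc (F : Fm ι π m j) (H : Hyp p M B D σ) (h : BHZ.Spor.RegTriv p (D.map σ)) {ψ : L →* K} (hψ : Function.Surjective ψ) (hπ : ∀ l, σ (ψ l) = π l) :
    ∃ (Z : Subgroup G) (ν : Z →* ℂˣ), Z ≤ center G ∧ ∀ χ, IsIrrCharacter G χ → Ov Z ν χ →
      ∃ (φ : IrrCharacter K) (e : ℕ), (∀ z ∈ center K, (φ : K → ℂ) z = (φ : K → ℂ) 1 → z = 1) ∧ e ∣ j ∧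
        charDegree χ = charDegree (φ : K → ℂ) * e := by
  have := Finite.of_injective _ F.inj
  have := F.nrm
  obtain ⟨χ₀, h0, -⟩ := H.max h
  obtain ⟨μ, hμ⟩ := exists_cc (le_refl (center K)) χ₀.2
  have h1 : ∀ l : π.ker, ψ l ∈ center K := fun l => H.ker.le (by rw [MonoidHom.mem_ker, hπ]; exact l.2)
  let ν : π.ker →* ℂˣ := μ.comp ((ψ.comp π.ker.subtype).codRestrict _ h1)
  let e := π.ker.equivMapOfInjective ι F.inj
  refine ⟨π.ker.map ι, ν.comp e.symm.toMonoidHom, ?_, fun χ hχ ho => ?_⟩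
  · rintro _ ⟨l, hl, rfl⟩
    exact (F.ker l).1 hl
  let N := ι.range ⊔ center G
  have := Fintype.ofFinite N
  obtain ⟨θ, h2, h3⟩ := H672.exists_under (f := N.subtype) hχ
  obtain ⟨h4, h5⟩ := H672.charDegree_dvd_of_over N hχ h2 h3
  let κ : L →* N := ι.codRestrict N fun l => (le_sup_left : ι.range ≤ N) ⟨l, rfl⟩
  have h6 : κ.range ⊔ center N = ⊤ := by
    refine eq_top_iff.2 fun x _ => ?_
    obtain ⟨_, ⟨l, rfl⟩, z, hz, h⟩ := (mem_sup_of_normal_left).1 x.2
    rw [show x = κ l * ⟨z, (le_sup_right : center G ≤ N) hz⟩ from Subtype.ext h.symm]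
    exact mul_mem_sup ⟨l, rfl⟩ (mem_center_iff.2 fun g => Subtype.ext (mem_center_iff.1 hz g))
  have h7 : IsIrrCharacter L (θ ∘ κ) :=
    isIrr_comp κ.rangeRestrict κ.rangeRestrict_surjective (H691.Back.isIrr_restrict _ h6 h2)
  have h8 : ∀ l : π.ker, θ (κ l) = ν l * θ 1 := fun l => by
    have a1 := (F.ker l).1 l.2
    have a2 := MK.C.cen_of_over hχ h2 h3 (z := κ l) (mem_center_iff.2 fun g => Subtype.ext (mem_center_iff.1 a1 g)) a1
    have a3 := ho (e l)
    rw [MonoidHom.comp_apply, MulEquiv.coe_toMonoidHom, e.symm_apply_apply] at a3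
    refine mul_right_cancel₀ (isIrr_apply_one_ne_zero hχ) (a2.trans ?_)
    rw [show χ (N.subtype (κ l)) = _ from a3]
    ring
  obtain ⟨φ, h9, h10⟩ := H46.RIM.exists_defl ψ hψ h7 fun z hz => by
    have a1 : z ∈ π.ker := by rw [MonoidHom.mem_ker, ← hπ, MonoidHom.mem_ker.1 hz, map_one]
    have a2 : ν ⟨z, a1⟩ = 1 := (congrArg μ (Subtype.ext (MonoidHom.mem_ker.1 hz))).trans μ.map_one
    rw [Function.comp_apply, Function.comp_apply, h8 ⟨z, a1⟩, a2, map_one, Units.val_one, one_mul]
  have h11 : φ 1 = θ 1 := by simpa only [_root_.Function.comp_apply, _root_.map_one] using (congrFun h10 1).symm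
  refine ⟨⟨φ, h9⟩, _, fun z hz h12 => ?_, h5.trans F.hj, ?_⟩
  · obtain ⟨l, rfl⟩ := hψ z
    have a1 : l ∈ π.ker := by rw [MonoidHom.mem_ker, ← hπ]; exact H.ker.ge hz
    have a2 := (h8 ⟨l, a1⟩).symm.trans ((congrFun h10 l).trans (h12.trans h11))
    rw [mul_eq_right₀ (isIrr_apply_one_ne_zero h2)] at a2
    exact H.faith χ₀ h0 _ hz ((hμ ⟨_, hz⟩).trans (by rw [show (μ ⟨_, hz⟩ : ℂ) = 1 from a2, one_mul]))
  · rw [show charDegree φ = charDegree θ by rw [charDegree, h11, charDegree], Nat.mul_div_cancel' h4]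

theorem card_eq_rel {Z T : Subgroup G} (h : Z ≤ T) : Nat.card T = Z.relIndex T * Nat.card Z := by
  rw [← (Z.subgroupOf T).index_mul_card, Nat.card_congr (subgroupOfEquivOfLe h).toEquiv, relIndex]

theorem dvd_relIndex {Z T : Subgroup G} [Z.Normal] {s : ℕ} (hs : s.Prime) {y : G} (hy : y ∈ T) (h1 : y ∉ Z)
    (h2 : y ^ s ∈ Z) : s ∣ Z.relIndex T := by
  have := Fact.mk hs
  have h3 : orderOf (QuotientGroup.mk (s := Z.subgroupOf T) ⟨y, hy⟩) = s := orderOf_eq_prime
    (by rw [← QuotientGroup.mk_pow, QuotientGroup.eq_one_iff]; exact h2) fun e => h1 ((QuotientGroup.eq_one_iff (⟨y, hy⟩ : T)).1 e)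
  exact h3 ▸ _root_.orderOf_dvd_natCard _

theorem exists_of_dvd {Z T : Subgroup G} [Z.Normal] {s : ℕ} (hs : s.Prime) (h : s ∣ Z.relIndex T) :
    ∃ y ∈ T, y ∉ Z ∧ y ^ s ∈ Z := by
  have := Fact.mk hs
  obtain ⟨y, hy⟩ := exists_prime_orderOf_dvd_card' (G := T ⧸ Z.subgroupOf T) s h
  obtain ⟨y, rfl⟩ := QuotientGroup.mk_surjective y
  refine ⟨y, y.2, fun e => hs.one_lt.ne' ?_, ?_⟩
  · rw [← hy, orderOf_eq_one_iff, QuotientGroup.eq_one_iff]
    exact e
  · have := pow_orderOf_eq_one (QuotientGroup.mk (s := Z.subgroupOf T) y)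
    rwa [hy, ← QuotientGroup.mk_pow, QuotientGroup.eq_one_iff] at this

/-- **the two primes** -/
theorem xt_of (H : Hyp p M B D σ) (h : BHZ.Spor.RegTriv p (D.map σ)) (X : DLo p G) (F : Fm ι π m j) (hm : ¬ p ∣ m)
    (hj : ¬ p ∣ j) {ψ : L →* K} (hψ : Function.Surjective ψ) (hπ : ∀ l, σ (ψ l) = π l) (h2 : Two p S m j) :
    ¬ XT p K B := by
  obtain ⟨r, s, hr, hs, rp, sp, rs, h3, h4, h5, h6, h7, h8⟩ := h2
  have := Finite.of_injective _ F.inj
  have := Finite.of_surjective _ F.surj
  have := F.nrm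
  have := Fact.mk hr
  have := Fact.mk hs
  have cr := hr.coprime_iff_not_dvd.2 h7
  have cp := hp.out.coprime_iff_not_dvd.2 hm
  obtain ⟨Z, ν, hZ, hd⟩ := F.desc H h hψ hπ
  obtain ⟨x, hx⟩ := exists_prime_orderOf_dvd_card' r (h3.trans (card_dvd_of_surjective π F.surj))
  have h9 : orderOf (π x) = r := by rw [F.ord x (hx ▸ cr), hx]
  obtain ⟨χ, a1, a2, a3⟩ := X.gp r hr rp (F.noE h5 (Nat.Coprime.mul_left cr cp)) (ι x)
    (by rw [orderOf_injective ι F.inj, hx]) Z hZ (fun e => hr.one_lt.ne' (by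
      rw [← h9, (F.ker x).2 (hZ e), orderOf_one])) ν
  obtain ⟨y, hy⟩ := exists_prime_orderOf_dvd_card' (G := S) s h4
  obtain ⟨y, rfl⟩ := F.surj y
  have h10 : (π y) ^ s = 1 := by rw [← hy, pow_orderOf_eq_one]
  have h11 : y ^ s ∈ π.ker := by rw [MonoidHom.mem_ker, map_pow, h10]
  obtain ⟨T, b1, b2, b3, b4⟩ := X.tw (ι y) fun e => by
    have c1 : (y ^ s) ^ Nat.card π.ker = 1 := congrArg Subtype.val (pow_card_eq_one' (x := (⟨_, h11⟩ : π.ker)))
    rw [← pow_mul] at c1
    rw [orderOf_injective ι F.inj] at e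
    rcases hp.out.dvd_mul.1 (e.trans (orderOf_dvd_of_pow_eq_one c1)) with c2 | c2
    · exact sp ((Nat.prime_dvd_prime_iff_eq hp.out hs).1 c2).symm
    · exact hm (c2.trans ((dvd_mul_left _ _).trans F.hm))
  obtain ⟨χ', c1, c2, c3, c4⟩ := b4 Z hZ ν
  obtain ⟨φ, e, d1, d2, d3⟩ := hd χ a1 a2
  obtain ⟨φ', e', f1, -, f3⟩ := hd χ' c1 c2
  have h12 := Nat.not_dvd_ordCompl hp.out (Nat.card_pos (α := G)).ne'
  refine H.not_XT h φ φ' d1 f1 (fun g => h12 (a3 ▸ d3 ▸ (g.mul_right _).mul_right _))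
    (fun g => c3 (f3 ▸ g.mul_right _)) fun g => ?_
  have h13 : charDegree χ' * Nat.card T ∣ ordCompl[p] (Nat.card G) := by
    refine (Nat.Coprime.pow_right ((Nat.card G).factorization p)
      (hp.out.coprime_iff_not_dvd.2 fun g => (hp.out.dvd_mul.1 g).elim c3 b3).symm).dvd_of_dvd_mul_left ?_
    rwa [Nat.ordProj_mul_ordCompl_eq_self]
  have h14 : center G ≤ centralizer {ι x} := center_le_centralizer _
  rw [← a3, d3, f3, ← g, mul_assoc, mul_assoc, Nat.mul_dvd_mul_iff_left (H672.charDegree_pos φ.2),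
    card_eq_rel b2, card_eq_rel h14, ← mul_assoc, ← mul_assoc, Nat.mul_dvd_mul_iff_right Nat.card_pos] at h13
  have h15 : s ∣ (center G).relIndex T := dvd_relIndex hs b1
    (fun g => hs.one_lt.ne' (by rw [← hy, (F.ker y).2 g, orderOf_one])) (map_pow ι y s ▸ (F.ker _).1 h11)
  obtain ⟨c, g1, g2, g3⟩ := exists_of_dvd hs
    ((hs.dvd_mul.1 ((h15.mul_left e').trans h13)).resolve_left fun g => h8 (g.trans d2))
  obtain ⟨_, ⟨l, rfl⟩, z, hz, rfl⟩ := (mem_sup_of_normal_left).1 (mem_of_coprime (N := ι.range ⊔ center G)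
    ((le_sup_right : center G ≤ _) g3) ((hs.coprime_iff_not_dvd.2 h8).coprime_dvd_right F.hj))
  have g4 : Commute (ι l) z := mem_center_iff.1 hz _
  rw [g4.mul_pow, Subgroup.mul_mem_cancel_right _ (pow_mem hz s), ← map_pow, ← F.ker, map_pow] at g3
  rw [Subgroup.mul_mem_cancel_right _ hz, ← F.ker] at g2
  rw [Subgroup.mul_mem_cancel_right _ (h14 hz), mem_centralizer_singleton_iff, ← map_mul, ← map_mul, F.inj.eq_iff] at g1
  have g5 : Commute (π x) (π l) := by rw [Commute, SemiconjBy, ← map_mul, ← g1, map_mul]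
  have g6 : orderOf (π l) = s := orderOf_eq_prime g3 g2
  exact h6 (π x * π l) (by
    rw [g5.orderOf_mul_eq_mul_orderOf_of_coprime (by rw [h9, g6]; exact (Nat.coprime_primes hr hs).2 rs), h9, g6])

end Fm

end Cfsg.Agent.BZ.D3
end

-- part: BZ/D3/Two
section
/-!
# BZ, defining characteristic, two degrees: the two primes (helper48)

`two_lin`, `two_psp`, `two_odd`, `two_plus`, `two_minus`, `two_E6`, `two_2E6`, `two_E7`.
-/

set_option autoImplicit false
set_option linter.unusedSectionVars false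

namespace Cfsg.Agent.BZ.D3

open Cfsg Subgroup Cfsg.Agent.H436

section gen

variable {p q e r s N : ℕ} {S : Type} [Group S] [Finite S]

theorem ord (h : Prim q e r) (hq : 1 ≤ q) : orderOf (q : ZMod r) = e :=
  Nat.dvd_antisymm ((Lib.Zsigmondy.dvd_pow_sub_one_iff hq e).1 (h.dvd dvd_rfl))
    ((h.dvd_iff _).1 ((Lib.Zsigmondy.dvd_pow_sub_one_iff hq _).2 dvd_rfl))

theorem n12 (h : Prim q e r) (hq : 1 ≤ q) (he : 3 ≤ e) : ¬ r ∣ 12 := fun h1 => by
  have h2 := h.prime.two_le
  have h3 := Nat.le_of_dvd (by omega) (H403.NumTop.order_dvd_pred h.prime (by omega) (ord h hq))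
  have h4 := Nat.le_of_dvd (by norm_num) h1
  have h5 := h.prime
  interval_cases r <;> first | omega | exact absurd h5 (by norm_num)

theorem dvd_of (h : Prim q e r) (hq : 1 ≤ q) (he : 3 ≤ e) {c a b : ℕ} (hc : c ∣ 12) (h1 : c * a = b) (h2 : r ∣ b) : r ∣ a :=
  (h.prime.dvd_mul.1 (h1 ▸ h2)).resolve_left fun h3 => n12 h hq he (h3.trans hc)

theorem noE_of (hr : r.Prime) (hs : s.Prime) (h : ∀ x : S, orderOf x = r → ¬ s ∣ Nat.card (centralizer ({x} : Set S))) :
    NoE S (r * s) := fun g hg => by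
  refine h (g ^ s) (by rw [orderOf_pow_of_dvd hs.ne_zero (hg ▸ dvd_mul_left s r), hg, Nat.mul_div_cancel _ hs.pos])
    ((hg ▸ dvd_mul_left s r : s ∣ orderOf g).trans (Subgroup.orderOf_dvd_natCard _ ?_))
  exact mem_centralizer_singleton_iff.2 (Commute.self_pow g s)

theorem two_of (hp : p.Prime) (hq : p ∣ q) (h0 : 1 ≤ q) (hr : Prim q e r) (he : 3 ≤ e) (hs : s.Prime) (h1 : ¬ s ∣ q)
    (h2 : r ∣ Nat.card S) (h3 : s ∣ Nat.card S)
    (h : ∀ x : S, orderOf x = r → ¬ p ∣ Nat.card (centralizer ({x} : Set S)) ∧ ¬ s ∣ Nat.card (centralizer ({x} : Set S))) :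
    Two p S 12 1 := by
  have := Fact.mk hr.prime
  obtain ⟨x, hx⟩ := exists_prime_orderOf_dvd_card' r h2
  exact ⟨r, s, hr.prime, hs, fun e => hr.not_dvd (e ▸ hq), fun e => h1 (e ▸ hq), fun e => (h x hx).2
    (e ▸ hx ▸ Subgroup.orderOf_dvd_natCard _ (mem_centralizer_singleton_iff.2 rfl)), h2, h3,
    noE_of hr.prime hp fun x hx => (h x hx).1, noE_of hr.prime hs fun x hx => (h x hx).2, n12 hr h0 he,
    hs.one_lt.ne' ∘ Nat.dvd_one.1⟩

theorem nd_add (hp : p.Prime) (hq : p ∣ q) {n : ℕ} (hn : n ≠ 0) : ¬ p ∣ q ^ n + 1 := fun h =>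
  hp.one_lt.ne' (Nat.dvd_one.1 ((Nat.dvd_add_right (hq.trans (dvd_pow_self q hn))).1 h))

theorem nd_of (hp : p.Prime) {a b : ℕ} (h : p ∣ a) (h1 : b ≤ a) (h2 : p ∣ b) : ¬ p ∣ a - b + 1 := fun h3 =>
  hp.one_lt.ne' (Nat.dvd_one.1 ((Nat.dvd_add_right (Nat.dvd_sub h h2)).1 h3))

theorem nd_sub (hp : p.Prime) (hq : p ∣ q) (h0 : 1 ≤ q) {n : ℕ} (hn : n ≠ 0) : ¬ p ∣ q ^ n - 1 := fun h => by
  have h1 := Nat.dvd_sub (hq.trans (dvd_pow_self q hn)) h
  rw [Nat.sub_sub_self (Nat.one_le_pow _ _ h0)] at h1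
  exact hp.one_lt.ne' (Nat.dvd_one.1 h1)

theorem nd_two {m : ℕ} (hm : 2 ≤ m) : ¬ 2 * m ∣ 2 * (m + 1) := fun h => by
  have := Nat.le_of_dvd one_pos ((Nat.dvd_add_right dvd_rfl).1 (Nat.dvd_of_mul_dvd_mul_left two_pos h))
  omega

theorem dvd_pr {m i : ℕ} (h : Prim q (2 * (i + 1)) r) (hi : i < m) : r ∣ ∏ i ∈ Finset.range m, (q ^ (2 * (i + 1)) - 1) :=
  (h.dvd dvd_rfl).trans (Finset.dvd_prod_of_mem (fun i => q ^ (2 * (i + 1)) - 1) (Finset.mem_range.2 hi))

end gen

section lin

open Cfsg.Agent.H403 Cfsg.Agent.H403.NumTop Cfsg.Agent.H77.LFMain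

variable {p q n : ℕ} {e : Bool} {F : Type} [Field F] [Fintype F] {L : Type} [Group L] [Finite L]

/-- **linear and unitary groups** -/
theorem two_lin (h : IsL L e n q F) (hF : Fintype.card F = q ^ (cond e 0 1 + 1)) (hp : p.Prime) (hq : p ∣ q) (hn : 3 ≤ n)
    (h3 : ¬ (e = false ∧ n = 3 ∧ q = 2)) (hg : Nat.gcd n (AA e 1 q) ≠ 1) : Two p L (AA e 1 q) (Nat.gcd n (AA e 1 q)) := by
  have h0 : 2 ≤ q := two_le_of_card hF
  have hL := h.lin (E := AlgebraicClosure F) hF hn
  obtain ⟨r, hr, -, ho⟩ := exists_prime (e := e) (i := n) h0 hn (by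
    rintro (⟨rfl, rfl, rfl⟩ | h)
    · exact hg (by decide)
    · exact h3 h)
  have a1 : r ≠ p := fun h => not_dvd_q hr ho (by omega) (h ▸ hq)
  have a2 := mem_card h hF hn hr (by omega) le_rfl ho
  have a3 : NoE L (r * p) := fun g hg => hL.not_adj_char hF hp hq hn hr ho (Or.inl rfl) ⟨g, hg⟩
  have a4 := not_dvd_AA_one (by omega) ho (by omega)
  have key : ∀ s : ℕ, s.Prime → orderOf ((xv e q : ℤ) : ZMod s) = n - 1 → Two p L (AA e 1 q) (Nat.gcd n (AA e 1 q)) :=
    fun s hs hs' => ⟨r, s, hr, hs, a1, fun h => not_dvd_q hs hs' (by omega) (h ▸ hq), fun h => by subst h; omega, a2,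
      mem_card h hF hn hs (by omega) (by omega) hs', a3, fun g hg => hL.not_adj hF (by omega) hr hs ho hs' (by omega)
        (by omega) (by omega) (lcm_gt (by omega) (by omega) (by omega)
          (fun h => by have := Nat.le_of_dvd (by omega) h; omega) fun h => by
            have := Nat.le_of_dvd one_pos ((Nat.dvd_add_right dvd_rfl).1 (show n - 1 ∣ n - 1 + 1 by
              rwa [Nat.sub_add_cancel (by omega)]))
            omega) ⟨g, hg⟩, a4,
      fun h => not_dvd_AA_one (by omega) hs' (by omega) (h.trans (Nat.gcd_dvd_right _ _))⟩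
  rcases hn.eq_or_lt with rfl | h4
  swap
  · obtain ⟨s, hs, -, hs'⟩ := exists_prime (e := e) (i := n - 1) h0 (by omega) (by
      rintro (⟨rfl, h, rfl⟩ | ⟨rfl, h, rfl⟩)
      · exact hg (by simp [AA])
      · exact hg (by rw [show n = 4 by omega]; decide))
    exact key s hs hs'
  rcases Nat.even_or_odd' q with ⟨t, h5 | h5⟩
  · obtain ⟨s, hs, h6⟩ := Nat.exists_prime_and_dvd (n := AA (!e) 1 q) (by
      cases e
      · have : q ≠ 2 := fun h => h3 ⟨rfl, rfl, h⟩
        simp only [AA, Bool.not_false, Bool.true_or, if_true, pow_one]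
        omega
      · simp [AA]
        omega)
    have := Fact.mk hs
    have h7 : ((xv e q : ℤ) : ZMod s) = -1 := by
      have h7 := (dvd_AA_iff (by omega)).1 h6
      cases e <;> simp only [xv, _root_.Bool.not_false, ↓ _root_.reduceIte, _root_.Int.cast_natCast, _root_.pow_one, _root_.Bool.false_eq_true, _root_.Int.cast_neg, _root_.neg_inj, _root_.Bool.not_true] at h7 ⊢ <;> first | exact h7 | exact neg_eq_iff_eq_neg.1 h7
    refine key s hs ?_
    rw [h7, orderOf_neg_one, if_neg]
    rw [ZMod.ringChar_zmod_n]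
    rintro rfl
    cases e <;> simp only [AA, _root_.Bool.not_false, _root_.Nat.mod_succ, _root_.Nat.reduceBEq, _root_.Bool.or_false, ↓ _root_.reduceIte, _root_.pow_one, _root_.Bool.not_true, _root_.Bool.or_self, _root_.Bool.false_eq_true] at h6 <;> omega
  · obtain ⟨g, h6⟩ := exists_two h hF le_rfl
    have h7 : ¬ 2 ∣ q := by omega
    exact ⟨r, 2, hr, Nat.prime_two, a1, fun h => h7 (h ▸ hq), by have := five_le hr le_rfl ho; omega, a2,
      h6 ▸ _root_.orderOf_dvd_natCard g, a3, fun g hg => hL.not_adj_torus hF (by omega) hr Nat.prime_two ho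
        (by cases e <;> simp only [AA, _root_.Nat.mod_succ, _root_.Nat.reduceBEq, _root_.Bool.or_self, _root_.Bool.false_eq_true, ↓ _root_.reduceIte, _root_.pow_one, _root_.Bool.or_false] <;> (clear * - h5; omega)) (by decide) h7 ⟨g, hg⟩, a4,
      fun h => absurd (h.trans (Nat.gcd_dvd_left _ _)) (by decide)⟩

end lin

variable {p : ℕ} [hp : Fact p.Prime] {F : Type} [Field F] [Fintype F] [CharP F p]

theorem pq (p : ℕ) [Fact p.Prime] (F : Type) [Field F] [Fintype F] [CharP F p] : p ∣ Fintype.card F := by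
  obtain ⟨f, -, h⟩ := FiniteField.card F p
  exact h ▸ dvd_pow_self p f.pos.ne'

/-- **symplectic groups** -/
theorem two_psp (ho : Odd (Fintype.card F)) {m : ℕ} (hm : 2 ≤ m) : Two p (PSp m F) 12 1 := by
  have h0 : 2 ≤ Fintype.card F := Fintype.one_lt_card
  have h1 : Fintype.card F ≠ 2 := fun h => absurd (h ▸ ho) (by decide)
  have h2 := H356.KillPSp.card (F := F) (m := m) (by omega)
  have h3 : Nat.gcd 2 (Fintype.card F - 1) ∣ 12 := (Nat.gcd_dvd_left _ _).trans (by decide)
  obtain ⟨m, rfl⟩ : ∃ n, m = n + 1 := ⟨m - 1, by omega⟩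
  obtain ⟨r, hr⟩ := exists_prim (e := 2 * (m + 1)) h0 (by omega) fun h => h1 h.1
  have h4 := dvd_of hr (by omega) (by omega) h3 h2 ((dvd_pr hr m.lt_succ_self).mul_left _)
  have h5 : ∀ x : PSp (m + 1) F, orderOf x = r →
      2 * Nat.card (centralizer ({x} : Set (PSp (m + 1) F))) = Fintype.card F ^ (m + 1) + 1 := fun x hx =>
    (H54.QA.card_cent_top hm ho hr.prime hr.not_dvd (Or.inl (ord hr (by omega))) hx).resolve_right fun h =>
      hr.not_dvd_sub (fun h => by have := Nat.le_of_dvd (by omega) h; omega)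
        (h ▸ (hx ▸ Subgroup.orderOf_dvd_natCard _ (mem_centralizer_singleton_iff.2 rfl) : r ∣ _).mul_left 2)
  have h6 : ∀ x : PSp (m + 1) F, orderOf x = r → ¬ p ∣ Nat.card (centralizer ({x} : Set (PSp (m + 1) F))) :=
    fun x hx h => nd_add hp.out (pq p F) m.succ_ne_zero (h5 x hx ▸ h.mul_left 2)
  rcases hm.eq_or_lt with h | h
  · obtain rfl : m = 1 := by omega
    obtain ⟨t, ht⟩ := ho
    refine two_of hp.out (pq p F) (by omega) hr (by omega) Nat.prime_two (by omega) h4 ?_ fun x hx => ⟨h6 x hx, ?_⟩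
    · have h7 : 2 * 2 ∣ Nat.gcd 2 (Fintype.card F - 1) * Nat.card (PSp (1 + 1) F) := by
        rw [h2]
        refine ((Dvd.intro (t * t + t) ?_).trans (Finset.dvd_prod_of_mem (fun i => Fintype.card F ^ (2 * (i + 1)) - 1)
          (a := 0) (by simp))).mul_left _
        exact Nat.eq_sub_of_add_eq (by rw [ht]; ring)
      exact Nat.dvd_of_mul_dvd_mul_left two_pos (h7.trans (Nat.mul_dvd_mul_right (Nat.gcd_dvd_left _ _) _))
    · rintro ⟨c, hc⟩
      have h7 := h5 x hx
      rw [hc, ht, show (2 * t + 1) ^ (1 + 1) = 4 * (t * t + t) + 1 by ring] at h7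
      omega
  · obtain ⟨m, rfl⟩ : ∃ n, m = n + 1 := ⟨m - 1, by omega⟩
    obtain ⟨s, hs⟩ := exists_prim (e := 2 * (m + 1)) h0 (by omega) fun h => h1 h.1
    exact two_of hp.out (pq p F) (by omega) hr (by omega) hs.prime hs.not_dvd h4
      (dvd_of hs (by omega) (by omega) h3 h2 ((dvd_pr hs (by omega)).mul_left _)) fun x hx =>
      ⟨h6 x hx, fun h => hs.not_dvd_add (nd_two (by omega)) (h5 x hx ▸ h.mul_left 2)⟩

/-- **orthogonal groups in odd dimension** -/
theorem two_odd (ho : Odd (Fintype.card F)) {m : ℕ} (hm : 3 ≤ m) : Two p (POmega F (quadFormOdd m F)) 12 1 := by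
  obtain ⟨r, s, a, b, c, d, f, g, h, i, j, k⟩ := two_psp (p := p) ho (m := m) (by omega)
  have h1 := H356.KillPSp.card (F := F) (m := m) (by omega)
  rw [← S0292.result rfl ho m hm, Nat.gcd_eq_left (by obtain ⟨t, ht⟩ := ho; omega), Nat.mul_right_inj two_ne_zero] at h1
  exact ⟨r, s, a, b, c, d, f, h1 ▸ g, h1 ▸ h,
    fun x hx => let ⟨y, hy⟩ := (S2474.result ho m hm r p a hp.out c).1 ⟨x, hx⟩; i y hy,
    fun x hx => let ⟨y, hy⟩ := (S2474.result ho m hm r s a b f).1 ⟨x, hx⟩; j y hy, k⟩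

/-- **orthogonal groups of plus type** -/
theorem two_plus (h1 : Fintype.card F ≠ 2) {m : ℕ} (hm : 4 ≤ m) : Two p (POmega F (quadFormPlus m F)) 12 1 := by
  have h0 : 2 ≤ Fintype.card F := Fintype.one_lt_card
  have h2 := S0293.result (F := F) rfl m hm
  have h3 : Nat.gcd 4 (Fintype.card F ^ m - 1) ∣ 12 := (Nat.gcd_dvd_left _ _).trans (by decide)
  obtain ⟨m, rfl⟩ : ∃ n, m = n + 1 + 1 + 1 := ⟨m - 3, by omega⟩
  obtain ⟨r, hr⟩ := exists_prim (e := 2 * (m + 1 + 1)) h0 (by omega) fun h => h1 h.1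
  obtain ⟨s, hs⟩ := exists_prim (e := 2 * (m + 1)) h0 (by omega) fun h => h1 h.1
  obtain ⟨f, -, hf⟩ := FiniteField.card F p
  refine two_of hp.out (pq p F) (by omega) hr (by omega) hs.prime hs.not_dvd
    (dvd_of hr (by omega) (by omega) h3 h2 ((dvd_pr hr (by omega)).mul_left _))
    (dvd_of hs (by omega) (by omega) h3 h2 ((dvd_pr hs (by omega)).mul_left _)) fun x hx => ?_
  have h4 := H286.CS.card_cent_sub f.pos hf hm hr.prime (hf ▸ ord hr (by omega)) x hx
  rw [← hf, ← pow_one (Fintype.card F), ← pow_mul, ← pow_mul, one_mul, one_mul] at h4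
  exact ⟨fun h => (hp.out.dvd_mul.1 (h4 ▸ h.mul_left _)).elim (nd_add hp.out (pq p F) (by omega))
      (nd_add hp.out (pq p F) one_ne_zero),
    fun h => (hs.prime.dvd_mul.1 (h4 ▸ h.mul_left _)).elim (hs.not_dvd_add (nd_two (by omega)))
      (hs.not_dvd_add fun h => by have := Nat.le_of_dvd (by omega) h; omega)⟩

variable (p) in
include hp in
theorem dvd_GL {ι : Type} [Fintype ι] [DecidableEq ι] {n r t : ℕ} (hn : Fintype.card ι = n) (h0 : 1 ≤ n)
    (hr : Prim (Fintype.card F) n r) (ht : t.Prime) {x : GL ι F} (hx : orderOf x = r * t) : t ∣ Fintype.card F ^ n - 1 := by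
  let φ := Units.mapEquiv (Matrix.reindexAlgEquiv F F (Fintype.equivFinOfCardEq hn)).toMulEquiv
  by_contra h
  refine noE_of hr.prime ht (fun y hy => ?_) (φ x) (by rw [MulEquiv.orderOf_eq, hx])
  rwa [(S2638.result (p := p) rfl h0 hr.prime (fun e => hr.not_dvd (e ▸ pq p F)) (ord hr Fintype.card_pos) y hy).2]

open Cfsg.Agent.LieClassical.OmegaReindex in
/-- **orthogonal groups of minus type** -/
theorem two_minus (h1 : p ≠ 2) {m : ℕ} (hm : 4 ≤ m) {a b : F}
    (hab : ∀ z₁ z₂ : F, z₁ ^ 2 + a * z₁ * z₂ + b * z₂ ^ 2 = 0 → z₁ = 0 ∧ z₂ = 0) :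
    Two p (POmega F (quadFormMinus (m - 1) F a b)) 12 1 := by
  have h0 : 2 ≤ Fintype.card F := Fintype.one_lt_card
  have h1' : Fintype.card F ≠ 2 := fun h => h1 ((Nat.prime_dvd_prime_iff_eq hp.out Nat.prime_two).1 (h ▸ pq p F))
  have h2 := S0294.result (F := F) rfl m hm a b hab
  have h3 : Nat.gcd 4 (Fintype.card F ^ m + 1) ∣ 12 := (Nat.gcd_dvd_left _ _).trans (by decide)
  have hc : Fintype.card ((Fin (m - 1) ⊕ Fin (m - 1)) ⊕ Fin 2) = 2 * m := by simp only [_root_.Fintype.card_sum, _root_.Fintype.card_fin]; omega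
  have hD : H390.Lift.Data (quadMinus (m - 1) F a b) := H390.data_of _ (quadMinus_nondegenerate hab) (by rw [hc]; omega)
    (quadMinus_isotropic (by omega) a b) (Or.inl h1')
  obtain ⟨r, hr⟩ := exists_prim (e := 2 * m) h0 (by omega) fun h => h1' h.1
  obtain ⟨s, hs⟩ := exists_prim (e := 2 * (m - 2 + 1)) h0 (by omega) fun h => h1' h.1
  have key : ∀ t : ℕ, t.Prime → t % 2 = 1 → ¬ t ∣ Fintype.card F ^ (2 * m) - 1 →
      NoE (POmega F (quadFormMinus (m - 1) F a b)) (r * t) := fun t ht h4 h5 => by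
    rw [← coe_quadMinus]
    intro g hg
    obtain ⟨X, hX⟩ := H390.Lift.exists_isom hD ((Nat.odd_iff.2 (hr.odd (by omega))).mul (Nat.odd_iff.2 h4)) ⟨g, hg⟩
    exact h5 (dvd_GL p hc (by omega) hr ht ((orderOf_coe X).trans hX))
  have h6 : ¬ 2 * (m - 2 + 1) ∣ 2 * m := by
    have := nd_two (m := m - 2 + 1) (by omega)
    rwa [show m - 2 + 1 + 1 = m by omega] at this
  exact ⟨r, s, hr.prime, hs.prime, fun e => hr.not_dvd (e ▸ pq p F), fun e => hs.not_dvd (e ▸ pq p F),
    fun e => by have := hr.unique (e ▸ hs); omega,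
    dvd_of hr (by omega) (by omega) h3 h2 (((hr.dvd_add dvd_rfl fun h => by
      have := Nat.le_of_dvd (by omega) h; omega).mul_left _).mul_right _),
    dvd_of hs (by omega) (by omega) h3 h2 ((dvd_pr hs (by omega)).mul_left _),
    key p hp.out (hp.out.eq_two_or_odd.resolve_left h1) (nd_sub hp.out (pq p F) (by omega) (by omega)),
    key s hs.prime (hs.odd (by omega)) (hs.not_dvd_sub h6), n12 hr (by omega) (by omega),
    hs.prime.one_lt.ne' ∘ Nat.dvd_one.1⟩

open Cfsg.Lie

theorem three_dvd {q a b c : ℕ} (h : 3 ∣ q ^ 2 - 1) (h1 : Nat.gcd 3 c * a = b) (h2 : (q ^ 2 - 1) * (q ^ 6 - 1) ∣ b) : 3 ∣ a :=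
  Nat.dvd_of_mul_dvd_mul_left three_pos (((Nat.mul_dvd_mul h (h.trans (by
    have := Nat.sub_dvd_pow_sub_pow (q ^ 2) 1 3; rwa [one_pow, ← pow_mul] at this))).trans (h1 ▸ h2)).trans
      (Nat.mul_dvd_mul_right (Nat.gcd_dvd_left _ _) _))

/-- **`E₆`** -/
theorem two_E6 (h : 3 ∣ Fintype.card F - 1) : Two p (chevE6.group F) 12 1 := by
  have h0 : 2 ≤ Fintype.card F := Fintype.one_lt_card
  have h2 := S1063.result (F := F) rfl
  have h5 := pq p F
  generalize hq : Fintype.card F = q at *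
  obtain ⟨r, hr⟩ := exists_prim (e := 12) h0 (by omega) (by omega)
  refine two_of hp.out h5 (by omega) hr (by omega) Nat.prime_three (by omega)
    (dvd_of hr (by omega) (by omega) ((Nat.gcd_dvd_left _ _).trans (by decide)) h2 ((hr.dvd dvd_rfl).mul_left _))
    (three_dvd (q := q) (h.trans (by simpa only [_root_.one_pow] using Nat.sub_dvd_pow_sub_pow q 1 2)) h2
      ⟨q ^ 36 * (q ^ 5 - 1) * (q ^ 8 - 1) * (q ^ 9 - 1) * (q ^ 12 - 1), by ring⟩) fun x hx => ?_
  obtain ⟨h3, h4⟩ := H190.Odd.exact_e6_12 hq h hr hx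
  refine ⟨fun h6 => (hp.out.dvd_mul.1 ((h6.mul_left 3).trans h3)).elim (nd_of hp.out (h5.trans (dvd_pow_self q (by omega)))
    (Nat.pow_le_pow_right (by omega) (by omega)) (h5.trans (dvd_pow_self q (by omega)))) fun h7 => ?_, h4⟩
  exact hp.out.one_lt.ne' (Nat.dvd_one.1 ((Nat.dvd_add_right ((h5.trans (dvd_pow_self q (by omega))).add h5)).1 h7))

/-- **`²E₆`** -/
theorem two_2E6 {q : ℕ} (hq : IsPrimePow q) (hF : Fintype.card F = q ^ 2) (h : 3 ∣ q + 1) :
    Two p (twistedE6 F q) 12 1 := by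
  have h0 : 2 ≤ q := hq.two_le
  have h2 := S1066.result hq hF
  have h5 : p ∣ q := hp.out.dvd_of_dvd_pow (hF ▸ pq p F)
  obtain ⟨r, hr⟩ := exists_prim (e := 12) h0 (by omega) (by omega)
  refine two_of hp.out h5 (by omega) hr (by omega) Nat.prime_three (by omega)
    (dvd_of hr (by omega) (by omega) ((Nat.gcd_dvd_left _ _).trans (by decide)) h2 ((hr.dvd dvd_rfl).mul_left _))
    (three_dvd (q := q) (h.trans ⟨q - 1, by simpa only [_root_.one_pow] using Nat.sq_sub_sq q 1⟩) h2
      ⟨q ^ 36 * (q ^ 5 + 1) * (q ^ 8 - 1) * (q ^ 9 + 1) * (q ^ 12 - 1), by ring⟩) fun x hx => ?_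
  obtain ⟨h3, h4⟩ := H190.Odd.exact_te6_12 hq hF h hr hx
  exact ⟨fun h6 => (hp.out.dvd_mul.1 ((h6.mul_left 3).trans h3)).elim (nd_of hp.out (h5.trans (dvd_pow_self q (by omega)))
    (Nat.pow_le_pow_right (by omega) (by omega)) (h5.trans (dvd_pow_self q (by omega))))
      (nd_of hp.out (h5.trans (dvd_pow_self q (by omega))) (Nat.le_self_pow two_ne_zero q) h5), h4⟩

/-- **`E₇`** -/
theorem two_E7 : Two p (chevE7.group F) 12 1 := by
  have h0 : 2 ≤ Fintype.card F := Fintype.one_lt_card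
  have h2 := S1064.result (F := F) rfl
  have h5 := pq p F
  have h6 : Nat.card F = Fintype.card F := Nat.card_eq_fintype_card
  generalize Fintype.card F = q at *
  obtain ⟨r, hr⟩ := exists_prim (e := 18) h0 (by omega) (by omega)
  obtain ⟨s, hs⟩ := exists_prim (e := 14) h0 (by omega) (by omega)
  have h3 : Nat.gcd 2 (q - 1) ∣ 12 := (Nat.gcd_dvd_left _ _).trans (by decide)
  refine two_of hp.out h5 (by omega) hr (by omega) hs.prime hs.not_dvd
    (dvd_of hr (by omega) (by omega) h3 h2 ((hr.dvd dvd_rfl).mul_left _))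
    (dvd_of hs (by omega) (by omega) h3 h2 (((hs.dvd dvd_rfl).mul_left _).mul_right _)) fun x hx => ?_
  have h4 := H759.Reg.E7.card_cent hr.prime hx (m := 18) (h6 ▸ ord hr (by omega)) (by omega)
  have h7 : Nat.card (centralizer ({x} : Set (chevE7.group F))) ∣ (q ^ 18 - 1) * (q ^ 2 - 1) := by
    refine h4.trans (Int.natCast_dvd_natCast.1 (Int.natAbs_dvd.2 ?_))
    rw [h6, Nat.cast_mul, Nat.cast_sub (Nat.one_le_pow _ _ (by omega)), Nat.cast_sub (Nat.one_le_pow _ _ (by omega))]
    push_cast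
    refine mul_dvd_mul_right ?_ _
    simpa only [_root_.Polynomial.eval_sub, _root_.Polynomial.eval_pow, _root_.Polynomial.eval_X, _root_.Polynomial.eval_one] using Polynomial.eval_dvd (x := (q : ℤ)) (Polynomial.cyclotomic.dvd_X_pow_sub_one 18 ℤ)
  exact ⟨fun h => (hp.out.dvd_mul.1 (h.trans h7)).elim (nd_sub hp.out h5 (by omega) (by omega))
      (nd_sub hp.out h5 (by omega) (by omega)),
    fun h => (hs.prime.dvd_mul.1 (h.trans h7)).elim (hs.not_dvd_sub (by decide)) (hs.not_dvd_sub (by decide))⟩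

end Cfsg.Agent.BZ.D3
end
end

-- part: BZ/Alt/MainT
section
prune_inst 0x24200c00086202000000000080002224400005900020000058a00c4402077300080200014c800c001042020000040000021000404000000000000000000405010000100410000100a20001003082110000000000000000000000000000041000204010000
set_option linter.all false
open scoped Cfsg.Agent.FastGrp

-- part: BZ/Alt/An
section
/-!
# BZ/Alt: two degrees of height zero in the blocks of the alternating groups (helper31)

* `hook_formula` : the degree of the character obtained from a core by adding one hook of length `p w`;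
* `exists_two_rows` : two such characters of height zero with different degrees;
* `altA` : a block of `A_n` with a non-abelian defect group has two degrees of height zero.
-/

set_option autoImplicit false
set_option linter.unusedSectionVars false
set_option maxHeartbeats 400000

namespace Cfsg.Agent.BZ.Alt

open Finset Cfsg Cfsg.Agent.H614 Cfsg.Agent.Characters.Core

variable {m : ℕ}

/-- the set of the entries -/
def SS (β : Fin m → ℕ) : Finset ℤ := univ.image fun i => (β i : ℤ)

theorem mem_SS {β : Fin m → ℕ} {v : ℤ} : v ∈ SS β ↔ ∃ i, (β i : ℤ) = v := by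
  unfold SS
  simp only [Finset.mem_image, Finset.mem_univ, true_and]

theorem Gam_SS {β : Fin m → ℕ} (hβ : Function.Injective β) (j : Fin m) (v : ℤ) :
    Gam (SS β) v = ph v (β j) * ∏ k ∈ univ.erase j, ph v (β k) := by
  unfold Gam SS
  rw [Finset.prod_image (fun a _ b _ h => hβ (by exact_mod_cast h)), Finset.mul_prod_erase univ (fun k => ph v (β k))
    (mem_univ j)]

theorem ph_comm (a b : ℤ) : ph a b = ph b a := by
  unfold ph
  split_ifs <;> omega

theorem sq_formula {n : ℕ} {β : Fin m → ℕ} (hβ : Function.Injective β) (hs : ∑ i, β i = n + ∑ i : Fin m, (i : ℕ))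
    (j : Fin m) :
    ((FM (Multiset.replicate n 1) β).natAbs * ((β j).factorial * ∏ k ∈ univ.erase j, (β k).factorial)) ^ 2 =
      (n.factorial * ∏ k ∈ univ.erase j, ph (β j) (β k)) ^ 2 *
        ∏ i ∈ univ.erase j, ∏ k ∈ univ.erase j, ph (β k) (β i) := by
  have h1 := congrArg Int.natAbs (FM_ones_formula n β hs)
  rw [Int.natAbs_mul, Int.natAbs_mul, natAbs_finset_prod, natAbs_finset_prod, Int.natAbs_natCast] at h1
  simp only [Int.natAbs_natCast, natAbs_finset_prod] at h1
  have h2 : (∏ i : Fin m, ∏ k ∈ Ioi i, ((β k : ℤ) - β i).natAbs) ^ 2 = ∏ i : Fin m, ∏ k, ph (β k) (β i) := by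
    have h3 := Finset.prod_prod_Ioi_mul_eq_prod_prod_off_diag (fun k i : Fin m => ph (β k) (β i))
    have h4 : ∀ i : Fin m, ∏ k ∈ {i}ᶜ, ph (β k) (β i) = ∏ k, ph (β k) (β i) := fun i => by
      rw [Fintype.prod_eq_mul_prod_compl i, ph_self, one_mul]
    rw [Finset.prod_congr rfl fun i _ => h4 i] at h3
    rw [← h3, ← Finset.prod_pow]
    refine Finset.prod_congr rfl fun i _ => ?_
    rw [← Finset.prod_pow]
    refine Finset.prod_congr rfl fun k hk => ?_
    have h5 : (β i : ℤ) ≠ β k := fun e => (Finset.mem_Ioi.1 hk).ne (hβ (by exact_mod_cast e))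
    rw [ph_comm (β i), ph_ne h5, pow_two]
  have h3 : ∏ i : Fin m, ∏ k, ph (β k) (β i) = (∏ k ∈ univ.erase j, ph (β j) (β k)) ^ 2 *
      ∏ i ∈ univ.erase j, ∏ k ∈ univ.erase j, ph (β k) (β i) := by
    have h4 : ∀ g : Fin m → ℕ, ∏ i, g i = g j * ∏ i ∈ univ.erase j, g i := fun g =>
      (Finset.mul_prod_erase univ g (mem_univ j)).symm
    rw [h4, Finset.prod_congr rfl fun i _ => h4 fun k => ph (β k) (β i), Finset.prod_mul_distrib,
      h4 fun k => ph (β k) (β j), ph_self, one_mul, Finset.prod_congr rfl fun k _ => ph_comm (β k) (β j)]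
    ring
  rw [Finset.mul_prod_erase univ (fun k => (β k).factorial) (mem_univ j), h1, mul_pow, h2, h3]
  ring

theorem up_formula {n r : ℕ} {β : Fin m → ℕ} (hβ : Function.Injective β) (hs : ∑ i, β i = n + ∑ i : Fin m, (i : ℕ))
    (j : Fin m) (hβ' : Function.Injective (up β j r)) :
    (FM (Multiset.replicate (n + r) 1) (up β j r)).natAbs * (β j + r).factorial *
        (n.factorial * ∏ k ∈ univ.erase j, ph (β j) (β k)) =
      (FM (Multiset.replicate n 1) β).natAbs * (β j).factorial *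
        ((n + r).factorial * ∏ k ∈ univ.erase j, ph (β j + r) (β k)) := by
  have h1 := sq_formula hβ hs j
  have h2 := sq_formula (n := n + r) hβ' (by rw [sum_up, hs]; ring) j
  have h3 : ∀ k ∈ univ.erase j, up β j r k = β k := fun k hk => up_ne β r (Finset.ne_of_mem_erase hk)
  rw [up_self, Finset.prod_congr rfl fun k hk => by rw [h3 k hk],
    Finset.prod_congr (s₁ := univ.erase j) rfl (f := fun k => ph ((β j + r : ℕ) : ℤ) (up β j r k))
      (g := fun k => ph (β j + r) (β k)) fun k hk => by rw [h3 k hk, Nat.cast_add],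
    Finset.prod_congr (s₁ := univ.erase j) rfl (f := fun i => ∏ k ∈ univ.erase j, ph (up β j r k) (up β j r i))
      (g := fun i => ∏ k ∈ univ.erase j, ph (β k) (β i))
      fun i hi => Finset.prod_congr rfl fun k hk => by rw [h3 k hk, h3 i hi]] at h2
  have h4 : 0 < ∏ k ∈ univ.erase j, (β k).factorial := Finset.prod_pos fun _ _ => Nat.factorial_pos _
  generalize ∏ k ∈ univ.erase j, (β k).factorial = F at *
  generalize ∏ i ∈ univ.erase j, ∏ k ∈ univ.erase j, ph (β k) (β i) = R at *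
  generalize n.factorial * ∏ k ∈ univ.erase j, ph (β j) (β k) = A at *
  generalize (n + r).factorial * ∏ k ∈ univ.erase j, ph (β j + r) (β k) = A' at *
  apply Nat.eq_of_mul_eq_mul_right h4
  apply Nat.pow_left_injective two_ne_zero
  calc _ = ((FM (Multiset.replicate (n + r) 1) (up β j r)).natAbs * ((β j + r).factorial * F)) ^ 2 * A ^ 2 := by ring
    _ = ((FM (Multiset.replicate n 1) β).natAbs * ((β j).factorial * F)) ^ 2 * A' ^ 2 := by rw [h1, h2]; ring
    _ = _ := by ring

variable {p : ℕ}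

theorem hook_formula {n w : ℕ} {κ : Fin m → ℕ} (hκ : Function.Injective κ) (hs : ∑ i, κ i = n + ∑ i : Fin m, (i : ℕ))
    (hc : Clo p 0 (SS κ)) (j : Fin m) (hβ : Function.Injective (up κ j (p * w))) (hw : 0 < p * w) :
    (FM (Multiset.replicate (n + p * w) 1) (up κ j (p * w))).natAbs * n.factorial *
        (p * w * ∏ t ∈ range w, Gam (tops p 0 (SS κ)) (κ j + p * t)) =
      (FM (Multiset.replicate n 1) κ).natAbs * (n + p * w).factorial := by
  have h1 := up_formula hκ hs j hβ
  have h2 := hc.iterq (v := κ j) (Int.natCast_nonneg _) w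
  unfold gq at h2
  have e1 : ((κ j : ℤ) + p * w - 0).toNat = κ j + p * w := by
    rw [sub_zero, ← Nat.cast_mul, ← Nat.cast_add, Int.toNat_natCast]
  have e2 : ph ((κ j : ℤ) + p * w) (κ j) = p * w := by
    rw [← Nat.cast_mul, ph_ne (by omega)]; omega
  rw [Gam_SS hκ j, Gam_SS hκ j, ph_self, one_mul, sub_zero, Int.toNat_natCast, e1, e2, div_mul_eq_mul_div,
    div_eq_div_iff (by exact_mod_cast Nat.factorial_ne_zero _) (by exact_mod_cast Nat.factorial_ne_zero _)] at h2
  have h3 : (∏ k ∈ univ.erase j, ph (κ j) (κ k)) * (κ j + p * w).factorial =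
      p * w * (∏ k ∈ univ.erase j, ph (κ j + p * w) (κ k)) * (∏ t ∈ range w, Gam (tops p 0 (SS κ)) (κ j + p * t)) *
        (κ j).factorial := by exact_mod_cast h2
  rw [Nat.cast_mul] at h1
  have h4 : 0 < (κ j).factorial * ∏ k ∈ univ.erase j, ph (κ j + p * w) (κ k) :=
    Nat.mul_pos (Nat.factorial_pos _) (Finset.prod_pos fun _ _ => ph_pos _ _)
  apply Nat.eq_of_mul_eq_mul_right h4
  calc _ = (FM (Multiset.replicate (n + p * w) 1) (up κ j (p * w))).natAbs * n.factorial *
        (p * w * (∏ k ∈ univ.erase j, ph (κ j + p * w) (κ k)) *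
          (∏ t ∈ range w, Gam (tops p 0 (SS κ)) (κ j + p * t)) * (κ j).factorial) := by ring
    _ = (FM (Multiset.replicate (n + p * w) 1) (up κ j (p * w))).natAbs * (κ j + p * w).factorial *
        (n.factorial * ∏ k ∈ univ.erase j, ph (κ j) (κ k)) := by rw [← h3]; ring
    _ = _ := by rw [h1]; ring

theorem up_injective {κ : Fin m → ℕ} (hκ : Function.Injective κ) (j : Fin m) {r : ℕ}
    (h : ∀ k, k ≠ j → κ k ≠ κ j + r) : Function.Injective (up κ j r) := by
  intro a b hab
  by_cases ha : a = j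
  · by_cases hb : b = j
    · rw [ha, hb]
    · subst ha
      rw [up_self, up_ne κ _ hb] at hab
      exact absurd hab.symm (h b hb)
  · by_cases hb : b = j
    · subst hb
      rw [up_self, up_ne κ _ ha] at hab
      exact absurd hab (h a ha)
    · rw [up_ne κ _ ha, up_ne κ _ hb] at hab
      exact hκ hab

theorem clo_SS (hp : 0 < p) {κ : Fin m → ℕ} (hκ : Function.Injective κ) (hw0 : ∑ j, κ j / p = npairs p κ) :
    Clo p 0 (SS κ) := by
  refine ⟨fun b hb => ?_, fun b hb h => ?_⟩
  · obtain ⟨i, rfl⟩ := mem_SS.1 hb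
    exact Int.natCast_nonneg _
  · obtain ⟨i, rfl⟩ := mem_SS.1 hb
    have h1 : 0 < κ i / p := Nat.div_pos (by omega) hp
    obtain ⟨q, hq⟩ : ∃ q, κ i / p = q + 1 := ⟨κ i / p - 1, by omega⟩
    obtain ⟨k, hk⟩ := down_of_weight_zero hp hκ hw0 i (t := q) (by omega)
    have h2 := Nat.div_add_mod (κ i) p
    rw [hq, mul_add, mul_one] at h2
    exact mem_SS.2 ⟨k, by omega⟩

variable [hp : Fact p.Prime]

/-- **two characters of height zero with different degrees** -/
theorem exists_two_rows {w n : ℕ} {κ : Fin m → ℕ} (hκ : StrictMono κ) (hw0 : ∑ j, κ j / p = npairs p κ)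
    (hpw : p * (w + 2) ≤ n) (hs : ∑ i, κ i = (n - p * (w + 2)) + ∑ i : Fin m, (i : ℕ)) (hm : n + p ≤ m) :
    ∃ β γ : Fin m → ℕ, StrictMono β ∧ StrictMono γ ∧ SameCol p κ β ∧ SameCol p κ γ ∧
      ∑ i, β i = n + ∑ i : Fin m, (i : ℕ) ∧ ∑ i, γ i = n + ∑ i : Fin m, (i : ℕ) ∧
      padicValNat p (FM (Multiset.replicate n 1) β).natAbs + (w + 2 + padicValNat p (w + 2).factorial) =
        padicValNat p n.factorial ∧
      padicValNat p (FM (Multiset.replicate n 1) γ).natAbs + (w + 2 + padicValNat p (w + 2).factorial) =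
        padicValNat p n.factorial ∧
      (FM (Multiset.replicate n 1) γ).natAbs < (FM (Multiset.replicate n 1) β).natAbs ∧
      FM ((p * 2) ::ₘ Multiset.replicate w p + Multiset.replicate (n - p * (w + 2)) 1) β ≠ 0 := by
  classical
  have hp0 := hp.out.pos
  have hp2 := hp.out.two_le
  obtain ⟨n₀, rfl⟩ : ∃ n₀, n = n₀ + p * (w + 2) := ⟨n - p * (w + 2), by omega⟩
  rw [Nat.add_sub_cancel] at hs ⊢
  have hc := clo_SS hp0 hκ.injective hw0
  obtain ⟨y₁, hy₁, hd₁⟩ := exists_top (lo := 0) (S := SS κ) hp0 (z := -1) (by omega)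
  obtain ⟨y₂, hy₂, hd₂⟩ := exists_top (lo := 0) (S := SS κ) hp0 (z := -2) (by omega)
  have h12 : y₁ ≠ y₂ := by
    rintro rfl
    have h1 : (p : ℤ) ∣ 1 := by
      have := dvd_sub hd₂ hd₁
      rwa [show y₁ - -2 - (y₁ - -1) = 1 by ring] at this
    have := Int.le_of_dvd one_pos h1
    omega
  obtain ⟨x, hx, hmin⟩ := Finset.exists_min_image (tops p 0 (SS κ)) id ⟨y₁, hy₁⟩
  simp only [id] at hmin
  obtain ⟨y, hy, hyx⟩ : ∃ y ∈ tops p 0 (SS κ), y ≠ x := by
    by_cases h : y₁ = x
    · exact ⟨y₂, hy₂, fun e => h12 (h.trans e.symm)⟩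
    · exact ⟨y₁, hy₁, h⟩
  have hx' := mem_tops.1 hx
  have hx0 : 0 ≤ x + p := by
    rcases hx'.1 with h | h
    · have := hc.ge x h; omega
    · omega
  have hxl : ((p * (w + 2) : ℕ) : ℤ) ≤ x := by
    by_contra hlt
    obtain ⟨i, hi⟩ := mem_range_of_lt (x := (x + p).toNat) hκ hs (by omega)
    exact hx'.2 (mem_SS.2 ⟨i, by omega⟩)
  have hxS : x ∈ SS κ := hx'.1.resolve_right (by omega)
  have e0 : ((p * (w + 2) : ℕ) : ℤ) = p * (w + 1 : ℕ) + p := by push_cast; ring
  obtain ⟨j₀, hj₀⟩ := mem_SS.1 hxS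
  obtain ⟨j₁, hj₁⟩ := mem_SS.1 (hc.iter hxS (w + 1) (by omega))
  have habove : ∀ k (t : ℕ), κ k ≠ κ j₀ + p * (t + 1) := by
    intro k t e
    refine hx'.2 ?_
    have h1 := hc.iter (mem_SS.2 ⟨k, rfl⟩) t (by
      rw [e]; push_cast; rw [mul_add]; omega)
    rwa [e, show ((κ j₀ + p * (t + 1) : ℕ) : ℤ) - p * t = x + p by rw [← hj₀]; push_cast; ring] at h1
  have hi₀ : ∀ r, Function.Injective (up κ j₀ (p * r)) := fun r => up_injective hκ.injective j₀ fun k hk => by
    rcases r with _ | r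
    · exact fun e => hk (hκ.injective e)
    · exact habove k r
  have hi₁ : Function.Injective (up κ j₁ (p * (w + 2))) := up_injective hκ.injective j₁ fun k _ e =>
    habove k 0 (by omega)
  have hpos : 0 < p * (w + 2) := Nat.mul_pos hp0 (by omega)
  have f₀ := hook_formula hκ.injective hs hc j₀ (hi₀ (w + 2)) hpos
  have f₁ := hook_formula hκ.injective hs hc j₁ hi₁ hpos
  have v₀ := hc.val_hook hx 0 (w + 1)
  have v₁ := hc.val_hook hx (w + 1) 0
  rw [show 0 + 1 + (w + 1) = w + 2 by ring, Nat.cast_zero, mul_zero, sub_zero] at v₀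
  rw [show w + 1 + 1 + 0 = w + 2 by ring] at v₁
  rw [Nat.factorial_zero, padicValNat_one_right] at v₀ v₁
  rw [hj₀] at f₀
  rw [hj₁] at f₁
  have hlt : ∏ t ∈ range (w + 2), Gam (tops p 0 (SS κ)) (x + p * t) <
      ∏ t ∈ range (w + 2), Gam (tops p 0 (SS κ)) (x - p * (w + 1 : ℕ) + p * t) := by
    rw [← Finset.prod_range_reflect (fun t : ℕ => Gam (tops p 0 (SS κ)) (x - p * (w + 1 : ℕ) + p * t))]
    have e1 : ∀ t ∈ range (w + 2), x - p * (w + 1 : ℕ) + p * (w + 2 - 1 - t : ℕ) = x - p * t := by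
      intro t ht
      rw [Finset.mem_range] at ht
      rw [show w + 2 - 1 - t = w + 1 - t by (clear * - v₁ ht; omega), Nat.cast_sub (by omega)]
      ring
    rw [Finset.prod_congr rfl fun t ht => congrArg (Gam (tops p 0 (SS κ))) (e1 t ht)]
    have hle : ∀ (d : ℤ), 0 ≤ d → ∀ z ∈ tops p 0 (SS κ), ph (x + d) z ≤ ph (x - d) z := by
      intro d hd z hz
      have := hmin z hz
      unfold ph
      split_ifs <;> omega
    refine Finset.prod_lt_prod (fun _ _ => Gam_pos _ _)
      (fun t _ => Finset.prod_le_prod' (hle (p * t) (by (clear * - hp0; positivity)))) ⟨1, by simp only [_root_.Finset.mem_range, _root_.lt_add_iff_pos_left, _root_.Order.lt_add_one_iff, _root_.zero_le], ?_⟩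
    refine Finset.prod_lt_prod (fun _ _ => ph_pos _ _) (hle (p * (1 : ℕ)) (by positivity)) ⟨y, hy, ?_⟩
    have := hmin y hy
    unfold ph
    split_ifs <;> omega
  have hκ0 := FM_ones_ne_zero hκ.injective hs
  have vκ := val_eq_of_lt (p := p) (w := 0) hκ.injective hs (by rw [hw0, zero_add]) hp0
  have hval : ∀ A H : ℕ, H ≠ 0 → A * n₀.factorial * (p * (w + 2) * H) =
      (FM (Multiset.replicate n₀ 1) κ).natAbs * (n₀ + p * (w + 2)).factorial →
      padicValNat p H = w + 1 + padicValNat p (w + 1).factorial →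
      padicValNat p A + (w + 2 + padicValNat p (w + 2).factorial) = padicValNat p (n₀ + p * (w + 2)).factorial := by
    intro A H hH h1 h2
    have hA : A ≠ 0 := by
      rintro rfl
      rw [zero_mul, zero_mul] at h1
      exact mul_ne_zero (Int.natAbs_ne_zero.2 hκ0) (Nat.factorial_ne_zero _) h1.symm
    have h3 := congrArg (padicValNat p) h1
    rw [padicValNat.mul (mul_ne_zero hA (Nat.factorial_ne_zero _)) (mul_ne_zero hpos.ne' hH),
      padicValNat.mul hA (Nat.factorial_ne_zero _), padicValNat.mul hpos.ne' hH,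
      padicValNat.mul hp0.ne' (by omega), padicValNat_self,
      padicValNat.mul (Int.natAbs_ne_zero.2 hκ0) (Nat.factorial_ne_zero _), h2] at h3
    have h4 := val_succ_factorial (p := p) (w + 1)
    rw [show w + 1 + 1 = w + 2 by ring] at h4
    (clear * - vκ h3 h4; omega)
  obtain ⟨β, hβ, hβc, hβs, hβF⟩ := exists_sorted (hi₀ (w + 2))
  obtain ⟨γ, hγ, hγc, hγs, hγF⟩ := exists_sorted hi₁
  have hmod : ∀ j k, up κ j (p * (w + 2)) k % p = κ k % p := fun j k => up_mod (dvd_mul_right _ _) κ j k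
  refine ⟨β, γ, hβ, hγ, (sameCol_of_mod fun k => (hmod j₀ k).symm).trans (hβc p),
    (sameCol_of_mod fun k => (hmod j₁ k).symm).trans (hγc p), by rw [hβs, sum_up, hs]; ring,
    by rw [hγs, sum_up, hs]; ring, ?_, ?_, ?_, ?_⟩
  · rw [hβF]
    exact hval _ _ (Finset.prod_pos fun _ _ => Gam_pos _ _).ne' f₀ (by omega)
  · rw [hγF]
    exact hval _ _ (Finset.prod_pos fun _ _ => Gam_pos _ _).ne' f₁ (by omega)
  · rw [hβF, hγF]
    by_contra hle
    have h1 : 0 < (FM (Multiset.replicate (n₀ + p * (w + 2)) 1) (up κ j₁ (p * (w + 2)))).natAbs * n₀.factorial := by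
      refine Nat.mul_pos (Int.natAbs_pos.2 (FM_ones_ne_zero hi₁ (by rw [sum_up, hs]; ring))) (Nat.factorial_pos _)
    have h2 := Nat.mul_lt_mul_of_le_of_lt (Nat.mul_le_mul_right n₀.factorial (not_lt.1 hle))
      (Nat.mul_lt_mul_of_pos_left hlt hpos) h1
    omega
  · rw [← Int.natAbs_ne_zero, hβF, Int.natAbs_ne_zero]
    have h1 := FM_double_ne_zero (p := p) (n := n₀ + p * (w + 2)) (hi₀ (w + 2))
      (weight_of_mod (hmod j₀) hw0 (by rw [sum_up])) (by rw [sum_up, hs]; ring) ?_ ?_
    · rwa [Nat.add_sub_cancel] at h1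
    · intro j hj hinj
      by_cases e : j = j₀
      · subst e
        have e1 : dn (up κ j (p * (w + 2))) j p = up κ j (p * (w + 1)) := by
          funext k
          by_cases hk : k = j
          · subst hk
            rw [dn_self, up_self, up_self, mul_add, mul_add]; (clear * -; omega)
          · rw [dn_ne _ _ hk, up_ne _ _ hk, up_ne _ _ hk]
        rw [e1]; exact hi₀ _
      · exfalso
        rw [up_ne _ _ e] at hj
        obtain ⟨i, hi⟩ := mem_SS.1 (hc.iter (mem_SS.2 ⟨j, rfl⟩) 2 (by push_cast; omega))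
        push_cast at hi
        by_cases e' : i = j₀
        · subst e'
          exact habove j 1 (by omega)
        · refine (injective_dn_iff (hi₀ (w + 2)) j _).1 hinj i (by rintro rfl; omega) ?_
          rw [up_ne _ _ e, up_ne _ _ e']
          (clear * - hi; omega)
    · refine ⟨j₀, by rw [up_self, mul_add]; omega, ?_⟩
      have e1 : dn (up κ j₀ (p * (w + 2))) j₀ (p * 2) = up κ j₀ (p * w) := by
        funext k
        by_cases hk : k = j₀
        · subst hk
          rw [dn_self, up_self, up_self, mul_add]; (clear * -; omega)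
        · rw [dn_ne _ _ hk, up_ne _ _ hk, up_ne _ _ hk]
      rw [e1]; exact hi₀ _

theorem val_card_le {G : Type} [Group G] [Finite G] {M : Ideal AlgInt} (hM : IsPModular p M)
    {B : Set (IrrCharacter G)} (hB : IsPBlock M B) {D : Subgroup G} (hD : IsDefectGroup p M B D) {d : ℕ}
    (hd : Nat.card D = p ^ d) {ψ : IrrCharacter G} (hψ : ψ ∈ B) :
    (Nat.card G).factorization p ≤ (charDegree (ψ : G → ℂ)).factorization p + d := by
  have h1 := S0908.result p M hM B hB D hD
  rw [hd] at h1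
  have h2 : d = blockDefect p B := Nat.pow_right_injective hp.out.two_le h1
  have h3 := Nat.sInf_le (s := (fun ψ : IrrCharacter G => (charDegree (ψ : G → ℂ)).factorization p) '' B) ⟨ψ, hψ, rfl⟩
  unfold blockDefect at h2
  simp only at h3
  omega

/-- **the blocks of the alternating groups** -/
theorem altA {α : Type} [Fintype α] [DecidableEq α] [Nontrivial α] {M : Ideal AlgInt} (hM : IsPModular p M)
    {B : Set (IrrCharacter (alternatingGroup α))} (hB : IsPBlock M B) {D : Subgroup (alternatingGroup α)}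
    (hD : IsDefectGroup p M B D) (hna : ¬ IsMulCommutative D) : ¬ EqD p B := by
  classical
  have hMp : M.IsPrime := hM.2.1.isPrime
  have hN2 : (alternatingGroup α).index = 2 := alternatingGroup.index_eq_two
  obtain ⟨BB, P, hBB, hP, hDP, -, hdown⟩ := exists_cover hM (alternatingGroup α) hB hD
  obtain ⟨χ, hχ⟩ := Blocks.Basic.isPBlock_nonempty hBB
  obtain ⟨β₀, hβ₀, hs, hχβ⟩ := irr_eq (α := α) (m := Fintype.card α + p) (by omega) χ.2
  obtain ⟨w, hw⟩ : ∃ w, ∑ j, β₀ j / p = w + npairs p β₀ :=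
    ⟨_, (Nat.sub_add_cancel (npairs_le hp.out.pos hβ₀.injective)).symm⟩
  obtain ⟨κ, hκ, hκc, hκw, hpw, hκs, -⟩ := exists_core hp.out.pos hβ₀.injective hw hs
  obtain ⟨z, hz, hz1, -, hPc⟩ := defect_structure hM (by omega) hBB hβ₀ hs hχ hχβ hw hP
  have hPp : IsPGroup p P := Blocks.Basic.isPGroup_of_isDefectGroup hP
  have hcardN : Nat.card (Equiv.Perm α) = 2 * Nat.card (alternatingGroup α) := by
    rw [← Subgroup.card_mul_index (alternatingGroup α), hN2, mul_comm]
  let e : D ≃* (P ⊓ alternatingGroup α : Subgroup (Equiv.Perm α)) :=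
    (MulEquiv.subgroupCongr hDP).trans (Subgroup.subgroupOfEquivOfLe inf_le_right)
  have hcardD : Nat.card D = Nat.card (P ⊓ alternatingGroup α : Subgroup (Equiv.Perm α)) :=
    Nat.card_congr e.toEquiv
  have hw2 : 2 ≤ w := by
    by_contra hlt
    have h1 : padicValNat p w.factorial = 0 := by
      have h3 : w = 0 ∨ w = 1 := by omega
      rcases h3 with rfl | rfl <;> simp
    have h2 : Nat.card D ∣ p ^ (w + padicValNat p w.factorial) := by
      rw [hcardD, ← hPc]
      exact Subgroup.card_dvd_of_le inf_le_left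
    obtain ⟨d, hd, hd'⟩ := (Nat.dvd_prime_pow hp.out).1 h2
    exact hna (isMulCommutative_of_card hd' (by omega))
  obtain ⟨w, rfl⟩ : ∃ w', w = w' + 2 := ⟨w - 2, by omega⟩
  obtain ⟨β, γ, hβ, hγ, hβc, hγc, hβs, hγs, vβ, vγ, hlt, hne⟩ := exists_two_rows hκ hκw hpw hκs le_rfl
  have hmem : ∀ γ : Fin (Fintype.card α + p) → ℕ, ∀ hγ : StrictMono γ,
      ∀ hsγ : ∑ i, γ i = Fintype.card α + ∑ i : Fin (Fintype.card α + p), (i : ℕ),
      SameCol p κ γ → (⟨ch α γ, isIrr_ch hγ hsγ⟩ : IrrCharacter (Equiv.Perm α)) ∈ BB := by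
    intro γ hγ hsγ hc
    refine Blocks.Basic.isPBlock_mem_of_sameBlock hBB hχ ?_
    rw [hχβ]
    exact sameBlock_of_sameCol hM hβ₀ hγ hs hsγ (hκc.trans hc)
  obtain ⟨φ, hφ, hφi⟩ := hdown _ (hmem β hβ hβs hβc)
  obtain ⟨ψ, hψ, hψi⟩ := hdown _ (hmem γ hγ hγs hγc)
  have dφ := degree_two (alternatingGroup α) hN2 (isIrr_ch hβ hβs) φ.2 hφi
  have dψ := degree_two (alternatingGroup α) hN2 (isIrr_ch hγ hγs) ψ.2 hψi
  rw [charDegree_ch hβ hβs] at dφ
  rw [charDegree_ch hγ hγs] at dψ
  have cN := card_perm_fact (α := α) (p := p)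
  rw [hcardN, Nat.factorization_mul two_ne_zero Nat.card_pos.ne', Finsupp.add_apply] at cN
  rw [← Nat.factorization_def _ hp.out] at vβ vγ
  have zφ := (charDegree_pos φ.2).1
  have zψ := (charDegree_pos ψ.2).1
  have hsplit : ∀ a : ℕ, 0 < a → (2 * a).factorization p = (2 : ℕ).factorization p + a.factorization p := fun a ha => by
    rw [Nat.factorization_mul two_ne_zero ha.ne', Finsupp.add_apply]
  intro H
  by_cases hp2 : p = 2
  · subst hp2
    rw [Nat.Prime.factorization_self Nat.prime_two] at cN hsplit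
    obtain ⟨c, hc, hcs⟩ := exists_odd_cyc hz (by omega)
    have h1 := card_inf_alternating (hz1 hc) hcs
    have hDc : Nat.card D = 2 ^ (w + 1 + padicValNat 2 (w + 2).factorial) := by
      rw [hPc, show w + 2 + padicValNat 2 (w + 2).factorial = w + 1 + padicValNat 2 (w + 2).factorial + 1 by ring,
        pow_succ] at h1
      rw [hcardD]
      omega
    have bφ := val_card_le hM hB hD hDc hφ
    have bψ := val_card_le hM hB hD hDc hψ
    have eφ : (FM (Multiset.replicate (Fintype.card α) 1) β).natAbs = charDegree (φ : alternatingGroup α → ℂ) := by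
      refine dφ.resolve_right fun h => ?_
      rw [h.1, hsplit _ zφ] at vβ
      omega
    have eψ : (FM (Multiset.replicate (Fintype.card α) 1) γ).natAbs = charDegree (ψ : alternatingGroup α → ℂ) := by
      refine dψ.resolve_right fun h => ?_
      rw [h.1, hsplit _ zψ] at vγ
      omega
    rw [eφ] at vβ hlt
    rw [eψ] at vγ hlt
    have h2 := H φ hφ ψ hψ (height_eq hM hB hD hDc hφ (by omega)) (height_eq hM hB hD hDc hψ (by (clear * - vγ cN; omega)))
    omega
  · have hinf : P ⊓ alternatingGroup α = P := inf_eq_left.mpr (le_alternating hp2 hPp)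
    have hDc : Nat.card D = p ^ (w + 2 + padicValNat p (w + 2).factorial) := by rw [hcardD, hinf, hPc]
    have h2p : (2 : ℕ).factorization p = 0 := by
      rw [Nat.factorization_eq_zero_iff]
      right; left
      intro h
      exact hp2 ((Nat.prime_dvd_prime_iff_eq hp.out Nat.prime_two).mp h)
    rw [h2p] at cN hsplit
    have eφ : (FM (Multiset.replicate (Fintype.card α) 1) β).natAbs = charDegree (φ : alternatingGroup α → ℂ) := by
      refine dφ.resolve_right fun h => ?_
      have hts : ((p * 2) ::ₘ Multiset.replicate w p).sum = p * (w + 2) := by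
        rw [Multiset.sum_cons, Multiset.sum_replicate, smul_eq_mul]; ring
      have h2 := hp.out.two_le
      obtain ⟨g, hg⟩ := (Equiv.Perm.exists_with_cycleType_iff α (m := (p * 2) ::ₘ Multiset.replicate w p)).mpr
        ⟨by rw [hts]; exact hpw, fun i hi => by
          rcases Multiset.mem_cons.1 hi with rfl | hi
          · omega
          · rw [Multiset.eq_of_mem_replicate hi]; exact h2⟩
      have hgs : g ∉ alternatingGroup α := by
        have h3 : Odd (p * (w + 2) + (w + 1)) := by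
          obtain ⟨k, rfl⟩ := hp.out.odd_of_ne_two hp2
          exact ⟨k * (w + 2) + w + 1, by ring⟩
        rw [Equiv.Perm.mem_alternatingGroup, Equiv.Perm.sign_of_cycleType, hg, hts, Multiset.card_cons,
          Multiset.card_replicate, h3.neg_one_pow]
        decide
      have h4 := h.2 g hgs
      rw [ch_apply, ty_eq, hg, hts] at h4
      exact hne (by exact_mod_cast h4)
    rw [eφ] at vβ hlt
    have vψ : (charDegree (ψ : alternatingGroup α → ℂ)).factorization p + (w + 2 + padicValNat p (w + 2).factorial) =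
        padicValNat p (Fintype.card α).factorial := by
      rcases dψ with h | h
      · rwa [h] at vγ
      · rwa [h.1, hsplit _ zψ, zero_add] at vγ
    have h2 := H φ hφ ψ hψ (height_eq hM hB hD hDc hφ (by omega)) (height_eq hM hB hD hDc hψ (by (clear * - cN vψ; omega)))
    rcases dψ with h | h
    · omega
    · have := h.1
      omega

end Cfsg.Agent.BZ.Alt
end

-- part: BZ/Alt/MainT
section
/-!
# BZ/Alt: the row `RowT` for the alternating groups (helper31)

* `cov_three` : the columns of an element of order four, of its square and of the identity;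
* `altT : For RowT CAlt`.
-/

set_option autoImplicit false
set_option linter.unusedSectionVars false
set_option maxHeartbeats 400000

namespace Cfsg.Agent.BZ.Alt

open Cfsg Cfsg.Agent.KM Subgroup Finset Cfsg.Agent.Characters.Core
open scoped ComplexConjugate

/-- a dihedral subgroup of order eight with fused involutions and small centralisers -/
def Dih (S : Type) [Group S] : Prop :=
  ∃ a b : S, a * a = 1 ∧ b * b = 1 ∧ (a * b) ^ 4 = 1 ∧ (a * b) ^ 2 ≠ 1 ∧ IsConj a ((a * b) ^ 2) ∧
    IsConj b ((a * b) ^ 2) ∧ Nat.card (centralizer ({a * b} : Set S)) ≤ 4 ∧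
    Nat.card (centralizer ({(a * b) ^ 2} : Set S)) ≤ 24

theorem dih_of {n : ℕ} (a b g k s s' : Equiv.Perm (Fin n)) (ha : Equiv.Perm.sign a = 1) (hb : Equiv.Perm.sign b = 1)
    (hg : Equiv.Perm.sign g = 1) (hk : Equiv.Perm.sign k = 1) (hs : Equiv.Perm.sign s = -1)
    (hs' : Equiv.Perm.sign s' = -1) (h1 : a * a = 1) (h2 : b * b = 1) (h3 : (a * b) ^ 4 = 1) (h4 : (a * b) ^ 2 ≠ 1)
    (h5 : g * a * g⁻¹ = (a * b) ^ 2) (h6 : k * b * k⁻¹ = (a * b) ^ 2) (h7 : s * (a * b) = (a * b) * s)
    (h8 : s' * (a * b) ^ 2 = (a * b) ^ 2 * s') (h9 : (a * b).cycleType = {4, 2})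
    (h10 : ((a * b) ^ 2).cycleType = {2, 2}) (hn : n = 6 ∨ n = 7) : Dih (alternatingGroup (Fin n)) := by
  refine ⟨⟨a, ha⟩, ⟨b, hb⟩, Subtype.ext h1, Subtype.ext h2, Subtype.ext h3, fun h => h4 (congrArg Subtype.val h),
    isConj_iff.2 ⟨⟨g, hg⟩, Subtype.ext h5⟩, isConj_iff.2 ⟨⟨k, hk⟩, Subtype.ext h6⟩, ?_, ?_⟩
  · have h := H610.TableAlt.two_mul_card (@HMul.hMul _ _ _ instHMul ⟨a, ha⟩ ⟨b, hb⟩) s hs h7
    rw [Equiv.Perm.nat_card_centralizer] at h
    change _ = (_ - (a * b).cycleType.sum).factorial * (a * b).cycleType.prod *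
      ∏ i ∈ (a * b).cycleType.toFinset, ((a * b).cycleType.count i).factorial at h
    rw [h9, Fintype.card_fin] at h
    have h' : (n - ({4, 2} : Multiset ℕ).sum).factorial * ({4, 2} : Multiset ℕ).prod *
        ∏ i ∈ ({4, 2} : Multiset ℕ).toFinset, (({4, 2} : Multiset ℕ).count i).factorial = 8 := by
      rcases hn with rfl | rfl <;> decide
    omega
  · have h := H610.TableAlt.two_mul_card ((@HPow.hPow _ _ _ instHPow (@HMul.hMul _ _ _ instHMul ⟨a, ha⟩ ⟨b, hb⟩) (2 : ℕ))) s' hs' h8
    rw [Equiv.Perm.nat_card_centralizer] at h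
    change _ = (_ - ((a * b) ^ 2).cycleType.sum).factorial * ((a * b) ^ 2).cycleType.prod *
      ∏ i ∈ ((a * b) ^ 2).cycleType.toFinset, (((a * b) ^ 2).cycleType.count i).factorial at h
    rw [h10, Fintype.card_fin] at h
    have h' : (n - ({2, 2} : Multiset ℕ).sum).factorial * ({2, 2} : Multiset ℕ).prod *
        ∏ i ∈ ({2, 2} : Multiset ℕ).toFinset, (({2, 2} : Multiset ℕ).count i).factorial ≤ 48 := by
      rcases hn with rfl | rfl <;> decide
    omega

theorem dih_alt {n : ℕ} (hn : n = 6 ∨ n = 7) : Dih (alternatingGroup (Fin n)) := by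
  rcases hn with rfl | rfl
  · refine dih_of (Equiv.swap 0 1 * Equiv.swap 2 3) (Equiv.swap 0 2 * Equiv.swap 4 5) (Equiv.swap 1 2 * Equiv.swap 4 5)
      (Equiv.swap 1 4 * Equiv.swap 3 5) (Equiv.swap 4 5) (Equiv.swap 0 2) ?_ ?_ ?_ ?_ ?_ ?_ ?_ ?_ ?_ ?_ ?_ ?_ ?_ ?_ ?_ ?_
      (Or.inl rfl)
    all_goals decide +kernel
  · refine dih_of (Equiv.swap 0 1 * Equiv.swap 2 3) (Equiv.swap 0 2 * Equiv.swap 4 5) (Equiv.swap 1 2 * Equiv.swap 4 5)
      (Equiv.swap 1 4 * Equiv.swap 3 5) (Equiv.swap 4 5) (Equiv.swap 0 2) ?_ ?_ ?_ ?_ ?_ ?_ ?_ ?_ ?_ ?_ ?_ ?_ ?_ ?_ ?_ ?_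
      (Or.inr rfl)
    all_goals decide +kernel

/-- the restriction to a dihedral group -/
theorem dih_sum {K : Type} [Group K] [Finite K] {χ : K → ℂ} (hχ : IsCharacter K χ) {a u : K} (ha : a * a = 1)
    (hu : u ^ 4 = 1) (hau : a * u * a = u⁻¹) (h1 : IsConj a (u ^ 2)) (h2 : IsConj (a * u) (u ^ 2)) :
    ∃ m : ℕ, χ 1 + 5 * χ (u ^ 2) + 2 * χ u = 8 * m := by
  obtain ⟨f, f1, f2⟩ := SporadicB.DihedralLift.exists_dihedral_hom 4 ha hu hau
  obtain ⟨m, hm⟩ := classInner_isNat (isCharacter_comp f hχ) isCharacter_one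
  refine ⟨m, ?_⟩
  have hc : ∀ {x y : K}, IsConj x y → χ x = χ y := fun h => by
    obtain ⟨g, rfl⟩ := isConj_iff.1 h
    exact (isCharacter_isClassFunction hχ _ g).symm
  have ha' : a⁻¹ = a := inv_eq_of_mul_eq_one_right ha
  have hu' : a * u = u⁻¹ * a := by rw [← hau, mul_assoc, ha, mul_one]
  have e3 : χ (u ^ 3) = χ u := (hc (isConj_iff.2 ⟨a, by
    rw [ha', hau, inv_eq_iff_mul_eq_one, ← pow_succ', hu]⟩)).symm
  have e4 : χ (a * u ^ 2) = χ a := (hc (isConj_iff.2 ⟨u⁻¹, by rw [← hu', inv_inv, mul_assoc, pow_two]⟩)).symm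
  have e5 : χ (a * u ^ 3) = χ (a * u) := (hc (isConj_iff.2 ⟨u⁻¹, by
    rw [← mul_assoc, ← hu', inv_inv, mul_assoc, mul_assoc, pow_succ', pow_two]⟩)).symm
  have hU : (univ : Finset (DihedralGroup 4)) = {.r ((0 : ℤ) : ZMod 4), .r ((1 : ℤ) : ZMod 4), .r ((2 : ℤ) : ZMod 4),
      .r ((3 : ℤ) : ZMod 4), .sr ((0 : ℤ) : ZMod 4), .sr ((1 : ℤ) : ZMod 4), .sr ((2 : ℤ) : ZMod 4),
      .sr ((3 : ℤ) : ZMod 4)} := by decide
  rw [classInner_def, hU, Finset.sum_insert (by decide), Finset.sum_insert (by decide), Finset.sum_insert (by decide),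
    Finset.sum_insert (by decide), Finset.sum_insert (by decide), Finset.sum_insert (by decide),
    Finset.sum_insert (by decide), Finset.sum_singleton, DihedralGroup.nat_card] at hm
  simp only [Function.comp_apply, f1, f2, Pi.one_apply, map_one, mul_one, zpow_ofNat, pow_zero, pow_one] at hm
  rw [e3, e4, e5, hc h1, hc h2] at hm
  push_cast at hm
  linear_combination 8 * hm

theorem four_false {d a₁ a₂ a₃ a₄ t₁ t₂ t₃ t₄ : ℤ} (hd : d % 2 = 1) (h1 : a₁ * a₁ = 1) (h2 : a₂ * a₂ = 1)
    (h3 : a₃ * a₃ = 1) (h4 : a₄ * a₄ = 1) (hs : a₁ * d + (a₂ * d + (a₃ * d + a₄ * d)) = 0)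
    (ht : a₁ * t₁ + (a₂ * t₂ + (a₃ * t₃ + a₄ * t₄)) = 0) (hb : t₁ * t₁ + (t₂ * t₂ + (t₃ * t₃ + t₄ * t₄)) ≤ 24)
    (c1 : (d + 5 * t₁ + 2 * a₁) % 8 = 0) (c2 : (d + 5 * t₂ + 2 * a₂) % 8 = 0) (c3 : (d + 5 * t₃ + 2 * a₃) % 8 = 0)
    (c4 : (d + 5 * t₄ + 2 * a₄) % 8 = 0) : False := by
  have key : ∀ t : ℤ, t * t ≤ 24 → -5 < t ∧ t < 5 := fun t h => ⟨by nlinarith only [h], by nlinarith only [h]⟩
  have q1 := mul_self_nonneg t₁
  have q2 := mul_self_nonneg t₂
  have q3 := mul_self_nonneg t₃
  have q4 := mul_self_nonneg t₄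
  have b1 := key t₁ (by omega)
  have b2 := key t₂ (by omega)
  have b3 := key t₃ (by omega)
  have b4 := key t₄ (by omega)
  clear key hb q1 q2 q3 q4
  rw [mul_self_eq_one_iff] at h1 h2 h3 h4
  have k : ∀ {a t t' : ℤ}, (d + 5 * t + 2 * a) % 8 = 0 → (d + 5 * t' + 2 * a) % 8 = 0 → -5 < t ∧ t < 5 →
      -5 < t' ∧ t' < 5 → t = t' := fun e1 e2 e3 e4 => by clear * - hd e1 e2 e3 e4; omega
  have k' : ∀ {t t' : ℤ}, (d + 5 * t + 2 * 1) % 8 = 0 → (d + 5 * t' + 2 * -1) % 8 = 0 → t ≠ t' :=
    fun e1 e2 => by clear * - e1 e2; omega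
  rcases h1 with rfl | rfl <;> rcases h2 with rfl | rfl <;> rcases h3 with rfl | rfl <;> rcases h4 with rfl | rfl
  · clear * - hd hs; omega
  · clear * - hd hs; omega
  · clear * - hd hs; omega
  · have e1 := k c1 c2 b1 b2; have e2 := k c3 c4 b3 b4; have e3 := k' c1 c3; clear * - e1 e2 e3 ht; omega
  · clear * - hd hs; omega
  · have e1 := k c1 c3 b1 b3; have e2 := k c2 c4 b2 b4; have e3 := k' c1 c2; clear * - e1 e2 e3 ht; omega
  · have e1 := k c1 c4 b1 b4; have e2 := k c2 c3 b2 b3; have e3 := k' c1 c2; clear * - e1 e2 e3 ht; omega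
  · clear * - hd hs; omega
  · clear * - hd hs; omega
  · have e1 := k c1 c4 b1 b4; have e2 := k c2 c3 b2 b3; have e3 := k' c2 c1; clear * - e1 e2 e3 ht; omega
  · have e1 := k c1 c3 b1 b3; have e2 := k c2 c4 b2 b4; have e3 := k' c2 c1; clear * - e1 e2 e3 ht; omega
  · clear * - hd hs; omega
  · have e1 := k c1 c2 b1 b2; have e2 := k c3 c4 b3 b4; have e3 := k' c3 c1; clear * - e1 e2 e3 ht; omega
  · clear * - hd hs; omega
  · clear * - hd hs; omega
  · clear * - hd hs; omega

/-- **the triple covers** -/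
theorem cov_three {S : Type} [Group S] (hS : Dih S) {K : Type} [Group K] [Finite K] {σ : K →* S} {M : Ideal AlgInt}
    {B : Set (IrrCharacter K)} {D : Subgroup K} (H : Hyp 2 M B D σ) (h3 : Nat.card (center K) = 3)
    (h8 : Nat.card D = 8) (h16 : ¬ 16 ∣ Nat.card K) : ¬ EqD 2 B := by
  classical
  intro hE
  have : Fact (Nat.Prime 2) := ⟨Nat.prime_two⟩
  have : Fact (Nat.Prime 3) := ⟨Nat.prime_three⟩
  have hMp : M.IsPrime := H.hM.2.1.isPrime
  have : Finite S := Finite.of_surjective σ H.surj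
  have : Finite (IrrCharacter K) := finite_irr
  let _ : Fintype (IrrCharacter K) := Fintype.ofFinite _
  let _ : Fintype K := Fintype.ofFinite _
  have hz3 : ∀ x : K, σ x = 1 → x ∈ center K ∧ x ^ 3 = 1 := fun x hx => by
    have h1 : x ∈ center K := H.ker ▸ hx
    exact ⟨h1, by rw [← h3]; exact congrArg Subtype.val (pow_card_eq_one' (x := (⟨x, h1⟩ : center K)))⟩
  have uniq : ∀ x y : K, σ x = σ y → x ^ 4 = 1 → y ^ 4 = 1 → x = y := fun x y h hx hy => by
    obtain ⟨h1, h2⟩ := hz3 (x * y⁻¹) (by rw [map_mul, map_inv, h, mul_inv_cancel])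
    have h4 : Commute (x * y⁻¹) y := (mem_center_iff.1 h1 y).symm
    have h5 := h4.mul_pow 4
    rw [inv_mul_cancel_right, hx, hy, mul_one, pow_succ, h2, one_mul] at h5
    exact mul_inv_eq_one.1 h5.symm
  have lift : ∀ s : S, s * s = 1 → ∃ x : K, σ x = s ∧ x * x = 1 := fun s hs => by
    obtain ⟨x, rfl⟩ := H.surj s
    refine ⟨x ^ 3, by rw [map_pow, pow_succ, pow_two, hs, one_mul], ?_⟩
    have h1 := (hz3 (x ^ 2) (by rw [map_pow, pow_two, hs])).2
    rw [← pow_add, ← h1, ← pow_mul]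
  have conj4 : ∀ x y : K, IsConj (σ x) (σ y) → x ^ 4 = 1 → y ^ 4 = 1 → IsConj x y := fun x y h hx hy => by
    obtain ⟨g, hg⟩ := isConj_iff.1 h
    obtain ⟨g, rfl⟩ := H.surj g
    exact isConj_iff.2 ⟨g, uniq _ _ (by rw [map_mul, map_mul, map_inv, hg])
      (by rw [conj_pow, hx, mul_one, mul_inv_cancel]) hy⟩
  obtain ⟨a₀, b₀, ha₀, hb₀, s4, s2, sa, sb, cu, ct⟩ := hS
  obtain ⟨a, rfl, ha⟩ := lift a₀ ha₀
  obtain ⟨b, rfl, hb⟩ := lift b₀ hb₀
  obtain ⟨u, hu⟩ : ∃ u, u = a * b := ⟨_, rfl⟩
  rw [← map_mul, ← hu] at s4 s2 sa sb cu ct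
  rw [← map_pow] at s4 s2 sa sb ct
  have ha' : a⁻¹ = a := inv_eq_of_mul_eq_one_right ha
  have hau : a * u * a = u⁻¹ := by
    rw [hu, ← mul_assoc, ha, one_mul, mul_inv_rev, ha', inv_eq_of_mul_eq_one_right hb]
  have hu4 : u ^ 4 = 1 := by
    obtain ⟨h1, h2⟩ := hz3 _ s4
    have h4 : a * u ^ 4 * a⁻¹ = (u ^ 4)⁻¹ := by rw [← conj_pow, ha', hau, inv_pow]
    rw [mem_center_iff.1 h1 a, mul_inv_cancel_right, eq_inv_iff_mul_eq_one] at h4
    rwa [pow_succ, pow_two, h4, one_mul] at h2
  have sq4 : ∀ x : K, x * x = 1 → x ^ 4 = 1 := fun x hx => by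
    rw [show 4 = 2 * 2 from rfl, pow_mul, pow_two x, hx, one_pow]
  have ht2 : u ^ 2 * u ^ 2 = 1 := by rw [← pow_add, hu4]
  have c1 : IsConj a (u ^ 2) := conj4 _ _ sa (sq4 a ha) (sq4 _ ht2)
  have c2 : IsConj (a * u) (u ^ 2) := by
    rw [show a * u = b by rw [hu, ← mul_assoc, ha, one_mul]]
    exact conj4 _ _ sb (sq4 b hb) (sq4 _ ht2)
  have hu2 : u ^ 2 ≠ 1 := fun h => s2 (by rw [h, map_one])
  have hord : orderOf u = 2 ^ 2 := orderOf_eq_prime_pow (n := 1) hu2 hu4
  -- the centre
  obtain ⟨z, hz⟩ := exists_prime_orderOf_dvd_card' (G := center K) 3 h3.symm.dvd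
  rw [← orderOf_coe] at hz
  have hz' : (z : K) ^ 3 = 1 := by rw [← hz, pow_orderOf_eq_one]
  have hk : ∀ (g h : K) (k : ℕ), g ^ 4 = 1 → h ^ 4 = 1 → k < 3 → IsConj (g * (z : K) ^ k) h → k = 0 := by
    intro g h k hg hh hk hc
    obtain ⟨c, rfl⟩ := isConj_iff.1 hc
    have h1 : Commute g ((z : K) ^ k) := mem_center_iff.1 (pow_mem z.2 k) g
    rw [conj_pow, mul_inv_eq_one, mul_eq_left, h1.mul_pow, hg, one_mul, ← pow_mul, ← orderOf_dvd_iff_pow_eq_one,
      hz] at hh
    omega
  obtain ⟨-, h4⟩ := eight H.hM H.hB H.hD h8 H.nab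
  obtain ⟨T, hT⟩ : ∃ T : Finset (IrrCharacter K), ∀ χ, χ ∈ T ↔ χ ∈ B ∧ blockHeight 2 B (χ : K → ℂ) = 0 :=
    ⟨univ.filter fun χ => χ ∈ B ∧ blockHeight 2 B (χ : K → ℂ) = 0,
      fun χ => by rw [Finset.mem_filter]; exact and_iff_right (mem_univ _)⟩
  have hT4 : T.card = 4 := by
    rw [← h4, ← Fintype.card_coe, ← Nat.card_eq_fintype_card]
    exact Nat.card_congr (Equiv.subtypeEquivRight hT)
  obtain ⟨ψ, hψ⟩ : T.Nonempty := Finset.card_pos.1 (by omega)
  obtain ⟨c, hc⟩ : ∃ c, c = (ψ : K → ℂ) z / (ψ : K → ℂ) 1 := ⟨_, rfl⟩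
  have hc3 : c ^ 3 = 1 := by rw [hc, ← hz]; exact BZ.T.cen_root ψ.2 z.2
  have hTL : T ⊆ H725.Lam.Lam (z : K) c := fun χ hχ => by
    rw [H725.Lam.mem_Lam, hc, H.ce.ov H.hM ψ.2 χ.2 (Blocks.Basic.isPBlock_sameBlock H.hB ((hT ψ).1 hψ).1
      ((hT χ).1 hχ).1) z (by rw [H.ker]; exact z.2), div_mul_cancel₀ _ (isIrr_apply_one_ne_zero χ.2)]
  have hodd : ∀ χ ∈ T, ¬ 2 ∣ charDegree (χ : K → ℂ) := fun χ hχ h2 => by
    have h5 : 1 ≤ (charDegree (χ : K → ℂ)).factorization 2 :=
      Nat.prime_two.factorization_pos_of_dvd (H614.charDegree_pos χ.2).1.ne' h2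
    have h6 : (Nat.card K).factorization 2 < 4 := by
      by_contra h7
      exact h16 ((Nat.prime_two.pow_dvd_iff_le_factorization Nat.card_pos.ne').2 (not_lt.1 h7))
    have h7 := H614.height_eq H.hM H.hB H.hD (d := 3) h8 ((hT χ).1 hχ).1
      (k := (charDegree (χ : K → ℂ)).factorization 2 + 3 - (Nat.card K).factorization 2) (by omega)
    rw [((hT χ).1 hχ).2] at h7
    omega
  have hval : ∀ χ : IrrCharacter K, ∃ x y : ℤ, (χ : K → ℂ) u = x ∧ (χ : K → ℂ) (u ^ 2) = y ∧
      ((charDegree (χ : K → ℂ) : ℤ) + 5 * y + 2 * x) % 8 = 0 := fun χ => by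
    have hχ := isIrr_isCharacter χ.2
    obtain ⟨x, hx⟩ := J3Type.CharTools.int_of_conj hχ u fun m hm => by
      rw [hord, Nat.coprime_pow_right_iff two_pos, Nat.coprime_two_right, Nat.odd_iff] at hm
      rw [← pow_mod_orderOf, hord]
      have h5 : m % 2 ^ 2 = 1 ∨ m % 2 ^ 2 = 3 := by omega
      rcases h5 with h5 | h5 <;> rw [h5]
      · rw [pow_one]
      · exact isConj_iff.2 ⟨a, by rw [ha', hau, inv_eq_iff_mul_eq_one, ← pow_succ', hu4]⟩
    obtain ⟨y, hy⟩ := J3Type.CharTools.int_of_conj hχ (u ^ 2) fun m hm => by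
      have h5 : orderOf (u ^ 2) = 2 := orderOf_eq_prime (by rw [pow_two, ht2]) hu2
      rw [h5, Nat.coprime_two_right, Nat.odd_iff] at hm
      rw [← pow_mod_orderOf (u ^ 2) m, h5, hm, pow_one]
    obtain ⟨m, hm⟩ := dih_sum hχ ha hu4 hau c1 c2
    rw [hx, hy, (H614.charDegree_pos χ.2).2] at hm
    have h5 : (charDegree (χ : K → ℂ) : ℤ) + 5 * y + 2 * x = 8 * m := by exact_mod_cast hm
    exact ⟨x, y, hx, hy, by omega⟩
  choose x y hx hy hxy using hval
  have hcen : ∀ (g : K) (v : IrrCharacter K → ℤ) (N : ℕ), g ^ 4 = 1 → (∀ χ : IrrCharacter K, (χ : K → ℂ) g = v χ) →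
      Nat.card (centralizer ({σ g} : Set S)) ≤ N → ∑ χ ∈ H725.Lam.Lam (z : K) c, v χ * v χ ≤ N := by
    intro g v N hg hv hN
    have h1 := H725.Lam.orth z.2 hz' three_ne_zero hc3 g g (fun k h1 h2 h => h2 (hk g g k hg hg h1 h)) (IsConj.refl g)
    have h2 := Nat.le_of_dvd (Nat.mul_pos Nat.card_pos Nat.card_pos) (H637.TaskA.card_centralizer_dvd_mul σ g)
    rw [H.ker, h3] at h2
    simp only [hv, map_intCast] at h1
    have h5 : 3 * ∑ χ ∈ H725.Lam.Lam (z : K) c, v χ * v χ = Nat.card (centralizer ({g} : Set K)) := by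
      have h6 : ((3 * ∑ χ ∈ H725.Lam.Lam (z : K) c, v χ * v χ : ℤ) : ℂ) =
          ((Nat.card (centralizer ({g} : Set K)) : ℤ) : ℂ) := by
        push_cast at h1 ⊢
        rw [h1, mul_inv_cancel_left₀ three_ne_zero]
      exact_mod_cast h6
    omega
  have n1 := hcen u x 4 hu4 hx cu
  have n2 := hcen (u ^ 2) y 24 (sq4 _ ht2) hy ct
  rw [← Finset.sum_sdiff hTL] at n1 n2
  have p1 : ∀ χ ∈ T, 1 ≤ x χ * x χ := fun χ hχ => by
    have h5 : x χ ≠ 0 := fun h => hodd χ hχ (BZ.T.dvd_of_van ⟨2, hord⟩ (by rw [hx, h, Int.cast_zero]))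
    exact mul_self_pos.2 h5
  have p2 : 0 ≤ ∑ χ ∈ H725.Lam.Lam (z : K) c \ T, x χ * x χ := Finset.sum_nonneg fun _ _ => mul_self_nonneg _
  have p3 : 0 ≤ ∑ χ ∈ H725.Lam.Lam (z : K) c \ T, y χ * y χ := Finset.sum_nonneg fun _ _ => mul_self_nonneg _
  have p4 : (4 : ℤ) ≤ ∑ χ ∈ T, x χ * x χ := by
    have h5 := Finset.sum_le_sum p1
    rwa [Finset.sum_const, hT4] at h5
  have p5 : ∀ χ ∈ H725.Lam.Lam (z : K) c \ T, x χ = 0 := fun χ hχ => mul_self_eq_zero.1
    ((Finset.sum_eq_zero_iff_of_nonneg fun _ _ => mul_self_nonneg _).1 (by omega) χ hχ)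
  have hort : ∀ (g : K) (v : IrrCharacter K → ℤ), g * g = 1 → (∀ χ : IrrCharacter K, (χ : K → ℂ) g = v χ) →
      ∑ χ ∈ T, x χ * v χ = 0 := by
    intro g v hg hv
    have h1 := H725.Lam.orth_zero z.2 hz' three_ne_zero hc3 u g fun k h1 h => by
      rw [hk u g k hu4 (sq4 g hg) h1 h, pow_zero, mul_one] at h
      obtain ⟨w, rfl⟩ := isConj_iff.1 h
      rw [← pow_two, conj_pow, mul_inv_eq_one, mul_eq_left] at hg
      exact hu2 hg
    rw [← Finset.sum_sdiff hTL, Finset.sum_eq_zero (fun χ hχ => by rw [hx, p5 χ hχ, Int.cast_zero, zero_mul]),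
      zero_add] at h1
    simp only [hx, hv, map_intCast] at h1
    exact_mod_cast h1
  have o1 := hort 1 (fun χ => charDegree (χ : K → ℂ)) (mul_one 1) fun χ => by
    rw [(H614.charDegree_pos χ.2).2, Int.cast_natCast]
  have o2 := hort (u ^ 2) y ht2 hy
  have hd : ∀ χ ∈ T, charDegree (χ : K → ℂ) = charDegree (ψ : K → ℂ) := fun χ hχ =>
    hE χ ((hT χ).1 hχ).1 ψ ((hT ψ).1 hψ).1 ((hT χ).1 hχ).2 ((hT ψ).1 hψ).2
  have hxy' : ∀ χ ∈ T, ((charDegree (ψ : K → ℂ) : ℤ) + 5 * y χ + 2 * x χ) % 8 = 0 := fun χ hχ => by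
    rw [← hd χ hχ]; exact hxy χ
  rw [Finset.sum_congr rfl fun χ hχ => by rw [hd χ hχ]] at o1
  have hψ2 := hodd ψ hψ
  obtain ⟨χ₁, χ₂, χ₃, χ₄, e12, e13, e14, e23, e24, e34, rfl⟩ := Finset.card_eq_four.1 hT4
  have hsum : ∀ F : IrrCharacter K → ℤ, ∑ χ ∈ ({χ₁, χ₂, χ₃, χ₄} : Finset (IrrCharacter K)), F χ =
      F χ₁ + (F χ₂ + (F χ₃ + F χ₄)) := fun F => by
    rw [Finset.sum_insert (by simp [e12, e13, e14]), Finset.sum_insert (by simp [e23, e24]), Finset.sum_pair e34]
  rw [hsum] at n1 n2 o1 o2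
  have q1 := p1 χ₁ (by simp)
  have q2 := p1 χ₂ (by simp)
  have q3 := p1 χ₃ (by simp)
  have q4 := p1 χ₄ (by simp)
  exact four_false (d := charDegree (ψ : K → ℂ)) (by omega) (by omega) (by omega) (by omega) (by omega) o1 o2 (by omega)
    (hxy' χ₁ (by simp)) (hxy' χ₂ (by simp)) (hxy' χ₃ (by simp)) (hxy' χ₄ (by simp))

/-- **the row `RowT` for the alternating groups** -/
theorem altT : For RowT CAlt :=
  row_alt XT (fun _ _ _ _ _ e _ h => eqD_map e h)
    (fun p _ n hn M B D hM hB hD hna => by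
      have : Nontrivial (Fin n) := Fin.nontrivial_iff_two_le.2 (by omega)
      exact altA hM hB hD hna)
    (fun _ _ _ _ h => h.2) fun _ hn _ _ _ _ _ _ _ H h3 =>
      cov_three (dih_alt hn) H h3 (card_eight hn H h3).1 (card_eight hn H h3).2

end Cfsg.Agent.BZ.Alt
end
end
end
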